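import Mathlib
import Cfsg.Agent.H189.Eig
import Cfsg.Agent.TwoF.XE.Wt_m3
import Cfsg.Agent.StandardComponent.AltAut
import Cfsg.Agent.S0892
import Cfsg.Agent.S2116
import Cfsg.Agent.SporRec.TwoAn
import Cfsg.Agent.H189.AltTwo
import Cfsg.Agent.OddOrderLocal.Rank
import Cfsg.Agent.TwoF.Gen.BLay_m3
import Cfsg.Agent.H189.FeitTits
import Cfsg.Agent.H138.HT.Alt
import Cfsg.Agent.H570.AltBad
import Cfsg.Agent.Lib.FastPerm
import Cfsg.Agent.OddHalf.D9.EEight.Id.InnerCore_m3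
import Cfsg.Agent.H203.LSTor_m3
import Cfsg.Agent.Mrg.Omega.TwoF.GTwoOut_mg
import Cfsg.Agent.S2101
import Cfsg.Agent.TwoF.XS.S62.Main_mg_m3
import Cfsg.Agent.TwoF.DC.D1.Main_m3
import Cfsg.Agent.H199.PslAut
import Cfsg.Agent.TwoF.DC.Pow.Main_m3
import Cfsg.Agent.Lib.FinFast
import Cfsg.Agent.FastGrp
import Cfsg.Agent.Prune
set_option linter.all false

section
prune_inst 0x7fbcbcf8adbcaddfffff7e7fa6d8cffc39901fffe6dff943ffe069ff0b9f03800bc5fb8f09e010fe0ed6e01410b87843f97eceffea6bdc7ffffd5ff41ffbee0ff5f7b500119798340f3c2fff83f0778a7f3fffffffffffffffffffffffffffbeffbfffffffff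

-- part: TwoF/Alt/Nat
section
prune_inst 0x404307424010000000018059241001c06ca0001000008800088600e040e80ee0200030061b4c00502002a004440310028131000104010000000008400011d00a084ab56668258a00c240007801804400000000000000000000000000000000004000000000
set_option linter.all false
open scoped Cfsg.Agent.FastGrp

-- part: TwoF/Alt/Perm
section
/-!
# TwoF, alternating groups: permutation lemmas (helper10)

`Full Γ Y`: `Γ` contains all 3-cycles on `Y`.  `gen_beta`: three conjugates of a fixed point free element of order `p` on `O`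
give the alternating group of `O`; `gen_alpha`: two orbits meeting in one point.
-/

set_option autoImplicit false
set_option linter.unusedSectionVars false

namespace Cfsg.Agent.TwoF.Alt

open Equiv Equiv.Perm Cfsg.Agent.H189.Cyc

variable {Ω : Type} [Fintype Ω] [DecidableEq Ω]

theorem apply_inv_self (σ : Perm Ω) (x : Ω) : σ (σ⁻¹ x) = x := σ.apply_symm_apply x

theorem inv_apply_self (σ : Perm Ω) (x : Ω) : σ⁻¹ (σ x) = x := σ.symm_apply_apply x

/-- `σ` normalises `Γ` -/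
def Nrm (Γ : Subgroup (Perm Ω)) (σ : Perm Ω) : Prop := ∀ γ ∈ Γ, σ * γ * σ⁻¹ ∈ Γ

theorem full_image {Γ : Subgroup (Perm Ω)} {Y : Set Ω} (h : Full Γ Y) {σ : Perm Ω} (hσ : Nrm Γ σ) :
    Full Γ (σ '' Y) := by
  rintro _ ⟨a, ha, rfl⟩ _ ⟨b, hb, rfl⟩ _ ⟨c, hc, rfl⟩ hab hac hbc
  rw [← conj_c3]
  exact hσ _ (h a ha b hb c hc (fun e => hab (by rw [e])) (fun e => hac (by rw [e])) (fun e => hbc (by rw [e])))

/-- three distinct points -/
def Three (Y : Set Ω) : Prop := ∃ a ∈ Y, ∃ b ∈ Y, ∃ c ∈ Y, a ≠ b ∧ a ≠ c ∧ b ≠ c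

theorem Three.two {Y : Set Ω} (h : Three Y) (y : Ω) : ∃ a ∈ Y, ∃ b ∈ Y, a ≠ b ∧ a ≠ y ∧ b ≠ y := by
  obtain ⟨a, ha, b, hb, c, hc, h1, h2, h3⟩ := h
  by_cases e1 : a = y
  · exact ⟨b, hb, c, hc, h3, by rw [← e1]; exact h1.symm, by rw [← e1]; exact h2.symm⟩
  by_cases e2 : b = y
  · exact ⟨a, ha, c, hc, h2, e1, by rw [← e2]; exact h3.symm⟩
  exact ⟨a, ha, b, hb, h1, e1, e2⟩

theorem Three.image {Y : Set Ω} (h : Three Y) (σ : Perm Ω) : Three (σ '' Y) := by
  obtain ⟨a, ha, b, hb, c, hc, h1, h2, h3⟩ := h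
  exact ⟨_, ⟨a, ha, rfl⟩, _, ⟨b, hb, rfl⟩, _, ⟨c, hc, rfl⟩, σ.injective.ne h1, σ.injective.ne h2, σ.injective.ne h3⟩

/-- one common point is enough -/
theorem full_union_one {Γ : Subgroup (Perm Ω)} {Y Z : Set Ω} (hY : Full Γ Y) (hZ : Full Γ Z) (tY : Three Y)
    (tZ : Three Z) {y : Ω} (h1 : y ∈ Y) (h2 : y ∈ Z) : Full Γ (Y ∪ Z) := by
  by_cases h : ∃ y' ∈ Y, y' ∈ Z ∧ y' ≠ y
  · obtain ⟨y', a1, a2, a3⟩ := h
    exact hY.union hZ a3 a1 h1 a2 h2
  push Not at h
  obtain ⟨a, ha, b, hb, hab, hay, hby⟩ := tY.two y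
  apply full_of_pair hab
  intro x hx hxa hxb
  by_cases hxY : x ∈ Y
  · exact hY a ha b hb x hxY hab hxa.symm hxb.symm
  have hxZ : x ∈ Z := hx.resolve_left hxY
  have hxy : x ≠ y := fun e => hxY (e ▸ h1)
  obtain ⟨d, hd, hdy, hdx⟩ : ∃ d ∈ Z, d ≠ y ∧ d ≠ x := by
    obtain ⟨c, hc, d, hd, hcd, hcy, hdy⟩ := tZ.two y
    by_cases e : c = x
    · exact ⟨d, hd, hdy, by rw [← e]; exact hcd.symm⟩
    · exact ⟨c, hc, hcy, e⟩
  have had : a ≠ d := fun e => hay (h a ha (e ▸ hd))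
  have hbd : b ≠ d := fun e => hby (h b hb (e ▸ hd))
  have m1 := hY a ha b hb y h1 hab hay hby
  have m2 := hZ y h2 x hxZ d hd hxy.symm hdy.symm hdx.symm
  have m3 := mul_mem (mul_mem m2 m1) (inv_mem m2)
  rwa [conj_c3, c3_other hay hxa.symm had, c3_other hby hxb.symm hbd, c3_fst hxy.symm hdy.symm] at m3

/-- the block through two points -/
def blk (Γ : Subgroup (Perm Ω)) (y1 y2 : Ω) : Set Ω := {x | x = y1 ∨ x = y2 ∨ c3 y1 y2 x ∈ Γ}

theorem full_blk (Γ : Subgroup (Perm Ω)) {y1 y2 : Ω} (h : y1 ≠ y2) : Full Γ (blk Γ y1 y2) := by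
  apply full_of_pair h
  rintro x (h1 | h1 | h1) h2 h3
  · exact absurd h1 h2
  · exact absurd h1 h3
  · exact h1

theorem blk_inv {Γ : Subgroup (Perm Ω)} {y1 y2 : Ω} (h : y1 ≠ y2) (t : Three (blk Γ y1 y2)) {σ : Perm Ω}
    (hσ : Nrm Γ σ) {s : Ω} (hs : s ∈ blk Γ y1 y2) (hs' : σ s ∈ blk Γ y1 y2) {x : Ω} (hx : x ∈ blk Γ y1 y2) :
    σ x ∈ blk Γ y1 y2 := by
  have F := full_union_one (full_blk Γ h) (full_image (full_blk Γ h) hσ) t (t.image σ) hs' ⟨s, hs, rfl⟩
  by_cases e1 : σ x = y1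
  · exact Or.inl e1
  by_cases e2 : σ x = y2
  · exact Or.inr (Or.inl e2)
  exact Or.inr (Or.inr (F y1 (Or.inl (Or.inl rfl)) y2 (Or.inl (Or.inr (Or.inl rfl))) _ (Or.inr ⟨x, hx, rfl⟩) h
    (Ne.symm e1) (Ne.symm e2)))

/-- supported in `S` -/
def Sup (σ : Perm Ω) (S : Set Ω) : Prop := ∀ x, x ∉ S → σ x = x

theorem Sup.mul {σ τ : Perm Ω} {S : Set Ω} (h : Sup σ S) (h' : Sup τ S) : Sup (σ * τ) S :=
  fun x hx => by rw [mul_apply, h' x hx, h x hx]

theorem Sup.inv {σ : Perm Ω} {S : Set Ω} (h : Sup σ S) : Sup σ⁻¹ S :=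
  fun x hx => by rw [Perm.inv_eq_iff_eq, h x hx]

theorem Sup.mem {σ : Perm Ω} {S : Set Ω} (h : Sup σ S) {x : Ω} (hx : x ∈ S) : σ x ∈ S := by
  by_contra h1
  have := h _ h1
  rw [σ.injective this] at h1
  exact h1 hx

theorem Sup.mono {σ : Perm Ω} {S T : Set Ω} (h : Sup σ S) (hS : S ⊆ T) : Sup σ T :=
  fun x hx => h x fun h1 => hx (hS h1)

theorem sup_swap {S : Set Ω} {a b : Ω} (ha : a ∈ S) (hb : b ∈ S) : Sup (swap a b) S :=
  fun _ hx => swap_apply_of_ne_of_ne (fun e => hx (e ▸ ha)) (fun e => hx (e ▸ hb))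

theorem sup_c3 {S : Set Ω} {a b c : Ω} (ha : a ∈ S) (hb : b ∈ S) (hc : c ∈ S) : Sup (c3 a b c) S :=
  (sup_swap ha hb).mul (sup_swap hb hc)

theorem Sup.comm {σ τ : Perm Ω} {S : Set Ω} (h : Sup σ S) (h' : ∀ x ∈ S, τ x = x) : σ * τ = τ * σ := by
  ext x
  rw [mul_apply, mul_apply]
  by_cases hx : x ∈ S
  · rw [h' x hx, h' _ (h.mem hx)]
  · rw [h x hx]
    apply h
    intro h1
    have := h' _ h1
    rw [τ.injective this] at h1
    exact hx h1

/-- conjugating an element supported in `S` by an element preserving the complement -/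
theorem Sup.conj {σ τ : Perm Ω} {S : Set Ω} (h : Sup σ S) (h' : ∀ x ∈ S, τ x ∈ S) : Sup (τ * σ * τ⁻¹) S := by
  intro x hx
  rw [mul_apply, mul_apply, h, apply_inv_self]
  intro h1
  have := h' _ h1
  rw [apply_inv_self] at this
  exact hx this

theorem pow_ne_of_prime {b : Perm Ω} {p : ℕ} (hp : p.Prime) (hb : b ^ p = 1) {x : Ω} (hx : b x ≠ x) {k : ℕ}
    (h0 : 0 < k) (hk : k < p) : (b ^ k) x ≠ x := by
  intro h
  have h1 : ∀ m : ℕ, (b ^ (k * m)) x = x := by
    intro m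
    rw [pow_mul]
    exact Function.IsFixedPt.perm_pow h m
  have hc : Nat.Coprime k p := (Nat.coprime_of_lt_prime h0.ne' hk hp).symm
  obtain ⟨m, -, hm⟩ := Nat.exists_mul_mod_eq_one_of_coprime hc hp.one_lt
  have h2 := h1 m
  rw [← Nat.mod_add_div (k * m) p, hm, pow_add, pow_mul, hb, one_pow, mul_one, pow_one] at h2
  exact hx h2

/-- the first 3-cycle -/
theorem exists_first {b : Perm Ω} {p : ℕ} (hp : p.Prime) (hb : b ^ p = 1) {O : Finset Ω} (hO : ∀ x ∈ O, b x ∈ O)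
    (hf : ∀ x ∈ O, b x ≠ x) (hc : 5 ≤ p ∨ (p = 3 ∧ 7 ≤ O.card)) {x : Ω} (hx : x ∈ O) :
    ∃ h : Perm Ω, sign h = 1 ∧ Sup h O ∧ ∃ z, z ≠ x ∧ z ≠ b x ∧ b * h * b⁻¹ * h⁻¹ = c3 x z (b x) := by
  have ne : ∀ y ∈ O, ∀ k, 0 < k → k < p → (b ^ k) y ≠ y := fun y hy k h0 hk => pow_ne_of_prime hp hb (hf y hy) h0 hk
  rcases hc with hc | ⟨rfl, hc⟩
  · have n1 : b x ≠ x := hf x hx
    have n2 : b (b x) ≠ x := ne x hx 2 (by omega) (by omega)
    have n3 : b (b (b x)) ≠ x := ne x hx 3 (by omega) (by omega)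
    have n4 : b (b x) ≠ b x := b.injective.ne n1
    have n5 : b (b (b x)) ≠ b x := b.injective.ne n2
    have n6 : b (b (b x)) ≠ b (b x) := b.injective.ne n4
    refine ⟨c3 x (b x) (b (b x)), sign_c3 n1.symm n4.symm, sup_c3 hx (hO _ hx) (hO _ (hO _ hx)), b (b (b x)), n3, n5, ?_⟩
    rw [conj_c3, c3_inv]
    ext y
    rw [mul_apply]
    by_cases e1 : y = x
    · rw [e1, c3_trd, c3_snd n5.symm n6.symm, c3_fst n3.symm n1.symm]
    by_cases e2 : y = b x
    · rw [e2, c3_snd n2 n1, c3_other n1.symm n2.symm n3.symm, c3_trd]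
    by_cases e3 : y = b (b x)
    · rw [e3, c3_fst n4 n2, c3_fst n4.symm n5.symm, c3_other n2 n6.symm n4]
    by_cases e4 : y = b (b (b x))
    · rw [e4, c3_other n6 n5 n3, c3_trd, c3_snd n1.symm n5]
    rw [c3_other e3 e2 e1, c3_other e2 e3 e4, c3_other e1 e4 e2]
  · have b3 : ∀ y, b (b (b y)) = y := fun y => by
      have := congrArg (fun σ : Perm Ω => σ y) hb
      simpa only [pow_succ, _root_.pow_zero, _root_.one_mul, _root_.Equiv.Perm.coe_mul, _root_.Function.comp_apply, _root_.Equiv.Perm.coe_one, _root_.id_eq] using this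
    have n1 : ∀ y ∈ O, b y ≠ y := hf
    have n2 : ∀ y ∈ O, b (b y) ≠ y := fun y hy => ne y hy 2 (by omega) (by omega)
    obtain ⟨y, hy, hy'⟩ : ∃ y ∈ O, y ∉ ({x, b x, b (b x)} : Finset Ω) := by
      apply Finset.exists_mem_notMem_of_card_lt_card
      exact lt_of_le_of_lt Finset.card_le_three (by omega)
    obtain ⟨w, hw, hw'⟩ : ∃ w ∈ O, w ∉ ({x, b x, b (b x)} ∪ {y, b y, b (b y)} : Finset Ω) := by
      apply Finset.exists_mem_notMem_of_card_lt_card
      have a1 : ({x, b x, b (b x)} : Finset Ω).card ≤ 3 := Finset.card_le_three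
      have a2 : ({y, b y, b (b y)} : Finset Ω).card ≤ 3 := Finset.card_le_three
      have := Finset.card_union_le ({x, b x, b (b x)} : Finset Ω) {y, b y, b (b y)}
      omega
    simp only [Finset.mem_union, Finset.mem_insert, Finset.mem_singleton, not_or] at hy' hw'
    obtain ⟨-, w1, w2, w3⟩ := hw'
    have c1 : b w ≠ y := fun e => w3 (by rw [← e, b3])
    have c2 : b (b w) ≠ y := fun e => w2 (by rw [← e, b3])
    have d1 : (swap y w).Disjoint (swap (b y) (b w)) := disjoint_swap_swap (by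
      simp only [List.nodup_cons, List.mem_cons, List.not_mem_nil, or_false, not_or, List.nodup_nil, and_true,
        not_false_eq_true]
      exact ⟨⟨Ne.symm w1, (n1 y hy).symm, c1.symm⟩, ⟨w2, (n1 w hw).symm⟩, b.injective.ne (Ne.symm w1)⟩)
    have d2 : (swap y w).Disjoint (swap (b (b y)) (b (b w))) := disjoint_swap_swap (by
      simp only [List.nodup_cons, List.mem_cons, List.not_mem_nil, or_false, not_or, List.nodup_nil, and_true,
        not_false_eq_true]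
      exact ⟨⟨Ne.symm w1, (n2 y hy).symm, c2.symm⟩, ⟨w3, (n2 w hw).symm⟩,
        b.injective.ne (b.injective.ne (Ne.symm w1))⟩)
    set τ := swap y w * swap (b y) (b w) * swap (b (b y)) (b (b w)) with hτ
    have hbτ : b * τ * b⁻¹ = τ := by
      have e : b * τ * b⁻¹ = (b * swap y w * b⁻¹) * (b * swap (b y) (b w) * b⁻¹) *
          (b * swap (b (b y)) (b (b w)) * b⁻¹) := by rw [hτ]; group
      rw [e, ← swap_apply_apply, ← swap_apply_apply, ← swap_apply_apply, b3, b3, hτ, mul_assoc, ← d2.commute.eq,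
        ← mul_assoc, ← d1.commute.eq]
    have m1 : b x ≠ x := n1 x hx
    have m2 : b (b x) ≠ x := n2 x hx
    have m3 : b (b x) ≠ b x := b.injective.ne m1
    refine ⟨swap x (b x) * τ, ?_, ?_, b (b x), m2, m3, ?_⟩
    · rw [hτ, Perm.sign_mul, Perm.sign_mul, Perm.sign_mul, sign_swap m1.symm, sign_swap (Ne.symm w1),
        sign_swap (b.injective.ne (Ne.symm w1)), sign_swap (b.injective.ne (b.injective.ne (Ne.symm w1)))]
      decide
    · exact (sup_swap hx (hO _ hx)).mul (((sup_swap hy hw).mul (sup_swap (hO _ hy) (hO _ hw))).mul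
        (sup_swap (hO _ (hO _ hy)) (hO _ (hO _ hw))))
    · have e : b * (swap x (b x) * τ) * b⁻¹ * (swap x (b x) * τ)⁻¹ =
          (b * swap x (b x) * b⁻¹) * (b * τ * b⁻¹) * τ⁻¹ * (swap x (b x))⁻¹ := by group
      rw [e, hbτ, ← swap_apply_apply, mul_inv_cancel_right, swap_inv]
      ext t
      rw [mul_apply]
      by_cases e1 : t = x
      · rw [e1, swap_apply_left, swap_apply_left, c3_fst m2.symm m1.symm]
      by_cases e2 : t = b x
      · rw [e2, swap_apply_right, swap_apply_of_ne_of_ne m1.symm m2.symm, c3_trd]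
      by_cases e3 : t = b (b x)
      · rw [e3, swap_apply_of_ne_of_ne m2 m3, swap_apply_right, c3_snd m1.symm m3]
      rw [swap_apply_of_ne_of_ne e1 e2, swap_apply_of_ne_of_ne e2 e3, c3_other e1 e3 e2]

/-- **three conjugates of a fixed point free element of order `p`** -/
theorem gen_beta {b : Perm Ω} {p : ℕ} (hp : p.Prime) (hb : b ^ p = 1) {O : Finset Ω} (hO : ∀ x ∈ O, b x ∈ O)
    (hf : ∀ x ∈ O, b x ≠ x) (hc : 5 ≤ p ∨ (p = 3 ∧ 7 ≤ O.card)) (hne : O.Nonempty) :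
    ∃ h g : Perm Ω, sign h = 1 ∧ Sup h O ∧ sign g = 1 ∧ Sup g O ∧
      ∀ Γ : Subgroup (Perm Ω), Nrm Γ b → Nrm Γ (g * b * g⁻¹) → b * h * b⁻¹ * h⁻¹ ∈ Γ → Full Γ O := by
  classical
  let rep : Ω → Ω := fun x => Quotient.out (Quotient.mk (SameCycle.setoid b) x)
  have hrep : ∀ x, SameCycle b (rep x) x := fun x => Quotient.mk_out (s := SameCycle.setoid b) x
  have hrep2 : ∀ x y, SameCycle b x y → rep x = rep y := fun x y h => by
    simp only [rep]
    rw [Quotient.sound (s := SameCycle.setoid b) h]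
  have hpow : ∀ (S : Set Ω), (∀ x ∈ S, b x ∈ S) → ∀ x y, SameCycle b x y → x ∈ S → y ∈ S := by
    intro S hS x y h hx
    obtain ⟨n, -, rfl⟩ := h.exists_pow_eq'
    clear h
    induction n with
    | zero => exact hx
    | succ n ih => rw [pow_succ', mul_apply]; exact hS _ ih
  set R := O.image rep with hR
  have hRO : ∀ r ∈ R, r ∈ O := by
    intro r hr
    obtain ⟨x, hx, rfl⟩ := Finset.mem_image.1 hr
    exact hpow O hO x _ (hrep x).symm hx
  have hRR : ∀ r ∈ R, ∀ r' ∈ R, SameCycle b r r' → r = r' := by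
    intro r hr r' hr' h
    obtain ⟨x, -, rfl⟩ := Finset.mem_image.1 hr
    obtain ⟨y, -, rfl⟩ := Finset.mem_image.1 hr'
    exact hrep2 _ _ (((hrep x).symm.trans h).trans (hrep y))
  obtain ⟨x0, hx0⟩ := hne
  set x := rep x0 with hxdef
  have hxR : x ∈ R := Finset.mem_image.2 ⟨x0, hx0, rfl⟩
  have hx : x ∈ O := hRO x hxR
  have h3 : 3 ≤ p := by omega
  have n1 : b x ≠ x := hf x hx
  have n2 : b (b x) ≠ x := pow_ne_of_prime hp hb n1 (k := 2) (by omega) (by omega)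
  have n3 : b (b x) ≠ b x := b.injective.ne n1
  have s1 : SameCycle b x (b x) := ⟨1, by simp⟩
  have s2 : SameCycle b x (b (b x)) := ⟨2, by rw [zpow_two, mul_apply]⟩
  have r1 : b x ∉ R := fun h => n1 (hRR _ hxR _ h s1).symm
  have r2 : b (b x) ∉ R := fun h => n2 (hRR _ hxR _ h s2).symm
  obtain ⟨h, h1, h2, z, z1, z2, hz⟩ := exists_first hp hb hO hf hc hx
  obtain ⟨g0, hg0, hg0'⟩ := Finset.exists_cycleOn R
  have g0fix : ∀ y, y ∉ R → g0 y = y := fun y hy => by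
    by_contra e
    exact hy (hg0' (mem_support.2 e))
  obtain ⟨g, g1, g2, g3, g4⟩ : ∃ g : Perm Ω, sign g = 1 ∧ Sup g O ∧ (∀ r ∈ R, g r = g0 r) ∧
      ∀ y, y ∉ R → g y = y ∨ g y = b x ∨ g y = b (b x) := by
    have hs : Sup g0 O := fun y hy => g0fix y fun h => hy (hRO y h)
    rcases Int.units_eq_one_or (sign g0) with e | e
    · exact ⟨g0, e, hs, fun _ _ => rfl, fun y hy => Or.inl (g0fix y hy)⟩
    · refine ⟨g0 * swap (b x) (b (b x)), by rw [Perm.sign_mul, e, sign_swap n3.symm]; decide,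
        hs.mul (sup_swap (hO _ hx) (hO _ (hO _ hx))), fun r hr => ?_, fun y hy => ?_⟩
      · rw [mul_apply, swap_apply_of_ne_of_ne (ne_of_mem_of_not_mem hr r1) (ne_of_mem_of_not_mem hr r2)]
      · rw [mul_apply]
        by_cases e1 : y = b x
        · rw [e1, swap_apply_left, g0fix _ r2]; exact Or.inr (Or.inr rfl)
        by_cases e2 : y = b (b x)
        · rw [e2, swap_apply_right, g0fix _ r1]; exact Or.inr (Or.inl rfl)
        rw [swap_apply_of_ne_of_ne e1 e2, g0fix _ hy]; exact Or.inl rfl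
  refine ⟨h, g, h1, h2, g1, g2, fun Γ hb1 hb2 hm => ?_⟩
  rw [hz] at hm
  have hm' : c3 x (b x) z ∈ Γ := by
    have := inv_mem hm
    rwa [c3_inv, c3_cycle z2.symm n1 z1, c3_cycle z1 z2 n1.symm] at this
  have mx : x ∈ blk Γ x (b x) := Or.inl rfl
  have mb : b x ∈ blk Γ x (b x) := Or.inr (Or.inl rfl)
  have t : Three (blk Γ x (b x)) := ⟨x, mx, b x, mb, z, Or.inr (Or.inr hm'), n1.symm, z1.symm, z2.symm⟩
  have i1 : ∀ y ∈ blk Γ x (b x), b y ∈ blk Γ x (b x) := fun y hy => blk_inv n1.symm t hb1 mx mb hy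
  have mbb := i1 _ mb
  have gm : ∀ y, y ∉ R → y ∈ blk Γ x (b x) → g y ∈ blk Γ x (b x) := by
    intro y hy hy'
    rcases g4 y hy with e | e | e <;> rw [e]
    exacts [hy', mb, mbb]
  have i2 : ∀ y ∈ blk Γ x (b x), (g * b * g⁻¹) y ∈ blk Γ x (b x) := fun y hy =>
    blk_inv n1.symm t hb2 (gm _ r1 mb) (by
      rw [mul_apply, mul_apply, inv_apply_self]; exact gm _ r2 mbb) hy
  have i3 : ∀ r ∈ R, r ∈ blk Γ x (b x) → g0 r ∈ blk Γ x (b x) := by
    intro r hr hr'
    have sc : SameCycle b r (b⁻¹ r) := ⟨-1, by simp⟩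
    have a1 : b⁻¹ r ∉ R := fun h => hf r (hRO r hr) (by
      have := hRR _ hr _ h sc
      nth_rewrite 1 [this]
      exact apply_inv_self b r)
    have := i2 _ (gm _ a1 (hpow _ i1 _ _ sc hr'))
    rwa [mul_apply, mul_apply, inv_apply_self, apply_inv_self, g3 r hr] at this
  have i4 : ∀ r ∈ R, r ∈ blk Γ x (b x) := by
    intro r hr
    obtain ⟨n, -, rfl⟩ := hg0.exists_pow_eq hxR hr
    have : ∀ n : ℕ, (g0 ^ n) x ∈ R ∧ (g0 ^ n) x ∈ blk Γ x (b x) := by
      intro n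
      induction n with
      | zero => exact ⟨hxR, mx⟩
      | succ n ih =>
        rw [pow_succ', mul_apply]
        exact ⟨hg0.1.mapsTo ih.1, i3 _ ih.1 ih.2⟩
    exact (this n).2
  refine (full_blk Γ n1.symm).mono fun y hy => ?_
  exact hpow _ i1 _ _ (hrep y) (i4 _ (Finset.mem_image.2 ⟨y, hy, rfl⟩))

theorem inv_mem_of_maps (σ : Perm Ω) (S : Set Ω) (hS : ∀ x ∈ S, σ x ∈ S) {x : Ω} (hx : x ∈ S) : σ⁻¹ x ∈ S := by
  have h1 : ∀ n : ℕ, (σ ^ n) x ∈ S := by
    intro n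
    induction n with
    | zero => exact hx
    | succ n ih => rw [pow_succ', mul_apply]; exact hS _ ih
  have h2 : σ⁻¹ = σ ^ (orderOf σ - 1) := by
    rw [inv_eq_iff_mul_eq_one, ← pow_succ', Nat.sub_add_cancel (orderOf_pos σ), pow_orderOf_eq_one]
  rw [h2]
  exact h1 _

theorem not_mem_of_maps (σ : Perm Ω) (S : Set Ω) (hS : ∀ x ∈ S, σ x ∈ S) (x : Ω) (hx : x ∉ S) : σ x ∉ S := by
  intro h
  have := inv_mem_of_maps σ S hS h
  rw [inv_apply_self] at this
  exact hx this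

/-- the commutator of two permutations whose orbits `P ∪ {u}`, `Q ∪ {u}` meet in one point -/
theorem comm_three {a b : Perm Ω} {P Q : Set Ω} {u : Ω} (hP : u ∉ P) (hQ : u ∉ Q) (hPQ : ∀ x ∈ P, x ∉ Q)
    (a1 : ∀ x, x = u ∨ x ∈ P → a x = u ∨ a x ∈ P) (a2 : ∀ x ∈ Q, a x = x)
    (b1 : ∀ x, x = u ∨ x ∈ Q → b x = u ∨ b x ∈ Q) (b2 : ∀ x ∈ P, b x = x)
    (hc : ∀ x, x ≠ u → x ∉ P → x ∉ Q → a (b x) = b (a x)) (ha : a u ≠ u) (hb : b u ≠ u) :
    a * b * a⁻¹ * b⁻¹ = c3 u (a u) (b u) := by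
  have au : a u ∈ P := (a1 u (Or.inl rfl)).resolve_left ha
  have bu : b u ∈ Q := (b1 u (Or.inl rfl)).resolve_left hb
  have ab : a u ≠ b u := fun e => hPQ _ au (e ▸ bu)
  have out := @not_mem_of_maps Ω _ _
  rw [mul_inv_eq_iff_eq_mul, mul_inv_eq_iff_eq_mul]
  ext x
  simp only [mul_apply]
  by_cases e : x = u
  · rw [e, a2 _ bu, b2 _ au, c3_snd hb.symm ab]
  by_cases eP : x ∈ P
  · rw [b2 _ eP]
    rcases a1 x (Or.inr eP) with h | h
    · rw [h, c3_trd]
    · rw [b2 _ h, c3_other (ne_of_mem_of_not_mem h hP) (a.injective.ne e) (ne_of_mem_of_not_mem bu (hPQ _ h)).symm]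
  by_cases eQ : x ∈ Q
  · rw [a2 _ eQ]
    rcases b1 x (Or.inr eQ) with h | h
    · rw [h, c3_fst ha.symm hb.symm]
    · rw [a2 _ h, c3_other (ne_of_mem_of_not_mem h hQ) (ne_of_mem_of_not_mem h (hPQ _ au)) (b.injective.ne e)]
  rw [hc x e eP eQ]
  have o1 : a x ∉ {y | y = u ∨ y ∈ P} := out a _ a1 x (by rintro (h | h); exacts [e h, eP h])
  have o2 : a x ∉ Q := fun h => eQ (by rw [← a.injective (a2 _ h)]; exact h)
  have o3 : b (a x) ∉ {y | y = u ∨ y ∈ Q} := out b _ b1 _ (by rintro (h | h); exacts [o1 (Or.inl h), o2 h])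
  have o4 : b (a x) ∉ P := fun h => o1 (Or.inr (by rw [← b.injective (b2 _ h)]; exact h))
  rw [c3_other (fun e => o3 (Or.inl e)) (fun e => o4 (e ▸ au)) (fun e => o3 (Or.inr (e ▸ bu)))]

/-- an even permutation moving `P` into `T` -/
theorem exists_move {P T : Finset Ω} (hd : ∀ x ∈ P, x ∉ T) (hc : P.card ≤ T.card) (h2 : 2 ≤ P.card) :
    ∃ σ : Perm Ω, sign σ = 1 ∧ Sup σ (P ∪ T : Finset Ω) ∧ ∀ x ∈ P, σ x ∈ T := by
  classical
  obtain ⟨j⟩ : Nonempty (P ↪ T) := Function.Embedding.nonempty_of_card_le (by simpa only [_root_.Fintype.card_coe] using hc)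
  let g : {x // x ∉ T} → Ω := fun x => if h : x.1 ∈ P then (j ⟨x.1, h⟩ : Ω) else x.1
  have hg : Function.Injective g := by
    rintro ⟨x, hx⟩ ⟨y, hy⟩ h
    simp only [g] at h
    split_ifs at h with h1 h2 h2
    · have := j.injective (Subtype.ext h)
      exact Subtype.ext (congrArg (fun t : P => (t : Ω)) this)
    · exact absurd (h ▸ (j ⟨x, h1⟩).2) hy
    · exact absurd (h ▸ (j ⟨y, h2⟩).2) hx
    · exact Subtype.ext h
  obtain ⟨σ, hσ⟩ := Equiv.Perm.exists_extending_pair (fun x : {x // x ∉ T} => (x : Ω)) g Subtype.val_injective hg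
  have s1 : Sup σ (P ∪ T : Finset Ω) := by
    intro x hx
    simp only [Finset.coe_union, Set.mem_union, Finset.mem_coe, not_or] at hx
    have := hσ ⟨x, hx.2⟩
    simpa [g, hx.1] using this
  have s2 : ∀ x ∈ P, σ x ∈ T := by
    intro x hx
    have := hσ ⟨x, hd x hx⟩
    simp only [g, dif_pos hx] at this
    rw [this]
    exact (j ⟨x, hx⟩).2
  rcases Int.units_eq_one_or (sign σ) with e | e
  · exact ⟨σ, e, s1, s2⟩
  · obtain ⟨a, ha, b, hb, hab⟩ := Finset.one_lt_card.1 h2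
    refine ⟨σ * swap a b, by rw [Perm.sign_mul, e, sign_swap hab]; decide,
      s1.mul (sup_swap (by simp [ha]) (by simp [hb])), fun x hx => ?_⟩
    rw [mul_apply]
    exact s2 _ ((sup_swap (S := (P : Set Ω)) ha hb).mem hx)

end Cfsg.Agent.TwoF.Alt
end

-- part: TwoF/Alt/Orb
section
/-!
# TwoF, alternating groups: orbits of a subgroup acting through `ψ : Y →* Perm Ω` (helper10)
-/

set_option autoImplicit false
set_option linter.unusedSectionVars false

namespace Cfsg.Agent.TwoF.Alt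

open Equiv Equiv.Perm Cfsg.Agent.H189.Cyc

variable {Ω : Type} [Fintype Ω] [DecidableEq Ω]

/-- **two conjugates of an abelian group, the orbits meeting in one point** -/
theorem gen_alpha {B : Subgroup (Perm Ω)} (hB : ∀ a ∈ B, ∀ b ∈ B, a * b = b * a) {u : Ω} {P T : Finset Ω}
    (hP : ∀ x, x ∈ P ↔ x ≠ u ∧ ∃ b ∈ B, b u = x) (hT : ∀ b ∈ B, ∀ x ∈ T, b x = x) (huT : u ∉ T)
    (hd : ∀ x ∈ P, x ∉ T) (hne : P.Nonempty) {σ : Perm Ω} (h1 : Sup σ (P ∪ T : Finset Ω)) (h2 : ∀ x ∈ P, σ x ∈ T)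
    {Γ : Subgroup (Perm Ω)} (g1 : B ≤ Γ) (g2 : ∀ b ∈ B, σ * b * σ⁻¹ ∈ Γ) :
    Full Γ (insert u (P ∪ P.image σ) : Finset Ω) := by
  have huP : u ∉ P := fun h => ((hP u).1 h).1 rfl
  have hσu : σ u = u := h1 u (by simp [huP, huT])
  have hσu' : σ⁻¹ u = u := by rw [Perm.inv_eq_iff_eq, hσu]
  have hO : ∀ a ∈ B, ∀ x, x = u ∨ x ∈ (P : Set Ω) → a x = u ∨ a x ∈ (P : Set Ω) := by
    intro a ha x hx
    by_cases e : a x = u
    · exact Or.inl e
    right
    rcases hx with rfl | hx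
    · exact (hP _).2 ⟨e, a, ha, rfl⟩
    · obtain ⟨-, b, hb, rfl⟩ := (hP x).1 hx
      exact (hP _).2 ⟨e, a * b, mul_mem ha hb, rfl⟩
  have key : ∀ x ∈ P, ∀ y ∈ P, c3 u x (σ y) ∈ Γ := by
    intro x hx y hy
    obtain ⟨x1, a, ha, rfl⟩ := (hP x).1 hx
    obtain ⟨y1, b, hb, rfl⟩ := (hP y).1 hy
    have e : (σ * b * σ⁻¹) u = σ (b u) := by rw [mul_apply, mul_apply, hσu']
    have hfix : ∀ x, x ≠ u → x ∉ (σ '' (P : Set Ω)) → x ∈ (P ∪ T : Finset Ω) → (σ * b * σ⁻¹) x = x := by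
      intro x hxu hx hx'
      have a1 : σ⁻¹ x ∈ ((P ∪ T : Finset Ω) : Set Ω) := h1.inv.mem hx'
      have a2 : σ⁻¹ x ∉ P := fun h => hx ⟨_, h, apply_inv_self σ x⟩
      have a3 : σ⁻¹ x ∈ T := (Finset.mem_union.1 a1).resolve_left a2
      rw [mul_apply, mul_apply, hT b hb _ a3, apply_inv_self]
    have hout : ∀ c ∈ B, ∀ x, x ≠ u → x ∉ (P ∪ T : Finset Ω) → c x ≠ u ∧ c x ∉ (P ∪ T : Finset Ω) := by
      intro c hc x hxu hx
      simp only [Finset.mem_union, not_or] at hx ⊢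
      have := not_mem_of_maps c {y | y = u ∨ y ∈ (P : Set Ω)} (hO c hc) x (by
        rintro (h | h); exacts [hxu h, hx.1 h])
      refine ⟨fun h => this (Or.inl h), fun h => this (Or.inr h), fun h => hx.2 ?_⟩
      rw [← c.injective (hT c hc _ h)]; exact h
    have hR : ∀ x, x ≠ u → x ∉ (P ∪ T : Finset Ω) → (σ * b * σ⁻¹) x = b x := by
      intro x hxu hx
      rw [mul_apply, mul_apply, h1.inv x hx, h1 _ (hout b hb x hxu hx).2]
    have := comm_three (a := a) (b := σ * b * σ⁻¹) (P := (P : Set Ω)) (Q := σ '' (P : Set Ω)) (u := u) huP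
      (by rintro ⟨x, hx, e⟩; exact huT (e ▸ h2 x hx))
      (by rintro x hx ⟨y, hy, e⟩; exact hd x hx (e ▸ h2 y hy)) (hO a ha)
      (by rintro _ ⟨y, hy, rfl⟩; exact hT a ha _ (h2 y hy))
      (by
        intro x hx
        have : σ⁻¹ x = u ∨ σ⁻¹ x ∈ (P : Set Ω) := by
          rcases hx with rfl | ⟨y, hy, rfl⟩
          · exact Or.inl hσu'
          · rw [inv_apply_self]; exact Or.inr hy
        rw [mul_apply, mul_apply]
        rcases hO b hb _ this with h | h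
        · rw [h]; exact Or.inl hσu
        · exact Or.inr ⟨_, h, rfl⟩)
      (fun x hx => hfix x (ne_of_mem_of_not_mem hx huP) (by rintro ⟨y, hy, e⟩; exact hd x hx (e ▸ h2 y hy))
        (Finset.mem_union_left _ hx))
      (by
        intro x hxu hxP hxQ
        by_cases hxT : x ∈ T
        · rw [hfix x hxu hxQ (Finset.mem_union_right _ hxT), hT a ha x hxT,
            hfix x hxu hxQ (Finset.mem_union_right _ hxT)]
        · have hx : x ∉ (P ∪ T : Finset Ω) := by simp only [Finset.mem_union, not_or]; exact ⟨hxP, hxT⟩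
          rw [hR x hxu hx, hR _ (hout a ha x hxu hx).1 (hout a ha x hxu hx).2, ← mul_apply, hB a ha b hb, mul_apply])
      x1 (by rw [e]; exact ne_of_mem_of_not_mem (h2 _ hy) huT)
    rw [e] at this
    rw [← this]
    exact mul_mem (mul_mem (mul_mem (g1 ha) (g2 b hb)) (inv_mem (g1 ha))) (inv_mem (g2 b hb))
  obtain ⟨x0, hx0⟩ := hne
  have n1 : u ≠ x0 := (ne_of_mem_of_not_mem hx0 huP).symm
  have n2 : u ≠ σ x0 := (ne_of_mem_of_not_mem (h2 _ hx0) huT).symm
  have F1 : Full Γ {x | x = u ∨ x = x0 ∨ x ∈ P.image σ} := by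
    apply full_of_pair n1
    rintro x (h | h | h) a1 a2
    · exact absurd h a1
    · exact absurd h a2
    · obtain ⟨y, hy, rfl⟩ := Finset.mem_image.1 h
      exact key x0 hx0 y hy
  have F2 : Full Γ {x | x = u ∨ x = σ x0 ∨ x ∈ P} := by
    apply full_of_pair n2
    rintro x (h | h | h) a1 a2
    · exact absurd h a1
    · exact absurd h a2
    · have := inv_mem (key x h x0 hx0)
      rwa [c3_inv, c3_cycle (Ne.symm a2) n2.symm a1, c3_cycle a1 a2 n2] at this
  refine (F1.union F2 n1 (Or.inl rfl) (Or.inr (Or.inl rfl)) (Or.inl rfl) (Or.inr (Or.inr hx0))).mono ?_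
  intro x hx
  simp only [Finset.coe_insert, Finset.coe_union, Set.mem_insert_iff, Set.mem_union, Finset.mem_coe] at hx
  rcases hx with h | h | h
  · exact Or.inl (Or.inl h)
  · exact Or.inr (Or.inr (Or.inr h))
  · exact Or.inl (Or.inr (Or.inr h))

variable {Y : Type} [Group Y] (ψ : Y →* Perm Ω)

/-- the stabiliser of a point -/
def stb (A : Subgroup Y) (u : Ω) : Subgroup Y := A ⊓ (MulAction.stabilizer (Perm Ω) u).comap ψ

open Classical in
/-- the orbit of a point -/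
noncomputable def orb (A : Subgroup Y) (u : Ω) : Finset Ω := Finset.univ.filter fun x => ∃ a ∈ A, ψ a u = x

open Classical in
/-- the fixed points -/
noncomputable def fix (A : Subgroup Y) : Finset Ω := Finset.univ.filter fun x => ∀ a ∈ A, ψ a x = x

variable {ψ}

theorem mem_stb {A : Subgroup Y} {u : Ω} {a : Y} : a ∈ stb ψ A u ↔ a ∈ A ∧ ψ a u = u := Iff.rfl

theorem stb_le (A : Subgroup Y) (u : Ω) : stb ψ A u ≤ A := inf_le_left

theorem mem_orb {A : Subgroup Y} {u x : Ω} : x ∈ orb ψ A u ↔ ∃ a ∈ A, ψ a u = x := by simp only [orb, _root_.Finset.mem_filter, _root_.Finset.mem_univ, _root_.true_and]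

theorem mem_fix {A : Subgroup Y} {x : Ω} : x ∈ fix ψ A ↔ ∀ a ∈ A, ψ a x = x := by simp only [fix, _root_.Finset.mem_filter, _root_.Finset.mem_univ, _root_.true_and]

theorem self_mem_orb (A : Subgroup Y) (u : Ω) : u ∈ orb ψ A u := mem_orb.2 ⟨1, one_mem _, by simp⟩

theorem orb_maps {A : Subgroup Y} {u x : Ω} (hx : x ∈ orb ψ A u) {a : Y} (ha : a ∈ A) : ψ a x ∈ orb ψ A u := by
  obtain ⟨b, hb, rfl⟩ := mem_orb.1 hx
  exact mem_orb.2 ⟨a * b, mul_mem ha hb, by rw [map_mul, mul_apply]⟩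

theorem orb_mono {A B : Subgroup Y} (h : A ≤ B) (u : Ω) : orb ψ A u ⊆ orb ψ B u := by
  intro x hx
  obtain ⟨b, hb, rfl⟩ := mem_orb.1 hx
  exact mem_orb.2 ⟨b, h hb, rfl⟩

theorem fix_anti {A B : Subgroup Y} (h : A ≤ B) : fix ψ B ⊆ fix ψ A :=
  fun _ hx => mem_fix.2 fun a ha => mem_fix.1 hx a (h ha)

theorem orb_eq {A : Subgroup Y} {u x : Ω} (hx : x ∈ orb ψ A u) : orb ψ A x = orb ψ A u := by
  obtain ⟨b, hb, rfl⟩ := mem_orb.1 hx
  ext y
  rw [mem_orb, mem_orb]
  constructor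
  · rintro ⟨a, ha, rfl⟩
    exact ⟨a * b, mul_mem ha hb, by rw [map_mul, mul_apply]⟩
  · rintro ⟨a, ha, rfl⟩
    exact ⟨a * b⁻¹, mul_mem ha (inv_mem hb), by rw [map_mul, mul_apply, map_inv, inv_apply_self]⟩

/-- in an abelian group the stabiliser of a point fixes its orbit -/
theorem fix_orb {A : Subgroup Y} (hA : ∀ a ∈ A, ∀ b ∈ A, a * b = b * a) {u x : Ω} (hx : x ∈ orb ψ A u) {a : Y}
    (ha : a ∈ A) (h : ψ a u = u) : ψ a x = x := by
  obtain ⟨b, hb, rfl⟩ := mem_orb.1 hx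
  rw [← mul_apply, ← map_mul, hA a ha b hb, map_mul, mul_apply, h]

theorem move_orb {A : Subgroup Y} (hA : ∀ a ∈ A, ∀ b ∈ A, a * b = b * a) {u x : Ω} (hx : x ∈ orb ψ A u) {a : Y}
    (ha : a ∈ A) (h : ψ a u ≠ u) : ψ a x ≠ x := fun e =>
  h (fix_orb hA (by rw [orb_eq hx]; exact self_mem_orb A u) ha e)

theorem orb_subset_fix {A : Subgroup Y} (hA : ∀ a ∈ A, ∀ b ∈ A, a * b = b * a) (u : Ω) :
    orb ψ A u ⊆ fix ψ (stb ψ A u) :=
  fun _ hx => mem_fix.2 fun _ ha => fix_orb hA hx ha.1 ha.2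

theorem orb_of_fix {A : Subgroup Y} {u : Ω} (h : u ∈ fix ψ A) : orb ψ A u = {u} := by
  ext x
  rw [mem_orb, Finset.mem_singleton]
  constructor
  · rintro ⟨a, ha, rfl⟩
    exact mem_fix.1 h a ha
  · rintro rfl
    exact ⟨1, one_mem _, by simp⟩

theorem mem_fix_of_card {A : Subgroup Y} {u : Ω} (h : (orb ψ A u).card ≤ 1) : u ∈ fix ψ A :=
  mem_fix.2 fun a ha => Finset.card_le_one.1 h _ (mem_orb.2 ⟨a, ha, rfl⟩) _ (self_mem_orb A u)

theorem not_mem_fix {A : Subgroup Y} {u x : Ω} (h : 2 ≤ (orb ψ A u).card) (hx : x ∈ orb ψ A u) : x ∉ fix ψ A := by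
  intro h1
  rw [← orb_eq hx, orb_of_fix h1, Finset.card_singleton] at h
  omega

theorem card_eq (A : Subgroup Y) (u : Ω) : Nat.card A = (orb ψ A u).card * Nat.card (stb ψ A u) := by
  letI : MulAction A Ω := MulAction.compHom Ω (ψ.comp A.subtype)
  have h1 : Nat.card (MulAction.orbit A u) = (orb ψ A u).card := by
    rw [← Set.ncard_coe_finset, ← Nat.card_coe_set_eq]
    refine Nat.card_congr (Equiv.setCongr ?_)
    ext x
    rw [Finset.mem_coe, mem_orb]
    constructor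
    · rintro ⟨a, rfl⟩
      exact ⟨a, a.2, rfl⟩
    · rintro ⟨a, ha, rfl⟩
      exact ⟨⟨a, ha⟩, rfl⟩
  have h2 : MulAction.stabilizer A u = (stb ψ A u).subgroupOf A := by
    ext a
    rw [Subgroup.mem_subgroupOf, mem_stb, MulAction.mem_stabilizer_iff]
    exact ⟨fun h => ⟨a.2, h⟩, fun h => h.2⟩
  rw [← h1, Nat.card_congr (MulAction.orbitEquivQuotientStabilizer A u), h2,
    ← Nat.card_congr (Subgroup.subgroupOfEquivOfLe (stb_le A u)).toEquiv]
  exact Subgroup.card_eq_card_quotient_mul_card_subgroup _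

theorem dvd_card {A : Subgroup Y} {d : ℕ} (h : ∀ u, d ∣ (orb ψ A u).card) : d ∣ Fintype.card Ω := by
  classical
  have key : ∀ (n : ℕ) (S : Finset Ω), S.card = n → (∀ x ∈ S, orb ψ A x ⊆ S) → d ∣ S.card := by
    intro n
    induction n using Nat.strong_induction_on with
    | _ n ih =>
      intro S hS hc
      rcases S.eq_empty_or_nonempty with rfl | ⟨u, hu⟩
      · simp
      have h1 := Finset.card_sdiff_add_card_eq_card (hc u hu)
      have h2 : 0 < (orb ψ A u).card := Finset.card_pos.2 ⟨u, self_mem_orb A u⟩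
      rw [← h1]
      refine dvd_add (ih _ (by omega) _ rfl fun x hx y hy => ?_) (h u)
      rw [Finset.mem_sdiff] at hx ⊢
      refine ⟨hc x hx.1 hy, fun h3 => hx.2 ?_⟩
      rw [← orb_eq h3, orb_eq hy]
      exact self_mem_orb A x
  exact key _ Finset.univ rfl fun _ _ => Finset.subset_univ _

theorem card_orb_pow {A : Subgroup Y} {p r : ℕ} (hp : p.Prime) (h : Nat.card A = p ^ r) (u : Ω) :
    ∃ j ≤ r, (orb ψ A u).card = p ^ j ∧ Nat.card (stb ψ A u) = p ^ (r - j) := by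
  have h1 := card_eq (ψ := ψ) A u
  obtain ⟨j, hj, e⟩ := (Nat.dvd_prime_pow hp).1 (h ▸ h1 ▸ dvd_mul_right _ _ : (orb ψ A u).card ∣ p ^ r)
  refine ⟨j, hj, e, ?_⟩
  rw [h, e] at h1
  apply Nat.eq_of_mul_eq_mul_left (pow_pos hp.pos j)
  rw [← h1, ← pow_add, Nat.add_sub_cancel' hj]

/-- a point whose orbit length is not divisible by `p ^ (j + 1)` -/
theorem exists_small_orb {A : Subgroup Y} {p r j : ℕ} (hp : p.Prime) (h : Nat.card A = p ^ r)
    (hn : ¬ p ^ (j + 1) ∣ Fintype.card Ω) : ∃ u, p ^ (r - j) ≤ Nat.card (stb ψ A u) ∧ (orb ψ A u).card ≤ p ^ j := by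
  by_contra hc
  push Not at hc
  apply hn
  apply dvd_card (ψ := ψ) (A := A)
  intro u
  obtain ⟨i, hi, e1, e2⟩ := card_orb_pow (ψ := ψ) hp h u
  rw [e1]
  apply pow_dvd_pow
  by_contra h3
  have := hc u (by rw [e2]; exact Nat.pow_le_pow_right hp.pos (by omega))
  rw [e1] at this
  have := (Nat.pow_lt_pow_iff_right hp.one_lt).1 this
  omega

end Cfsg.Agent.TwoF.Alt
end

-- part: TwoF/Alt/Frame
section
/-!
# The frame for alternating groups of degree at least seven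

`Fr p K ρ ψ`: the standing hypotheses together with the action `ψ : Y →* Perm (Fin n)`.
-/

set_option autoImplicit false

namespace Cfsg.Agent.TwoF.Alt

open Module Equiv Equiv.Perm Gen
open scoped commutatorElement

section AxB

variable {k : Type*} [Field k] {Y : Type*} [Group Y] {V : Type*} [AddCommGroup V] [Module k V]
  {ρ : Representation k Y V} {p : ℕ} [Fact p.Prime] [CharP k p]

/-- **the `A × B` lemma** -/
theorem axb {P : Subgroup Y} [Finite P] (hP : IsPGroup p P) {x : Y} {m : ℕ} (hx : x ^ m = 1) (hm : ¬ p ∣ m)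
    (hc : ∀ b ∈ P, b * x = x * b) {W : Submodule k V} (hW : Inv ρ P W) (hxW : ∀ v ∈ W, ρ x v ∈ W)
    (h : ∀ v ∈ W, v ∈ fx ρ P → ρ x v = v) : ∀ v ∈ W, ρ x v = v := by
  have h1 : Inv ρ P (W.map (ρ x - 1)) := by
    rintro b hb _ ⟨v, hv, rfl⟩
    refine ⟨ρ b v, hW b hb v hv, ?_⟩
    show ρ x (ρ b v) - ρ b v = ρ b (ρ x v - v)
    rw [map_sub, ← rho_mul, ← rho_mul, hc b hb]
  by_contra hne
  have h2 : W.map (ρ x - 1) ≠ ⊥ := fun e => hne fun v hv => by
    have : (ρ x - 1) v ∈ W.map (ρ x - 1) := ⟨v, hv, rfl⟩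
    rw [e, Submodule.mem_bot] at this
    exact sub_eq_zero.1 this
  obtain ⟨_, ⟨⟨v, hv, rfl⟩, h3⟩, h4⟩ := Submodule.exists_mem_ne_zero_of_ne_bot (inf_fx_ne_bot hP h1 h2)
  exact h4 (sub_eq_zero.2 (eq_of_sub_one_sq hx hm (h _ (W.sub_mem (hxW v hv) hv) h3)))

/-- the `A × B` lemma on the whole space -/
theorem axb_top {P : Subgroup Y} [Finite P] (hP : IsPGroup p P) {x : Y} {m : ℕ} (hx : x ^ m = 1) (hm : ¬ p ∣ m)
    (hc : ∀ b ∈ P, b * x = x * b) (h : ∀ v ∈ fx ρ P, ρ x v = v) : ρ x = 1 :=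
  LinearMap.ext fun v => axb hP hx hm hc (inv_top P) (fun _ _ => trivial) (fun v _ => h v) v trivial

end AxB

variable {p : ℕ} [Fact p.Prime] {Y : Type} [Group Y] {V : Type} [AddCommGroup V] [Module (ZMod p) V]
  {K : Subgroup Y} {ρ : Representation (ZMod p) Y V} {n : ℕ} {ψ : Y →* Perm (Fin n)}

/-- the frame -/
structure Fr (p : ℕ) [Fact p.Prime] {Y : Type} [Group Y] {V : Type} [AddCommGroup V] [Module (ZMod p) V]
    (K : Subgroup Y) (ρ : Representation (ZMod p) Y V) {n : ℕ} (ψ : Y →* Perm (Fin n)) : Prop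
    extends Stp p K ρ where
  deg : 7 ≤ n
  ker : ∀ y, ψ y = 1 ↔ y ∈ Subgroup.centralizer (K : Set Y)
  mem : ∀ y, y ∈ K ↔ sign (ψ y) = 1
  lift : ∀ σ : Perm (Fin n), sign σ = 1 → ∃ y ∈ K, ψ y = σ
  two : n ≠ 7 → Nat.card ψ.ker ≤ 2
  six : Nat.card ψ.ker ∣ 6

theorem exists_fr [Finite Y] (hn : 7 ≤ n) {π : K →* alternatingGroup (Fin n)}
    {φ : Y →* MulAut (alternatingGroup (Fin n))} (H : Sit p K ρ π φ) : ∃ ψ : Y →* Perm (Fin n), Fr p K ρ ψ := by
  obtain ⟨θ, hθ⟩ := StandardComponent.AltAut.exists_autHom n hn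
  have hu : ∀ σ τ : Perm (Fin n), (∀ x : alternatingGroup (Fin n), σ * x * σ⁻¹ = τ * x * τ⁻¹) → σ = τ := by
    obtain ⟨m, rfl⟩ : ∃ m, n = m + 2 := ⟨n - 2, by omega⟩
    exact fun σ τ h => StandardComponent.AltAut.conj_unique (by omega) h
  have hc : ∀ a : alternatingGroup (Fin n), θ (MulAut.conj a) = a := fun a => hu _ _ fun x => (hθ _ x).symm
  have hK : ∀ x : K, θ (φ x) = π x := fun x => by rw [H.φ_coe, hc]
  have hk : ∀ y, θ (φ y) = 1 ↔ y ∈ Subgroup.centralizer (K : Set Y) := fun y => by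
    rw [← H.φ_eq_one_iff]
    refine ⟨fun h => MulEquiv.ext fun x => Subtype.ext ?_, fun h => by rw [h, map_one]⟩
    rw [hθ, h]; simp
  have hcard : Nat.card (θ.comp φ).ker = Nat.card (Subgroup.center K) := by
    rw [← H.card_centralizer, show (θ.comp φ).ker = Subgroup.centralizer (K : Set Y) from Subgroup.ext hk]
  have h2 : n ≠ 7 → Nat.card (θ.comp φ).ker ≤ 2 := fun h7 => by
    rw [hcard, ← H.ker_π]
    exact S0892.result n (by omega) (by omega) h7 π.ker H.ker_π.le (H.perfect.commutator_eq_top ▸ le_top)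
      (QuotientGroup.quotientKerEquivOfSurjective π H.surj)
  refine ⟨θ.comp φ, H.toStp, hn, hk, fun y => ⟨fun hy => ?_, fun hy => ?_⟩, fun σ hσ => ?_, h2, ?_⟩
  · show sign (θ (φ y)) = 1
    rw [hK ⟨y, hy⟩]
    exact mem_alternatingGroup.1 (π _).2
  · refine H.mem_inn_iff.1 ⟨⟨θ (φ y), mem_alternatingGroup.2 hy⟩, MulEquiv.ext fun x => Subtype.ext ?_⟩
    exact (hθ _ x).symm
  · obtain ⟨x, hx⟩ := H.surj ⟨σ, mem_alternatingGroup.2 hσ⟩
    exact ⟨x, x.2, (hK x).trans (congrArg Subtype.val hx)⟩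
  · by_cases h7 : n = 7
    · rw [hcard]
      exact H.card_center_dvd' H.perfect (S2116.result n (Or.inr h7))
    · have h3 := h2 h7
      have h4 : 0 < Nat.card (θ.comp φ).ker := Nat.card_pos
      interval_cases Nat.card (θ.comp φ).ker <;> norm_num

theorem row88_of_fr (hn : 7 ≤ n) (H : ∀ (Y : Type) [Group Y] [Finite Y] (V : Type) [AddCommGroup V]
    [Module (ZMod p) V] [Finite V] (K : Subgroup Y) (ρ : Representation (ZMod p) Y V) (ψ : Y →* Perm (Fin n)),
    Fr p K ρ ψ → G88 p ρ) : Row88 p (alternatingGroup (Fin n)) :=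
  row88_of_sit fun Y _ _ V _ _ _ K ρ _ _ h => by
    obtain ⟨ψ, F⟩ := exists_fr hn h
    exact H Y V K ρ ψ F

theorem row89_of_fr (hn : 7 ≤ n) (H : ∀ (Y : Type) [Group Y] [Finite Y] (V : Type) [AddCommGroup V]
    [Module (ZMod p) V] [Finite V] (K : Subgroup Y) (ρ : Representation (ZMod p) Y V) (ψ : Y →* Perm (Fin n)),
    Fr p K ρ ψ → G89r p K ρ) : Row89 p (alternatingGroup (Fin n)) :=
  row89_of_sit fun Y _ _ V _ _ _ K ρ _ _ h => by
    obtain ⟨ψ, F⟩ := exists_fr hn h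
    exact H Y V K ρ ψ F

namespace Fr

variable (F : Fr p K ρ ψ)
include F

theorem ker_mem {z : Y} (h : ψ z = 1) : z ∈ K := F.cent ((F.ker z).1 h)

theorem ker_comm {z g : Y} (h : ψ z = 1) (hg : g ∈ K) : g * z = z * g := (F.ker z).1 h g hg

theorem mem_of_eq {x : Y} {σ : Perm (Fin n)} (h : ψ x = σ) (hσ : sign σ = 1) : x ∈ K := (F.mem x).2 (h ▸ hσ)

theorem sign_of_not_mem {y : Y} (h : y ∉ K) : sign (ψ y) = -1 :=
  (Int.units_eq_one_or _).resolve_left fun e => h ((F.mem y).2 e)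

/-- if `Y ≠ K` every permutation lifts -/
theorem lift_all {y : Y} (h : y ∉ K) (σ : Perm (Fin n)) : ∃ x, ψ x = σ := by
  rcases Int.units_eq_one_or (sign σ) with e | e
  · obtain ⟨x, -, hx⟩ := F.lift σ e
    exact ⟨x, hx⟩
  · obtain ⟨x, -, hx⟩ := F.lift (σ * (ψ y)⁻¹) (by rw [Perm.sign_mul, sign_inv, e, F.sign_of_not_mem h]; decide)
    exact ⟨x * y, by rw [map_mul, hx, inv_mul_cancel_right]⟩

/-- a central involution acts as `-1` -/
theorem neg_one {z : Y} (hz : z ≠ 1) (h2 : z * z = 1) (hc : ∀ y, y * z = z * y) (v : V) : ρ z v = -v := by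
  have h1 : Inv ρ ⊤ (LinearMap.range (ρ z - 1)) := by
    rintro b - _ ⟨v, rfl⟩
    refine ⟨ρ b v, ?_⟩
    show ρ z (ρ b v) - ρ b v = ρ b (ρ z v - v)
    rw [map_sub, ← rho_mul, ← rho_mul, hc b]
  rcases F.irr _ h1 with h | h
  · refine (hz (F.faithful ?_)).elim
    rw [map_one]
    exact sub_eq_zero.1 (LinearMap.range_eq_bot.1 h)
  · obtain ⟨w, rfl⟩ : v ∈ LinearMap.range (ρ z - 1) := h ▸ trivial
    show ρ z (ρ z w - w) = -(ρ z w - w)
    rw [map_sub, ← rho_mul, h2, rho_one, neg_sub]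

variable [Finite Y]

theorem eq_one {a : Y} {m : ℕ} (ha : a ^ p ^ m = 1) (h : ψ a = 1) : a = 1 :=
  F.eq_one_of_mem_centralizer ha ((F.ker a).1 h)

theorem eq_one' {a : Y} (ha : a ^ p = 1) (h : ψ a = 1) : a = 1 := F.eq_one (m := 1) (by rwa [pow_one]) h

omit [Finite Y] in
theorem not_dvd : ¬ p ∣ Nat.card ψ.ker := F.not_dvd_card fun y hy => (F.ker y).1 hy

/-- elements of `K` whose images commute, one of them of order dividing `p` -/
theorem comm {g h : Y} (hh : h ∈ K) (hc : ψ g * ψ h = ψ h * ψ g) (hp : h ^ p = 1) : g * h = h * g := by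
  have h1 : ψ (g * h * g⁻¹ * h⁻¹) = 1 := by
    rw [map_mul, map_mul, map_mul, hc, map_inv, map_inv]; group
  have h2 : Commute (g * h * g⁻¹ * h⁻¹) h := (F.ker_comm h1 hh).symm
  have h3 : (g * h * g⁻¹ * h⁻¹) ^ p = 1 := by
    have := h2.mul_pow p
    rw [hp, mul_one, inv_mul_cancel_right, conj_pow, hp] at this
    rw [← this]; group
  have h4 := F.eq_one' h3 h1
  rwa [mul_inv_eq_one, mul_inv_eq_iff_eq_mul] at h4

omit F [Finite Y] in
theorem pow_card {x : Y} {m : ℕ} (h : ψ x ^ m = 1) : x ^ (m * Nat.card ψ.ker) = 1 := by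
  have h1 : x ^ m ∈ ψ.ker := by rw [MonoidHom.mem_ker, map_pow, h]
  rw [pow_mul]
  exact congrArg Subtype.val (pow_card_eq_one' (x := (⟨_, h1⟩ : ψ.ker)))

omit [Finite Y] in
theorem not_dvd_mul {m : ℕ} (hm : ¬ p ∣ m) : ¬ p ∣ m * Nat.card ψ.ker := fun h =>
  ((Nat.Prime.dvd_mul Fact.out).1 h).elim hm F.not_dvd

/-- **NT.** A `p'`-element commuting with a `p`-group acts non-trivially on its fixed space. -/
theorem nt {P : Subgroup Y} (hP : IsPGroup p P) {x : Y} {m : ℕ} (hx : ψ x ^ m = 1) (hm : ¬ p ∣ m) (h1 : x ≠ 1)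
    (hc : ∀ b ∈ P, b * x = x * b) : ∃ v ∈ fx ρ P, ρ x v ≠ v := by
  by_contra h
  push Not at h
  exact h1 (F.faithful ((axb_top hP (pow_card hx) (F.not_dvd_mul hm) hc h).trans (map_one ρ).symm))

/-- the projection of `K` -/
def pr : K →* alternatingGroup (Fin n) :=
  (ψ.comp K.subtype).codRestrict _ fun x => mem_alternatingGroup.2 ((F.mem x).1 x.2)

omit [Finite Y] in
theorem pr_surj : Function.Surjective F.pr := fun σ => by
  obtain ⟨y, hy, h⟩ := F.lift σ (mem_alternatingGroup.1 σ.2)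
  exact ⟨⟨y, hy⟩, Subtype.ext h⟩

omit [Finite Y] in
/-- trivial centre: the inclusion of the alternating group -/
theorem iota (hi : Function.Injective ψ) :
    ∃ ι : alternatingGroup (Fin n) →* Y, (∀ σ, ψ (ι σ) = σ) ∧ ∀ σ, ι σ ∈ K := by
  have hb : Function.Bijective F.pr :=
    ⟨fun a b h => Subtype.ext (hi (congrArg Subtype.val h)), F.pr_surj⟩
  refine ⟨K.subtype.comp (MulEquiv.ofBijective _ hb).symm.toMonoidHom, fun σ => ?_, fun σ => Subtype.prop _⟩
  exact congrArg Subtype.val ((MulEquiv.ofBijective _ hb).apply_symm_apply σ)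

omit F [Finite Y] in
theorem inj_of_card (h : Nat.card ψ.ker = 1) : Function.Injective ψ :=
  (MonoidHom.ker_eq_bot_iff ψ).1 (Subgroup.card_eq_one.1 h)

/-- in characteristic two the centre is trivial, except possibly in degree seven -/
theorem inj_two (hp : p = 2) (h7 : n ≠ 7) : Function.Injective ψ := by
  have h1 := F.two h7
  have h2 := F.not_dvd
  have h3 : 0 < Nat.card ψ.ker := Nat.card_pos
  subst hp
  exact inj_of_card (by omega)

omit [Finite Y] in
/-- centre of order two: the double cover; `z` acts as `-1` -/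
theorem cover (h : Nat.card ψ.ker = 2) : ∃ C : SporRec.TwoAn.Cover (Fin n) K, (∀ g, C.π g = ψ g) ∧
    ∀ v, ρ (C.z : Y) v = -v := by
  rw [Nat.card_eq_two_iff' (1 : ψ.ker)] at h
  obtain ⟨⟨z, hz⟩, hz1, hzu⟩ := h
  have hne : z ≠ 1 := fun e => hz1 (Subtype.ext e)
  have hk : ∀ x, ψ x = 1 → x = 1 ∨ x = z := fun x hx => by
    by_cases h1 : x = 1
    · exact Or.inl h1
    · exact Or.inr (congrArg Subtype.val (hzu ⟨x, hx⟩ fun e => h1 (congrArg Subtype.val e)))
  have hz' : ψ z = 1 := hz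
  have hzz : z * z = 1 := (hk _ (by rw [map_mul, hz', mul_one])).resolve_right fun e => hne (mul_eq_left.1 e)
  have hc : ∀ y, y * z = z * y := fun y => by
    rcases hk (y * z * y⁻¹) (by rw [map_mul, map_mul, hz', map_inv]; group) with e | e
    · exact (hne (by rw [mul_inv_eq_one, mul_eq_left] at e; exact e)).elim
    · exact mul_inv_eq_iff_eq_mul.1 e
  have hker : ∀ x : K, F.pr x = 1 ↔ x = 1 ∨ x = ⟨z, F.ker_mem hz'⟩ := fun x =>
    ⟨fun e => (hk x (congrArg Subtype.val e)).imp Subtype.ext Subtype.ext, by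
      rintro (rfl | rfl)
      · exact map_one _
      · exact Subtype.ext hz'⟩
  have hcov : SporadicRecognition.AltCover.IsCover F.pr ⟨z, F.ker_mem hz'⟩ :=
    { z_ne := fun e => hne (congrArg Subtype.val e)
      z_mul := Subtype.ext hzz
      z_comm := fun x => Subtype.ext (hc x)
      surj := F.pr_surj
      ker := hker
      nonsplit := fun s hs => by
        have h1 : ∀ x : K, ∃ w : K, (∀ g, g * w = w * g) ∧ x = s (F.pr x) * w := fun x =>
          ⟨(s (F.pr x))⁻¹ * x, fun g => Subtype.ext (F.ker_comm (congrArg Subtype.val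
            (show F.pr ((s (F.pr x))⁻¹ * x) = 1 by rw [map_mul, map_inv, hs, inv_mul_cancel])) g.2), by group⟩
        have h2 : commutator K ≤ s.range := by
          refine Subgroup.commutator_le.2 fun a _ b _ => ⟨⁅F.pr a, F.pr b⁆, ?_⟩
          obtain ⟨w, hw, e⟩ := h1 a
          obtain ⟨w', hw', e'⟩ := h1 b
          rw [map_commutatorElement]
          generalize s (F.pr a) = x at e
          generalize s (F.pr b) = y at e'
          rw [e, e', commutatorElement_def, commutatorElement_def]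
          calc x * y * x⁻¹ * y⁻¹ = x * (y * w) * w⁻¹ * (x⁻¹ * w') * w'⁻¹ * y⁻¹ := by group
            _ = x * (w * y) * w⁻¹ * (w' * x⁻¹) * w'⁻¹ * y⁻¹ := by rw [hw, hw']
            _ = x * w * y * (w⁻¹ * w') * x⁻¹ * w'⁻¹ * y⁻¹ := by group
            _ = _ := by rw [hw' w⁻¹]; group
        obtain ⟨x, hx⟩ := h2 (F.perfect.commutator_eq_top ▸ Subgroup.mem_top (⟨z, F.ker_mem hz'⟩ : K))
        have h3 := hs x
        rw [hx, (hker _).2 (Or.inr rfl)] at h3
        rw [← h3, map_one] at hx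
        exact hne (congrArg Subtype.val hx).symm }
  exact ⟨SporRec.TwoAn.ofIsCover (by have := F.deg; omega) hcov, fun _ => rfl, F.neg_one hne hzz hc⟩

end Fr

end Cfsg.Agent.TwoF.Alt
end

-- part: TwoF/Alt/Nat
section
/-!
# Recognition of the natural module

`Fr.nat_cod`: a vector with the relations of `e_1 - e_2` forces `c(3-cycle) ≤ 2` and `c(double transposition) ≤ 2`.
`exists_of_P3`: such a vector exists if the commutator space of a 3-cycle is fixed by the disjoint 3-cycles.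
-/

set_option autoImplicit false

namespace Cfsg.Agent.TwoF.Alt

open Module Equiv Equiv.Perm Gen H189 H189.Cyc H189.Emb H189.NatMod

section Rel

variable {α : Type} [Fintype α] [DecidableEq α] {k : Type*} [Field k] {V : Type*} [AddCommGroup V] [Module k V]

/-- the relations of the vector `e_(x 0) - e_(x 1)` -/
structure NRel (R : alternatingGroup α →* End k V) (e : V) (x1 x2 x3 x4 x5 : α) : Prop where
  h12 : x1 ≠ x2
  h34 : x3 ≠ x4
  h13 : x1 ≠ x3
  h14 : x1 ≠ x4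
  h23 : x2 ≠ x3
  h24 : x2 ≠ x4
  h15 : x1 ≠ x5
  h25 : x2 ≠ x5
  fix : Full (NatMod.stab R e) {x | x ≠ x1 ∧ x ≠ x2}
  neg : R ⟨_, dt_mem h12 h34⟩ e = -e
  sum : e + R ⟨_, c3_mem h12 h25⟩ e + R ⟨_, c3_mem h12 h25⟩ (R ⟨_, c3_mem h12 h25⟩ e) = 0

variable {R : alternatingGroup α →* End k V} {e : V} {x1 x2 x3 x4 x5 : α}

theorem NRel.swap (h : NRel R e x1 x2 x3 x4 x5) (h5 : 5 ≤ Fintype.card α) (i j : α) :
    E R e x1 x2 j i = -E R e x1 x2 i j :=
  E_swap h.h12 (by omega) h.fix h.h34 h.h13 h.h14 h.h23 h.h24 h.neg i j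

theorem NRel.add (h : NRel R e x1 x2 x3 x4 x5) (h5 : 5 ≤ Fintype.card α) (i j l : α) :
    E R e x1 x2 i j + E R e x1 x2 j l = E R e x1 x2 i l := by
  by_cases hij : i = j
  · rw [hij, E_self h.h12, zero_add]
  by_cases hjl : j = l
  · rw [hjl, E_self h.h12, add_zero]
  by_cases hil : i = l
  · rw [hil, E_self h.h12, h.swap h5, neg_add_cancel]
  have := E_sum h.h12 h5 h.fix h.h15 h.h25 h.sum hij hil hjl
  rwa [h.swap h5 i l, add_neg_eq_zero] at this

theorem NRel.range_le (h : NRel R e x1 x2 x3 x4 x5) (h5 : 5 ≤ Fintype.card α)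
    (hs : Submodule.span k (Set.range fun σ => R σ e) = ⊤) (s : alternatingGroup α) {U : Submodule k V}
    (hU : ∀ i, E R e x1 x2 ((s : Perm α) i) i ∈ U) : LinearMap.range (R s - 1) ≤ U := by
  rw [LinearMap.range_eq_map, ← hs, Submodule.map_span_le]
  rintro _ ⟨σ, rfl⟩
  show R s (R σ e) - R σ e ∈ U
  rw [← E_eq h.fix σ, act_E h.h12 (by omega) h.fix, ← h.add h5 _ ((σ : Perm α) x1),
    ← h.add h5 ((σ : Perm α) x1) ((σ : Perm α) x2) ((s : Perm α) _), h.swap h5 ((s : Perm α) ((σ : Perm α) x2))]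
  have := U.sub_mem (hU ((σ : Perm α) x1)) (hU ((σ : Perm α) x2))
  convert this using 1
  abel

theorem finrank_le_two {W : Submodule k V} {a b : V} (h : W ≤ Submodule.span k {a, b}) : finrank k W ≤ 2 := by
  classical
  have h1 := finrank_span_finset_le_card (R := k) ({a, b} : Finset V)
  have : FiniteDimensional k (Submodule.span k ({a, b} : Set V)) := FiniteDimensional.span_of_finite k (by simp)
  refine (Submodule.finrank_mono h).trans ?_
  rw [Set.finrank, Finset.coe_pair] at h1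
  exact h1.trans Finset.card_le_two

theorem NRel.c3_le (h : NRel R e x1 x2 x3 x4 x5) (h5 : 5 ≤ Fintype.card α)
    (hs : Submodule.span k (Set.range fun σ => R σ e) = ⊤) {a b c : α} (hab : a ≠ b) (hac : a ≠ c) (hbc : b ≠ c) :
    finrank k (LinearMap.range (R (cc a b c hab hbc) - 1)) ≤ 2 := by
  refine finrank_le_two (a := E R e x1 x2 b a) (b := E R e x1 x2 c b) (h.range_le h5 hs _ fun i => ?_)
  have m1 : E R e x1 x2 b a ∈ Submodule.span k {E R e x1 x2 b a, E R e x1 x2 c b} := Submodule.subset_span (by simp)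
  have m2 : E R e x1 x2 c b ∈ Submodule.span k {E R e x1 x2 b a, E R e x1 x2 c b} := Submodule.subset_span (by simp)
  show E R e x1 x2 (c3 a b c i) i ∈ _
  by_cases ha : i = a
  · rwa [ha, c3_fst hab hac]
  by_cases hb : i = b
  · rwa [hb, c3_snd hac hbc]
  by_cases hc : i = c
  · rw [hc, c3_trd, h.swap h5 c a, ← h.add h5 c b a]
    exact neg_mem (add_mem m2 m1)
  rw [c3_other ha hb hc, E_self h.h12]
  exact zero_mem _

theorem NRel.dt_le (h : NRel R e x1 x2 x3 x4 x5) (h5 : 5 ≤ Fintype.card α)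
    (hs : Submodule.span k (Set.range fun σ => R σ e) = ⊤) {a b c d : α} (hab : a ≠ b) (hcd : c ≠ d)
    (hac : a ≠ c) (had : a ≠ d) (hbc : b ≠ c) (hbd : b ≠ d) :
    finrank k (LinearMap.range (R (dt a b c d hab hcd) - 1)) ≤ 2 := by
  refine finrank_le_two (a := E R e x1 x2 b a) (b := E R e x1 x2 d c) (h.range_le h5 hs _ fun i => ?_)
  have m1 : E R e x1 x2 b a ∈ Submodule.span k {E R e x1 x2 b a, E R e x1 x2 d c} := Submodule.subset_span (by simp)
  have m2 : E R e x1 x2 d c ∈ Submodule.span k {E R e x1 x2 b a, E R e x1 x2 d c} := Submodule.subset_span (by simp)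
  show E R e x1 x2 (Equiv.swap a b (Equiv.swap c d i)) i ∈ _
  by_cases ha : i = a
  · rwa [ha, swap_apply_of_ne_of_ne hac had, swap_apply_left]
  by_cases hb : i = b
  · rw [hb, swap_apply_of_ne_of_ne hbc hbd, swap_apply_right, h.swap h5 b a]
    exact neg_mem m1
  by_cases hc : i = c
  · rwa [hc, swap_apply_left, swap_apply_of_ne_of_ne had.symm hbd.symm]
  by_cases hd : i = d
  · rw [hd, swap_apply_right, swap_apply_of_ne_of_ne hac.symm hbc.symm, h.swap h5 d c]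
    exact neg_mem m2
  rw [swap_apply_of_ne_of_ne hc hd, swap_apply_of_ne_of_ne ha hb, E_self h.h12]
  exact zero_mem _

/-- the vector from `P3` -/
theorem exists_of_P3 {p : ℕ} [Fact p.Prime] [CharP k p] (hp : ¬ p ∣ 3) (h : AltTwo.P3 R) (f : Fin 7 ↪ α)
    (hf : Function.Injective R) : ∃ e, e ≠ 0 ∧ NRel R e (f 0) (f 1) (f 3) (f 4) (f 2) := by
  have ne : ∀ i j : Fin 7, i ≠ j → f i ≠ f j := fun i j h => f.injective.ne h
  set t : alternatingGroup (Fin 7) := cc 0 1 2 (by decide) (by decide) with ht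
  set g : alternatingGroup (Fin 7) := dt 0 1 3 4 (by decide) (by decide) with hg
  set g' : alternatingGroup (Fin 7) := dt 0 1 5 6 (by decide) (by decide) with hg'
  set d : alternatingGroup (Fin 7) := dt 3 4 5 6 (by decide) (by decide) with hd
  set S : alternatingGroup (Fin 7) := cc 2 3 4 (by decide) (by decide) with hS
  have r1 : g * t = t * (t * g) := by decide
  have r2 : g * g = 1 := by decide
  have r3 : t ^ 3 = 1 := by decide
  have r4 : g' = g * d := by decide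
  have r5 : S * g' = g' * S := by decide
  have r6 : t * (t * t) = 1 := by decide
  let Q : Representation k (alternatingGroup (Fin 7)) V := R.comp (emb f)
  have hQ : ∀ x y v, Q (x * y) v = Q x (Q y v) := rho_mul Q
  have Qt : Q t = R (cc (f 0) (f 1) (f 2) (ne 0 1 (by decide)) (ne 1 2 (by decide))) := by
    show R (emb f t) = _
    rw [ht, emb_cc]
  have QS : Q S = R (cc (f 2) (f 3) (f 4) (ne 2 3 (by decide)) (ne 3 4 (by decide))) := by
    show R (emb f S) = _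
    rw [hS, emb_cc]
  have Mg : ∀ w, Q g (Q t w - w) = Q t (Q t (Q g w) + Q g w) - (Q t (Q g w) + Q g w) := fun w => by
    rw [map_sub, ← hQ, r1, hQ, hQ, map_add]; abel
  obtain ⟨w, hw⟩ : ∃ w, Q g (Q t w - w) ≠ Q t w - w := by
    by_contra hc
    push Not at hc
    have h1 : ∀ w, Q t w = w := fun w => by
      refine eq_of_sub_one_sq (ρ := Q) r3 hp (rho_injective Q t ?_)
      have h2 := hc (Q t w)
      rwa [← map_sub, ← hQ, r1, hQ, hQ, hc] at h2
    have h2 : emb f t = 1 := hf ((LinearMap.ext h1).trans (map_one R).symm)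
    exact absurd (emb_injective f (h2.trans (map_one _).symm)) (by decide)
  have fullt : ∀ w, Full (NatMod.stab R (Q t w - w)) {y | y ≠ f 0 ∧ y ≠ f 1 ∧ y ≠ f 2} := fun w => by
    rw [Qt]
    exact AltTwo.full_of_P3 h (ne 0 1 (by decide)) (ne 0 2 (by decide)) (ne 1 2 (by decide)) w
  have mem : ∀ (x : V) (i j l : Fin 7) (s : alternatingGroup (Fin 7)), (s : Perm (Fin 7)) i = i →
      (s : Perm (Fin 7)) j = j → (s : Perm (Fin 7)) l = l →
      Full (NatMod.stab R x) {y | y ≠ f i ∧ y ≠ f j ∧ y ≠ f l} → Q s x = x := by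
    intro x i j l s hi hj hl hx
    refine (NatMod.mem_stab (ρ := R) (σ := emb f s)).1 (mem_of_full hx (mem_alternatingGroup.1 (emb f s).2) ?_)
    intro y hy
    refine ⟨?_, ?_, ?_⟩ <;> rintro rfl <;> apply hy <;> rw [emb_apply]
    · rw [hi]
    · rw [hj]
    · rw [hl]
  set v := Q t w - w with hv
  have Fv : Full (NatMod.stab R v) {y | y ≠ f 0 ∧ y ≠ f 1 ∧ y ≠ f 2} := fullt w
  have g'v : Q g' v = Q g v := by rw [r4, hQ, mem v 0 1 2 d (by decide) (by decide) (by decide) Fv]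
  have he : v - Q g v = Q t (w - (Q t (Q g w) + Q g w)) - (w - (Q t (Q g w) + Q g w)) := by
    rw [hv, Mg, map_sub (Q t) w]; abel
  have hSe : Q S (v - Q g v) = v - Q g v := by
    have Fx : Full (NatMod.stab R (Q S v - v)) {y | y ≠ f 2 ∧ y ≠ f 3 ∧ y ≠ f 4} := by
      rw [QS]
      exact AltTwo.full_of_P3 h (ne 2 3 (by decide)) (ne 2 4 (by decide)) (ne 3 4 (by decide)) v
    have g'x := mem _ 2 3 4 g' (by decide) (by decide) (by decide) Fx
    rw [map_sub] at g'x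
    rw [map_sub, ← g'v, ← hQ, r5, hQ, sub_eq_iff_eq_add.1 g'x]
    abel
  refine ⟨v - Q g v, fun e => hw (sub_eq_zero.1 e).symm, ne 0 1 (by decide), ne 3 4 (by decide), ne 0 3 (by decide),
    ne 0 4 (by decide), ne 1 3 (by decide), ne 1 4 (by decide), ne 0 2 (by decide), ne 1 2 (by decide), ?_, ?_, ?_⟩
  · apply full_of_pair (y1 := f 3) (y2 := f 4) (ne 3 4 (by decide))
    rintro x ⟨x0, x1⟩ x3 x4
    by_cases x2 : x = f 2
    · rw [x2, ← c3_cycle (ne 2 3 (by decide)) (ne 2 4 (by decide)) (ne 3 4 (by decide))]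
      rw [QS] at hSe
      exact (NatMod.mem_stab (σ := cc (f 2) (f 3) (f 4) (ne 2 3 (by decide)) (ne 3 4 (by decide)))).2 hSe
    · rw [he]
      exact fullt _ _ ⟨ne _ _ (by decide), ne _ _ (by decide), ne _ _ (by decide)⟩ _
        ⟨ne _ _ (by decide), ne _ _ (by decide), ne _ _ (by decide)⟩ x ⟨x0, x1, x2⟩ (ne _ _ (by decide))
        (Ne.symm x3) (Ne.symm x4)
  · have h1 : R (emb f g) (v - Q g v) = -(v - Q g v) := by
      show Q g (v - Q g v) = _
      rw [map_sub, ← hQ, r2, rho_one, neg_sub]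
    rwa [hg, emb_dt] at h1
  · have h1 : v - Q g v + Q t (v - Q g v) + Q t (Q t (v - Q g v)) = 0 := by
      rw [he]
      generalize w - (Q t (Q g w) + Q g w) = u
      rw [map_sub, map_sub, ← hQ t t (Q t u), ← hQ (t * t) t u, mul_assoc, r6, rho_one]
      abel
    rwa [Qt] at h1

end Rel

variable {p : ℕ} [Fact p.Prime] {Y : Type} [Group Y] {V : Type} [AddCommGroup V] [Module (ZMod p) V]
  {K : Subgroup Y} {ρ : Representation (ZMod p) Y V} {n : ℕ} {ψ : Y →* Perm (Fin n)}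
  {ι : alternatingGroup (Fin n) →* Y}

/-- the relations may be assumed to span -/
theorem Fr.nat_span (F : Fr p K ρ ψ) (hi : Function.Injective ψ) (hι : ∀ σ, ψ (ι σ) = σ) {e : V} (he : e ≠ 0)
    {x1 x2 x3 x4 x5 : Fin n} (h : NRel (ρ.comp ι) e x1 x2 x3 x4 x5) :
    ∃ e, NRel (ρ.comp ι) e x1 x2 x3 x4 x5 ∧ Submodule.span (ZMod p) (Set.range fun σ => (ρ.comp ι) σ e) = ⊤ := by
  have hK : ∀ y ∈ K, ∃ σ, ι σ = y := fun y hy => ⟨⟨ψ y, mem_alternatingGroup.2 ((F.mem y).1 hy)⟩, hi (hι _)⟩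
  suffices H : ∃ e, e ≠ 0 ∧ NRel (ρ.comp ι) e x1 x2 x3 x4 x5 ∧
      ∀ y, ∃ σ, ρ y e = ρ (ι σ) e ∨ ρ y e = -ρ (ι σ) e by
    obtain ⟨e, he, h, H⟩ := H
    refine ⟨e, h, (F.irr _ fun y _ v hv => ?_).resolve_left fun h0 => he ?_⟩
    · refine Submodule.mem_comap.1 ((Submodule.span_le (p := Submodule.comap (ρ y) _)).2 ?_ hv)
      rintro _ ⟨σ, rfl⟩
      show ρ y (ρ (ι σ) e) ∈ Submodule.span (ZMod p) (Set.range fun σ => (ρ.comp ι) σ e)
      obtain ⟨τ, h1 | h1⟩ := H (y * ι σ) <;> rw [← rho_mul, h1]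
      · exact Submodule.subset_span ⟨τ, rfl⟩
      · exact neg_mem (Submodule.subset_span ⟨τ, rfl⟩)
    · rw [← Submodule.mem_bot (ZMod p), ← h0]
      exact Submodule.subset_span ⟨1, by simp only [_root_.MonoidHom.coe_comp, _root_.Function.comp_apply, _root_.map_one, _root_.Module.End.one_apply]⟩
  by_cases hY : ∀ y, y ∈ K
  · refine ⟨e, he, h, fun y => ?_⟩
    obtain ⟨σ, rfl⟩ := hK y (hY y)
    exact ⟨σ, Or.inl rfl⟩
  push Not at hY
  obtain ⟨y₀, hy₀⟩ := hY
  have h7 := F.deg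
  obtain ⟨a, ha⟩ := exists_notMem ({x1, x2, x3, x4, x5} : Finset (Fin n))
    (lt_of_le_of_lt Finset.card_le_five (by simp only [_root_.Fintype.card_fin]; omega))
  obtain ⟨b, hb⟩ := exists_notMem ({a, x1, x2, x3, x4, x5} : Finset (Fin n))
    (lt_of_le_of_lt Finset.card_le_six (by simp only [_root_.Fintype.card_fin]; omega))
  simp only [Finset.mem_insert, Finset.mem_singleton, not_or] at ha hb
  obtain ⟨a1, a2, a3, a4, a5⟩ := ha
  obtain ⟨ba, b1, b2, b3, b4, b5⟩ := hb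
  obtain ⟨y, hy⟩ := F.lift_all hy₀ (Equiv.swap a b)
  have hyy : y * y = 1 := hi (by rw [map_mul, hy, swap_mul_self, map_one])
  have s1 : ∀ x, a ≠ x → b ≠ x → Equiv.swap a b x = x := fun x h1 h2 => swap_apply_of_ne_of_ne h1.symm h2.symm
  have hsw : ∀ u v, a ≠ u → b ≠ u → a ≠ v → b ≠ v → Commute (Equiv.swap u v) (Equiv.swap a b) :=
    fun u v h1 h2 h3 h4 => by
      have := swap_apply_apply (Equiv.swap a b) u v
      rw [s1 u h1 h2, s1 v h3 h4] at this
      exact (mul_inv_eq_iff_eq_mul.1 this.symm).symm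
  have hc : ∀ σ : alternatingGroup (Fin n), Commute (σ : Perm (Fin n)) (Equiv.swap a b) → ∀ v,
      (ρ.comp ι) σ (ρ y v) = ρ y ((ρ.comp ι) σ v) := fun σ hσ v => by
    show ρ (ι σ) (ρ y v) = ρ y (ρ (ι σ) v)
    rw [← rho_mul, ← rho_mul, hi (show ψ (ι σ * y) = ψ (y * ι σ) by rw [map_mul, map_mul, hι, hy, hσ.eq])]
  have c1 := hc ⟨_, dt_mem h.h12 h.h34⟩ ((hsw _ _ a1 b1 a2 b2).mul_left (hsw _ _ a3 b3 a4 b4))
  have c2 := hc ⟨_, c3_mem h.h12 h.h25⟩ ((hsw _ _ a1 b1 a2 b2).mul_left (hsw _ _ a2 b2 a5 b5))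
  have key : ∀ t : ZMod p, NRel (ρ.comp ι) (e + t • ρ y e) x1 x2 x3 x4 x5 := fun t => by
    refine { h with fix := ?_, neg := ?_, sum := ?_ }
    · intro u hu v hv w hw huv huw hvw
      refine ⟨c3_mem huv hvw, ?_⟩
      have m : ∀ x, x ≠ x1 ∧ x ≠ x2 → Equiv.swap a b x ≠ x1 ∧ Equiv.swap a b x ≠ x2 := fun x hx =>
        ⟨fun e => hx.1 ((Equiv.swap a b).injective (e.trans (s1 _ a1 b1).symm)),
          fun e => hx.2 ((Equiv.swap a b).injective (e.trans (s1 _ a2 b2).symm))⟩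
      obtain ⟨_, h1⟩ := h.fix u hu v hv w hw huv huw hvw
      obtain ⟨h2, h3⟩ := h.fix _ (m u hu) _ (m v hv) _ (m w hw) ((Equiv.swap a b).injective.ne huv)
        ((Equiv.swap a b).injective.ne huw) ((Equiv.swap a b).injective.ne hvw)
      have h4 : ι ⟨_, c3_mem huv hvw⟩ * y = y * ι ⟨_, h2⟩ := hi (by
        rw [map_mul, map_mul, hι, hι, hy]
        show c3 u v w * _ = _ * c3 _ _ _
        rw [← conj_c3, swap_inv, ← mul_assoc, ← mul_assoc, swap_mul_self, one_mul])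
      rw [map_add, map_smul, h1]
      show e + t • ρ (ι _) (ρ y e) = _
      rw [← rho_mul, h4, rho_mul]
      exact congrArg (fun x => e + t • ρ y x) h3
    · rw [map_add, map_smul, c1, h.neg, map_neg, smul_neg, neg_add]
    · have h1 := congrArg (fun x => t • ρ y x) h.sum
      simp only [map_add, map_smul, c2, smul_add, map_zero, smul_zero] at h1 ⊢
      have h2 := h.sum
      linear_combination (norm := abel) h1 + h2
  have fin : ∀ e', (ρ y e' = e' ∨ ρ y e' = -e') → ∀ x, ∃ σ, ρ x e' = ρ (ι σ) e' ∨ ρ x e' = -ρ (ι σ) e' := by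
    intro e' he' x
    by_cases hx : x ∈ K
    · obtain ⟨σ, rfl⟩ := hK x hx
      exact ⟨σ, Or.inl rfl⟩
    · obtain ⟨σ, hσ⟩ := hK (x * y) ((F.mem _).2 (by
        rw [map_mul, Perm.sign_mul, F.sign_of_not_mem hx, hy, sign_swap (Ne.symm ba)]; decide))
      refine ⟨σ, ?_⟩
      rw [hσ, rho_mul]
      rcases he' with h1 | h1 <;> rw [h1]
      · exact Or.inl rfl
      · exact Or.inr (by rw [map_neg, neg_neg])
  by_cases h0 : e + ρ y e = 0
  · exact ⟨e, he, h, fin e (Or.inr (eq_neg_of_add_eq_zero_right h0))⟩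
  · refine ⟨e + ρ y e, h0, by simpa only [_root_.one_smul] using key 1, fin _ (Or.inl ?_)⟩
    rw [map_add, ← rho_mul, hyy, rho_one, add_comm]

/-- **the natural module** -/
theorem Fr.nat_cod [Finite V] (F : Fr p K ρ ψ) (hi : Function.Injective ψ) (hι : ∀ σ, ψ (ι σ) = σ) {e : V}
    (he : e ≠ 0) {x1 x2 x3 x4 x5 : Fin n} (h : NRel (ρ.comp ι) e x1 x2 x3 x4 x5) :
    (∀ {a b c : Fin n} (hab : a ≠ b) (_ : a ≠ c) (hbc : b ≠ c), cod ρ (Subgroup.zpowers (ι (cc a b c hab hbc))) ≤ 2) ∧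
      ∀ {a b c d : Fin n} (hab : a ≠ b) (hcd : c ≠ d), a ≠ c → a ≠ d → b ≠ c → b ≠ d →
        cod ρ (Subgroup.zpowers (ι (dt a b c d hab hcd))) ≤ 2 := by
  obtain ⟨e, h, hs⟩ := F.nat_span hi hι he h
  have h5 : 5 ≤ Fintype.card (Fin n) := by have := F.deg; simp only [_root_.Fintype.card_fin, _root_.ge_iff_le]; omega
  exact ⟨fun hab hac hbc => cod_zpowers (ρ := ρ) _ ▸ h.c3_le h5 hs hab hac hbc,
    fun hab hcd hac had hbc hbd => cod_zpowers (ρ := ρ) _ ▸ h.dt_le h5 hs hab hcd hac had hbc hbd⟩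

end Cfsg.Agent.TwoF.Alt
end

private theorem dce_975d4097d4b5 : _root_.True := by
  try have : _root_.True := by simp only [_root_.Cfsg.Agent.TwoF.Alt.orb.eq_1]
  try have : _root_.True := by simp only [_root_.Cfsg.Agent.TwoF.Alt.Fr.pr.congr_simp]
  try have : _root_.True := by simp only [_root_.Cfsg.Agent.TwoF.Alt.fix.eq_1]
  exact _root_.True.intro
end

-- part: TwoF/Alt/Step_mg
section
prune_inst 0x14201100042000000000008241001c02ea0001000008800000200e040680ac0200000820bc800400002a000400300000021000100000000000000400011900800080140600000108000000000000400000000000000000000000000000000004000000000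
set_option linter.all false
open scoped Cfsg.Agent.FastGrp

-- part: TwoF/Alt/Has
section
/-!
# Joint eigenvalues of two commuting elements of odd order on a module over `ZMod 2`
-/

set_option autoImplicit false

namespace Cfsg.Agent.TwoF.Alt

open Module Gen H189
open scoped TensorProduct

/-- the algebraic closure of the field with two elements -/
abbrev L2 : Type := AlgebraicClosure (ZMod 2)

variable {Y : Type} [Group Y] {V : Type} [AddCommGroup V] [Module (ZMod 2) V] {ρ : Representation (ZMod 2) Y V}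
  {s t : Y} {α β : L2}

/-- `(α, β)` is a pair of eigenvalues of `(s, t)` -/
def Has (ρ : Representation (ZMod 2) Y V) (s t : Y) (α β : L2) : Prop :=
  ∃ v : L2 ⊗[ZMod 2] V, v ≠ 0 ∧ bc L2 ρ s v = α • v ∧ bc L2 ρ t v = β • v

theorem Has.symm (h : Has ρ s t α β) : Has ρ t s β α := h.imp fun _ h => ⟨h.1, h.2.2, h.2.1⟩

theorem Has.sq (h : Has ρ s t α β) : Has ρ s t (α ^ 2) (β ^ 2) := by
  obtain ⟨v, h0, h1, h2⟩ := h
  let τ := (FiniteField.frobeniusAlgHom (ZMod 2) L2).toLinearMap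
  have hτ : ∀ c, τ c = c ^ 2 := fun c => by
    show c ^ Fintype.card (ZMod 2) = _
    rw [ZMod.card]
  have key : ∀ (c : L2) (x : L2 ⊗[ZMod 2] V), τ.rTensor V (c • x) = c ^ 2 • τ.rTensor V x := by
    intro c x
    induction x with
    | zero => simp
    | tmul a v => simp [TensorProduct.smul_tmul', hτ, mul_pow]
    | add x y hx hy => rw [smul_add, map_add, map_add, hx, hy, smul_add]
  have comm : ∀ (g : Y) (x : L2 ⊗[ZMod 2] V), bc L2 ρ g (τ.rTensor V x) = τ.rTensor V (bc L2 ρ g x) := by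
    intro g x
    induction x with
    | zero => simp only [_root_.map_zero]
    | tmul a v => simp [bc_tmul]
    | add x y hx hy => rw [map_add, map_add, hx, hy, map_add, map_add]
  have inj : Function.Injective (τ.rTensor V) :=
    Module.Flat.rTensor_preserves_injective_linearMap τ (FiniteField.frobeniusAlgHom (ZMod 2) L2).injective
  exact ⟨τ.rTensor V v, fun e => h0 (inj (e.trans (map_zero _).symm)), by rw [comm, h1, key], by rw [comm, h2, key]⟩

theorem eig_pow {k : Type*} [Field k] {W : Type*} [AddCommGroup W] [Module k W] {σ : Representation k Y W} {v : W}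
    {a : k} (h : σ s v = a • v) (i : ℕ) : σ (s ^ i) v = a ^ i • v := by
  induction i with
  | zero => rw [pow_zero, pow_zero, rho_one, one_smul]
  | succ i ih => rw [pow_succ, rho_mul, h, map_smul, ih, smul_smul, pow_succ']

theorem Has.conj (h : Has ρ s t α β) {g : Y} {i j : ℕ} (h1 : s * g = g * s ^ i) (h2 : t * g = g * t ^ j) :
    Has ρ s t (α ^ i) (β ^ j) := by
  obtain ⟨v, h0, e1, e2⟩ := h
  exact ⟨bc L2 ρ g v, Wt.ne_zero _ g h0, by rw [← rho_mul, h1, rho_mul, eig_pow e1, map_smul],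
    by rw [← rho_mul, h2, rho_mul, eig_pow e2, map_smul]⟩

theorem Has.swap (h : Has ρ s t α β) {g : Y} {i j : ℕ} (h1 : s * g = g * t ^ i) (h2 : t * g = g * s ^ j) :
    Has ρ s t (β ^ i) (α ^ j) := by
  obtain ⟨v, h0, e1, e2⟩ := h
  exact ⟨bc L2 ρ g v, Wt.ne_zero _ g h0, by rw [← rho_mul, h1, rho_mul, eig_pow e2, map_smul],
    by rw [← rho_mul, h2, rho_mul, eig_pow e1, map_smul]⟩

theorem Has.pow_eq (h : Has ρ s t α β) {l : ℕ} (hs : s ^ l = 1) : α ^ l = 1 := by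
  obtain ⟨v, h0, e1, -⟩ := h
  exact Eig.pow_eq_one_of_eig (by rw [← map_pow, hs, map_one]) h0 e1

theorem cast_ne_of_odd {l : ℕ} (hl : Odd l) : (l : L2) ≠ 0 := fun e =>
  (Nat.two_dvd_ne_zero.2 (Nat.odd_iff.1 hl)) ((CharP.cast_eq_zero_iff L2 2 l).1 e)

theorem tmul_ne {v : V} (h : v ≠ 0) : ((1 : L2) ⊗ₜ[ZMod 2] v) ≠ 0 := fun e => h <| by
  have := baseChange_injective (k := ZMod 2) L2 (V := ZMod 2) (W := V)
    (a₁ := LinearMap.toSpanSingleton _ _ v) (a₂ := 0) (by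
      refine TensorProduct.AlgebraTensorModule.ext fun a c => ?_
      simp only [LinearMap.baseChange_tmul, LinearMap.toSpanSingleton_apply, LinearMap.zero_apply,
        TensorProduct.tmul_zero, TensorProduct.tmul_smul]
      rw [← mul_one a, ← smul_eq_mul, ← TensorProduct.smul_tmul', e, smul_zero, smul_zero])
  simpa using LinearMap.congr_fun this 1

variable [FiniteDimensional (ZMod 2) V]

theorem exists_has_aux (hc : s * t = t * s) (U : Submodule L2 (L2 ⊗[ZMod 2] V)) (h0 : U ≠ ⊥)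
    (h1 : ∀ v ∈ U, bc L2 ρ s v ∈ U) (h2 : ∀ v ∈ U, bc L2 ρ t v ∈ U) :
    ∃ v ∈ U, v ≠ 0 ∧ ∃ α β : L2, bc L2 ρ s v = α • v ∧ bc L2 ρ t v = β • v := by
  obtain ⟨w, hw, w0, a, ha⟩ := Eig.exists_eig (bc L2 ρ s) U h1 h0
  obtain ⟨v, hv, v0, b, hb⟩ := Eig.exists_eig (bc L2 ρ t) (U ⊓ End.eigenspace (bc L2 ρ s) a)
    (fun v hv => ⟨h2 v hv.1, End.mem_eigenspace_iff.2 (by
      rw [← rho_mul, hc, rho_mul, End.mem_eigenspace_iff.1 hv.2, map_smul])⟩)
    (Submodule.ne_bot_iff _ |>.2 ⟨w, ⟨hw, End.mem_eigenspace_iff.2 ha⟩, w0⟩)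
  exact ⟨v, hv.1, v0, a, b, End.mem_eigenspace_iff.1 hv.2, hb⟩

omit [FiniteDimensional (ZMod 2) V] in
theorem range_inv {k : Type*} [Field k] {W : Type*} [AddCommGroup W] [Module k W] {σ : Representation k Y W}
    {a g : Y} (h : g * a = a * g) : ∀ v ∈ LinearMap.range (σ a - 1), σ g v ∈ LinearMap.range (σ a - 1) := by
  rintro _ ⟨v, rfl⟩
  refine ⟨σ g v, ?_⟩
  show σ a (σ g v) - σ g v = σ g (σ a v - v)
  rw [map_sub, ← rho_mul, ← rho_mul, h]

omit [FiniteDimensional (ZMod 2) V] in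
theorem ne_one_of_range {l : ℕ} (hl : Odd l) (hs : s ^ l = 1) {v : L2 ⊗[ZMod 2] V} (h0 : v ≠ 0)
    (hv : v ∈ LinearMap.range (bc L2 ρ s - 1)) (h : bc L2 ρ s v = α • v) : α ≠ 1 := fun e =>
  h0 (Eig.geom_zero (by rw [← map_pow, hs, map_one]) hv (by rw [h, e, one_smul]) (cast_ne_of_odd hl))

/-- both eigenvalues non-trivial -/
theorem exists_has (hc : s * t = t * s) {l m : ℕ} (hl : Odd l) (hs : s ^ l = 1) (hm : Odd m) (ht : t ^ m = 1)
    (h : ∃ v, ρ t (ρ s v - v) ≠ ρ s v - v) : ∃ α β : L2, α ≠ 1 ∧ β ≠ 1 ∧ Has ρ s t α β := by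
  obtain ⟨v, hv⟩ := h
  obtain ⟨w, hw, w0, a, b, ha, hb⟩ := exists_has_aux (ρ := ρ) hc
    (LinearMap.range (bc L2 ρ s - 1) ⊓ LinearMap.range (bc L2 ρ t - 1))
    ((Submodule.ne_bot_iff _).2 ⟨_, ⟨
      ⟨(1 : L2) ⊗ₜ (ρ t v - v), by
        show (1 : L2) ⊗ₜ[ZMod 2] ρ s (ρ t v - v) - 1 ⊗ₜ (ρ t v - v) = 1 ⊗ₜ (ρ t (ρ s v - v) - (ρ s v - v))
        rw [← TensorProduct.tmul_sub, map_sub, map_sub, ← rho_mul, ← rho_mul, hc]
        congr 1; abel⟩,
      ⟨(1 : L2) ⊗ₜ (ρ s v - v), (TensorProduct.tmul_sub _ _ _).symm⟩⟩, tmul_ne (sub_ne_zero.2 hv)⟩)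
    (fun v hv => ⟨range_inv rfl v hv.1, range_inv hc v hv.2⟩)
    (fun v hv => ⟨range_inv hc.symm v hv.1, range_inv rfl v hv.2⟩)
  exact ⟨a, b, ne_one_of_range hl hs w0 hw.1 ha, ne_one_of_range hm ht w0 hw.2 hb, w, w0, ha, hb⟩

/-- the second eigenvalue trivial -/
theorem exists_has_one (hc : s * t = t * s) {l : ℕ} (hl : Odd l) (hs : s ^ l = 1)
    (h : ∃ v, ρ t v = v ∧ ρ s v ≠ v) : ∃ α : L2, α ≠ 1 ∧ Has ρ s t α 1 := by
  obtain ⟨v, hv, hv'⟩ := h
  obtain ⟨w, hw, w0, a, ha⟩ := Eig.exists_eig (bc L2 ρ s)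
    (LinearMap.range (bc L2 ρ s - 1) ⊓ End.eigenspace (bc L2 ρ t) 1)
    (fun v hv => ⟨range_inv rfl v hv.1, End.mem_eigenspace_iff.2 (by
      rw [← rho_mul, ← hc, rho_mul, End.mem_eigenspace_iff.1 hv.2, map_smul])⟩)
    ((Submodule.ne_bot_iff _).2 ⟨(1 : L2) ⊗ₜ (ρ s v - v), ⟨⟨1 ⊗ₜ v, (TensorProduct.tmul_sub _ _ _).symm⟩,
      End.mem_eigenspace_iff.2 (by rw [bc_tmul, map_sub, ← rho_mul, ← hc, rho_mul, hv, one_smul])⟩,
      tmul_ne (sub_ne_zero.2 hv')⟩)
  exact ⟨a, ne_one_of_range hl hs w0 hw.1 ha, w, w0, ha, End.mem_eigenspace_iff.1 hw.2⟩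

omit [FiniteDimensional (ZMod 2) V] in
theorem eig_le_range {k : Type*} [Field k] {W : Type*} [AddCommGroup W] [Module k W] {f : End k W} {a : k}
    (h : a ≠ 1) : f.eigenspace a ≤ LinearMap.range (f - 1) := fun v hv => ⟨(a - 1)⁻¹ • v, by
  rw [map_smul, LinearMap.sub_apply, End.mem_eigenspace_iff.1 hv, End.one_apply, ← one_smul k v, smul_smul, mul_one,
    ← sub_smul, smul_smul, inv_mul_cancel₀ (sub_ne_zero.2 h)]⟩

variable [Finite Y]

/-- counting the pairs -/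
theorem card_le_cod {ι : Type} [Fintype ι] (a b : ι → L2) (hi : ∀ i j, a i = a j → b i = b j → i = j)
    (h1 : ∀ i, a i ≠ 1) (h : ∀ i, Has ρ s t (a i) (b i)) : Fintype.card ι ≤ cod ρ (Subgroup.zpowers s) := by
  choose v h0 e1 e2 using h
  have hl := Wt.linearIndependent_of_wt (fun y : Bool => if y then bc L2 ρ s else bc L2 ρ t) v
    (fun i y => if y then a i else b i) (fun i j e => hi i j (congrFun e true) (congrFun e false)) h0
    (fun i y => by cases y; exacts [e2 i, e1 i])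
  rw [← cod_bc L2, cod_zpowers]
  exact (LinearIndependent.of_comp (LinearMap.range (bc L2 ρ s - 1)).subtype
    (v := fun i => ⟨v i, eig_le_range (h1 i) (End.mem_eigenspace_iff.2 (e1 i))⟩) (by exact hl)).fintype_card_le_finrank

/-- counting with multiplicities -/
theorem mul_le_cod {ι : Type} [Fintype ι] (a : ι → L2) (hi : Function.Injective a) (h1 : ∀ i, a i ≠ 1) {m : ℕ}
    (h : ∀ i, m ≤ finrank L2 (End.eigenspace (bc L2 ρ s) (a i))) : Fintype.card ι * m ≤ cod ρ (Subgroup.zpowers s) := by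
  rw [← cod_bc L2, cod_zpowers]
  refine le_trans ?_ (sum_finrank_le_of_indep ((End.eigenspaces_iSupIndep (bc L2 ρ s)).comp hi) Finset.univ
    fun i _ => eig_le_range (h1 i))
  rw [← smul_eq_mul, ← Finset.card_univ]
  exact Finset.card_nsmul_le_sum _ _ _ fun i _ => h i

omit [FiniteDimensional (ZMod 2) V] [Finite Y] in
theorem pow_inj {l : ℕ} (hl : l.Prime) (h : α ^ l = 1) (h1 : α ≠ 1) {i j : ℕ} (hi : i < l) (hj : j < l)
    (e : α ^ i = α ^ j) : i = j := by
  have : Fact l.Prime := ⟨hl⟩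
  have := orderOf_eq_prime h h1
  exact pow_injOn_Iio_orderOf (by rwa [this]) (by rwa [this]) e

/-- the move `(α, β) ↦ (α ^ u, β ^ v)` -/
def Mv (ρ : Representation (ZMod 2) Y V) (s t : Y) (u v : ℕ) : Prop :=
  ∀ α β, Has ρ s t α β → Has ρ s t (α ^ u) (β ^ v)

section
omit [FiniteDimensional (ZMod 2) V] [Finite Y]

theorem Mv.sq : Mv ρ s t 2 2 := fun _ _ h => h.sq

theorem Mv.one : Mv ρ s t 1 1 := fun _ _ h => by rwa [pow_one, pow_one]

theorem Mv.conj {g : Y} {i j : ℕ} (h1 : s * g = g * s ^ i) (h2 : t * g = g * t ^ j) : Mv ρ s t i j :=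
  fun _ _ h => h.conj h1 h2

theorem Mv.symm {u v : ℕ} (h : Mv ρ s t u v) : Mv ρ t s v u := fun _ _ e => (h _ _ e.symm).symm

theorem Mv.mul {u v u' v' : ℕ} (h : Mv ρ s t u v) (h' : Mv ρ s t u' v') : Mv ρ s t (u * u') (v * v') :=
  fun _ _ e => by rw [pow_mul, pow_mul]; exact h' _ _ (h _ _ e)

theorem Mv.pow {u v : ℕ} (h : Mv ρ s t u v) (n : ℕ) : Mv ρ s t (u ^ n) (v ^ n) := by
  induction n with
  | zero => exact Mv.one
  | succ n ih => exact ih.mul h

theorem Mv.mod {u v l m : ℕ} (h : Mv ρ s t u v) (hs : s ^ l = 1) (ht : t ^ m = 1) : Mv ρ s t (u % l) (v % m) :=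
  fun _ _ e => by
    rw [← pow_eq_pow_mod u (e.pow_eq hs), ← pow_eq_pow_mod v (e.symm.pow_eq ht)]
    exact h _ _ e

/-- all moves -/
theorem Mv.all {l m u v u' v' : ℕ} (hs : s ^ l = 1) (ht : t ^ m = 1) (h : Mv ρ s t u v) (h' : Mv ρ s t u' v')
    (H : ∀ i : Fin (l - 1), ∀ j : Fin (m - 1), ∃ a b c : Fin 4,
      2 ^ a.1 * u ^ b.1 * u' ^ c.1 % l = i + 1 ∧ 2 ^ a.1 * v ^ b.1 * v' ^ c.1 % m = j + 1)
    (i : Fin (l - 1)) (j : Fin (m - 1)) : Mv ρ s t (i + 1) (j + 1) := by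
  obtain ⟨a, b, c, e1, e2⟩ := H i j
  rw [← e1, ← e2]
  exact (((Mv.sq.pow a).mul (h.pow b)).mul (h'.pow c)).mod hs ht

end

/-- all pairs of non-trivial eigenvalues occur -/
theorem le_cod_of_all {l m : ℕ} (hl : l.Prime) (hs : s ^ l = 1) (hm : m.Prime) (ht : t ^ m = 1) (h1 : α ≠ 1)
    (h2 : β ≠ 1) (h : Has ρ s t α β) (H : ∀ (i : Fin (l - 1)) (j : Fin (m - 1)), Has ρ s t (α ^ (i.1 + 1)) (β ^ (j.1 + 1))) :
    (l - 1) * (m - 1) ≤ cod ρ (Subgroup.zpowers s) := by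
  have := card_le_cod (ι := Fin (l - 1) × Fin (m - 1)) (fun x => α ^ (x.1.1 + 1)) (fun x => β ^ (x.2.1 + 1))
    (fun x y e e' => Prod.ext
      (Fin.ext (Nat.succ_injective (pow_inj hl (h.pow_eq hs) h1 (by omega) (by omega) e)))
      (Fin.ext (Nat.succ_injective (pow_inj hm (h.symm.pow_eq ht) h2 (by omega) (by omega) e'))))
    (fun x e => Nat.succ_ne_zero _ (pow_inj hl (h.pow_eq hs) h1 (by omega) hl.pos (e.trans (pow_zero α).symm)))
    fun x => H x.1 x.2
  simpa only [_root_.ge_iff_le, _root_.Fintype.card_prod, _root_.Fintype.card_fin] using this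

/-- all pairs of non-trivial eigenvalues occur, and also the pairs with trivial second entry -/
theorem le_cod_of_all' {l m : ℕ} (hl : l.Prime) (hs : s ^ l = 1) (hm : m.Prime) (ht : t ^ m = 1) (h1 : α ≠ 1)
    (h2 : β ≠ 1) (h : Has ρ s t α β) {γ : L2} (h3 : γ ≠ 1) (h' : Has ρ s t γ 1)
    (H : ∀ (i : Fin (l - 1)) (j : Fin (m - 1)), Mv ρ s t (i + 1) (j + 1)) :
    (l - 1) * m ≤ cod ρ (Subgroup.zpowers s) := by
  have hm2 := hm.two_le
  have := card_le_cod (ρ := ρ) (s := s) (t := t) (ι := Fin (l - 1) × Option (Fin (m - 1)))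
    (fun x => x.2.elim γ (fun _ => α) ^ (x.1.1 + 1)) (fun x => x.2.elim 1 fun j => β ^ (j.1 + 1)) ?_ ?_ ?_
  · rwa [Fintype.card_prod, Fintype.card_option, Fintype.card_fin, Fintype.card_fin, Nat.sub_add_cancel hm.pos] at this
  · have hb : ∀ j : Fin (m - 1), β ^ (j.1 + 1) ≠ 1 := fun j e =>
      Nat.succ_ne_zero _ (pow_inj hm (h.symm.pow_eq ht) h2 (by omega) hm.pos (e.trans (pow_zero β).symm))
    rintro ⟨i, _ | j⟩ ⟨i', _ | j'⟩ e e'
    · exact Prod.ext (Fin.ext (Nat.succ_injective (pow_inj hl (h'.pow_eq hs) h3 (by omega) (by omega) e))) rfl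
    · exact (hb j' e'.symm).elim
    · exact (hb j e').elim
    · exact Prod.ext (Fin.ext (Nat.succ_injective (pow_inj hl (h.pow_eq hs) h1 (by omega) (by omega) e)))
        (congrArg some (Fin.ext (Nat.succ_injective (pow_inj hm (h.symm.pow_eq ht) h2 (by omega) (by omega) e'))))
  · rintro ⟨i, _ | j⟩ e
    · exact Nat.succ_ne_zero _ (pow_inj hl (h'.pow_eq hs) h3 (by omega) hl.pos (e.trans (pow_zero γ).symm))
    · exact Nat.succ_ne_zero _ (pow_inj hl (h.pow_eq hs) h1 (by omega) hl.pos (e.trans (pow_zero α).symm))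
  · rintro ⟨i, _ | j⟩
    · have := H i ⟨0, by omega⟩ _ _ h'
      rwa [one_pow] at this
    · exact H i j _ _ h

end Cfsg.Agent.TwoF.Alt
end

-- part: TwoF/Alt/Two
section
/-!
# Characteristic two, trivial centre: the tools
-/

set_option autoImplicit false

namespace Cfsg.Agent.TwoF.Alt

open Module Equiv Equiv.Perm Gen H189 H189.Cyc H189.Emb

section Lin

variable {k : Type*} [Field k] {Y : Type*} [Group Y] {V : Type*} [AddCommGroup V] [Module k V]
  {ρ : Representation k Y V} [FiniteDimensional k V]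

theorem finrank_eq_map_add (f : End k V) (M : Submodule k V) :
    finrank k M = finrank k (M.map f) + finrank k ↥(M ⊓ LinearMap.ker f) := by
  have h := LinearMap.finrank_range_add_finrank_ker (f.domRestrict M)
  rw [LinearMap.range_domRestrict, LinearMap.ker_domRestrict] at h
  rw [← h, ← Submodule.finrank_map_subtype_eq M (Submodule.comap _ _), Submodule.map_comap_subtype]

theorem codOn_zpowers (U : Submodule k V) (x : Y) :
    codOn ρ U (Subgroup.zpowers x) = finrank k (U.map (ρ x - 1)) := by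
  have h1 := finrank_eq_map_add (ρ x - 1) U
  have h2 := codOn_add (ρ := ρ) U (Subgroup.zpowers x)
  rw [fx_zpowers] at h2
  omega

variable [CharP k 2]

omit [FiniteDimensional k V] in
theorem sq_zero {a : Y} (ha : a * a = 1) (v : V) : ρ a (ρ a v - v) = ρ a v - v := by
  have h : ∀ w : V, -w = w := fun w => neg_eq_of_add_eq_zero_left (by
    rw [← two_smul k, two_eq_zero', zero_smul])
  rw [map_sub, ← rho_mul, ha, rho_one, ← neg_sub, h]

/-- an involution fixes at least half of an invariant subspace -/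
theorem le_two_mul_inf {a : Y} (ha : a * a = 1) {M : Submodule k V} (hM : ∀ v ∈ M, ρ a v ∈ M) :
    finrank k M ≤ 2 * finrank k ↥(M ⊓ fx ρ (Subgroup.zpowers a)) := by
  have h1 := finrank_eq_map_add (ρ a - 1) M
  have h2 : M.map (ρ a - 1) ≤ M ⊓ LinearMap.ker (ρ a - 1) := by
    rintro _ ⟨v, hv, rfl⟩
    exact ⟨M.sub_mem (hM v hv) hv, sub_eq_zero.2 (sq_zero ha v)⟩
  have h3 := Submodule.finrank_mono h2
  rw [fx_zpowers]
  omega

theorem two_cod_le {a : Y} (ha : a * a = 1) : 2 * cod ρ (Subgroup.zpowers a) ≤ finrank k V := by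
  have h1 := le_two_mul_inf (ρ := ρ) ha (M := ⊤) fun _ _ => trivial
  have h2 := cod_add (ρ := ρ) (Subgroup.zpowers a)
  rw [top_inf_eq, finrank_top] at h1
  omega

omit [FiniteDimensional k V] in
theorem eq_zero_of_range {x : Y} {m : ℕ} (hx : x ^ m = 1) (hm : ¬ 2 ∣ m) {v : V}
    (hv : v ∈ LinearMap.range (ρ x - 1)) (h : ρ x v = v) : v = 0 := by
  obtain ⟨w, rfl⟩ := hv
  exact sub_eq_zero.2 (eq_of_sub_one_sq hx hm h)

/-- an element of odd order on the fixed space of a commuting involution -/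
theorem half {a x : Y} (ha : a * a = 1) {m : ℕ} (hx : x ^ m = 1) (hm : ¬ 2 ∣ m) (hc : a * x = x * a) :
    cod ρ (Subgroup.zpowers x) ≤ 2 * codOn ρ (fx ρ (Subgroup.zpowers a)) (Subgroup.zpowers x) := by
  rw [cod_zpowers]
  refine (le_two_mul_inf ha fun v hv => ?_).trans (Nat.mul_le_mul_left 2 (finrank_le_codOn inf_le_right ?_))
  · obtain ⟨w, rfl⟩ := hv
    exact ⟨ρ a w, sub_one_comm' hc w⟩
  · exact eq_bot_iff.2 fun v hv => eq_zero_of_range hx hm hv.1.1 (mem_fx_zpowers.1 hv.2)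
where
  sub_one_comm' {k : Type _} [Field k] {Y : Type _} [Group Y] {V : Type _} [AddCommGroup V] [Module k V]
      {ρ : Representation k Y V} {a x : Y} (h : a * x = x * a) (v : V) :
      (ρ x - 1) (ρ a v) = ρ a ((ρ x - 1) v) := by
    show ρ x (ρ a v) - ρ a v = ρ a (ρ x v - v)
    rw [map_sub, ← rho_mul, ← rho_mul, h]

omit [CharP k 2] in
/-- submodularity for a conjugate -/
theorem sm {A B Q : Subgroup Y} {g : Y} (hB : B ≤ A) (hg : ∀ b ∈ B, b * g = g * b)
    (hQ : ∀ H : Subgroup Y, A ≤ H → (∀ a ∈ A, g * a * g⁻¹ ∈ H) → Q ≤ H) : cod ρ Q + cod ρ B ≤ 2 * cod ρ A := by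
  have h1 := cod_sup_add_inf (ρ := ρ) A (A.map (MulAut.conj g).toMonoidHom)
  have h2 : cod ρ Q ≤ cod ρ (A ⊔ A.map (MulAut.conj g).toMonoidHom) :=
    cod_mono (hQ _ le_sup_left fun a ha => Subgroup.mem_sup_right ⟨a, ha, rfl⟩)
  have h3 : cod ρ B ≤ cod ρ (A ⊓ A.map (MulAut.conj g).toMonoidHom) :=
    cod_mono (le_inf hB fun b hb => ⟨b, hB hb, by
      show g * b * g⁻¹ = b
      rw [← hg b hb, mul_inv_cancel_right]⟩)
  rw [cod_conj] at h1
  omega

end Lin

/-- `b` does not centralise the commutator space of `a` -/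
def NZ {k : Type*} [Field k] {Y : Type*} [Group Y] {V : Type*} [AddCommGroup V] [Module k V]
    (ρ : Representation k Y V) (a b : Y) : Prop := ∃ v, ρ b (ρ a v - v) ≠ ρ a v - v

theorem NZ.symm {k : Type*} [Field k] {Y : Type*} [Group Y] {V : Type*} [AddCommGroup V] [Module k V]
    {ρ : Representation k Y V} {a b : Y} (h : NZ ρ a b) (hc : a * b = b * a) : NZ ρ b a :=
  h.imp fun v hv e => hv <| by
    rw [map_sub, ← rho_mul] at e ⊢
    rw [← hc, sub_eq_iff_eq_add.1 e]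
    abel

variable {Y : Type} [Group Y] {V : Type} [AddCommGroup V] [Module (ZMod 2) V]
  {K : Subgroup Y} {ρ : Representation (ZMod 2) Y V} {n : ℕ} {ψ : Y →* Perm (Fin n)}

/-- the 5-cycle -/
def s5 : Perm (Fin 5) := c3 0 1 2 * c3 2 3 4

/-- lower bound for the 3-cycles -/
def XL (ρ : Representation (ZMod 2) Y V) (ψ : Y →* Perm (Fin n)) (N : ℕ) : Prop :=
  ∀ x a b c, a ≠ b → a ≠ c → b ≠ c → ψ x = c3 a b c → N ≤ cod ρ (Subgroup.zpowers x)

/-- lower bound for the 5-cycles -/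
def YL (ρ : Representation (ZMod 2) Y V) (ψ : Y →* Perm (Fin n)) (N : ℕ) : Prop :=
  ∀ (f : Fin 5 ↪ Fin n) x, ψ x = embP f s5 → N ≤ cod ρ (Subgroup.zpowers x)

/-- lower bound for the transpositions -/
def TL (ρ : Representation (ZMod 2) Y V) (ψ : Y →* Perm (Fin n)) (N : ℕ) : Prop :=
  ∀ x a b, a ≠ b → ψ x = swap a b → N ≤ cod ρ (Subgroup.zpowers x)

theorem XL.mono {N M : ℕ} (h : XL ρ ψ N) (hM : M ≤ N) : XL ρ ψ M := fun x a b c h1 h2 h3 e =>
  hM.trans (h x a b c h1 h2 h3 e)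

theorem YL.mono {N M : ℕ} (h : YL ρ ψ N) (hM : M ≤ N) : YL ρ ψ M := fun f x e => hM.trans (h f x e)

theorem conj_embP {α β : Type} [Fintype α] [DecidableEq α] [Fintype β] [DecidableEq β] {f g : β ↪ α} {σ : Perm α}
    {τ : Perm β} (h : ∀ i, σ (f i) = g (τ i)) (x : Perm β) : σ * embP f x * σ⁻¹ = embP g (τ * x * τ⁻¹) := by
  rw [mul_inv_eq_iff_eq_mul]
  ext y
  by_cases hy : ∃ i, f i = y
  · obtain ⟨i, rfl⟩ := hy
    rw [Perm.mul_apply, Perm.mul_apply, embP_apply, h, h, embP_apply, Perm.mul_apply, Perm.mul_apply, inv_apply_self]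
  · push Not at hy
    rw [Perm.mul_apply, Perm.mul_apply, embP_other f x hy, embP_other]
    intro i e
    refine hy (τ⁻¹ i) (σ.injective ?_)
    rw [h, apply_inv_self, e]

/-- characteristic two, trivial centre, not the natural module -/
structure T2 (K : Subgroup Y) (ρ : Representation (ZMod 2) Y V) (ψ : Y →* Perm (Fin n)) : Prop
    extends Fr 2 K ρ ψ where
  inj : Function.Injective ψ
  np : ∀ (f : Fin 6 ↪ Fin n) x y, ψ x = c3 (f 0) (f 1) (f 2) → ψ y = c3 (f 3) (f 4) (f 5) → NZ ρ x y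

/-- the natural module or `T2` -/
theorem Fr.nat_or [Finite Y] [Finite V] (F : Fr 2 K ρ ψ) (hi : Function.Injective ψ) (h : 8 ≤ n ∨ ∃ y, y ∉ K) :
    (∃ B ≤ K, Off 2 ρ B ∧ Cub ρ B) ∨ T2 K ρ ψ := by
  obtain ⟨ι, hι, hK⟩ := F.iota hi
  have h7 := F.deg
  by_cases hP : AltTwo.P3 (ρ.comp ι)
  · left
    have hιi : Function.Injective ι := fun a b e => Subtype.ext (by rw [← hι, e, hι])
    obtain ⟨e, he, hr⟩ := exists_of_P3 (p := 2) (by decide) hP (Fin.castLEEmb h7) (F.faithful.comp hιi)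
    let f := Fin.castLEEmb h7
    have ne : ∀ i j : Fin 7, i ≠ j → f i ≠ f j := fun i j h => f.injective.ne h
    have h1 := (F.nat_cod hi hι he hr).2 (ne 0 1 (by decide)) (ne 2 3 (by decide)) (ne 0 2 (by decide))
      (ne 0 3 (by decide)) (ne 1 2 (by decide)) (ne 1 3 (by decide))
    rw [← emb_dt f 0 1 2 3 (by decide) (by decide)] at h1
    have h2 : orderOf (ι (emb f (dt 0 1 2 3 (by decide) (by decide)))) = 2 := by
      rw [orderOf_injective ι hιi, orderOf_injective _ (emb_injective f)]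
      exact orderOf_eq_prime (by decide) (by decide)
    exact ⟨_, Subgroup.zpowers_le.2 (hK _), off_zpowers h2 h1, (off_zpowers h2 h1).cub (by
      rw [Nat.card_zpowers, h2]; decide)⟩
  · refine Or.inr ⟨F, hi, fun f x y hx hy => ?_⟩
    simp only [AltTwo.P3, not_forall] at hP
    obtain ⟨f₀, v, hv⟩ := hP
    obtain ⟨g, hg⟩ : ∃ g, ∀ i, ψ g (f₀ i) = f i := by
      rcases h with h | ⟨y₀, h⟩
      · obtain ⟨σ, hσ⟩ := NatMod.exists_even f₀ f f₀.injective f.injective (by simpa only [_root_.Nat.reduceAdd, _root_.Fintype.card_fin] using h)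
        exact ⟨ι σ, fun i => by rw [hι, hσ]⟩
      · obtain ⟨σ, hσ⟩ := Equiv.Perm.exists_extending_pair _ _ f₀.injective f.injective
        obtain ⟨g, rfl⟩ := F.lift_all h σ
        exact ⟨g, hσ⟩
    have e : ∀ (i j l : Fin 6) (hij : f₀ i ≠ f₀ j) (hjl : f₀ j ≠ f₀ l) z, ψ z = c3 (f i) (f j) (f l) → ∀ w,
        ρ z (ρ g w) = ρ g ((ρ.comp ι) (cc _ _ _ hij hjl) w) := fun i j l hij hjl z hz w => by
      show _ = ρ g (ρ (ι _) w)
      rw [← rho_mul, ← rho_mul]
      congr 2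
      refine hi ?_
      rw [map_mul, map_mul, hι, hz, ← hg, ← hg, ← hg, ← conj_c3, inv_mul_cancel_right]
      rfl
    refine ⟨ρ g v, fun h1 => hv (rho_injective ρ g ?_)⟩
    rwa [e 0 1 2 _ _ x hx, ← map_sub, e 3 4 5 _ _ y hy] at h1

namespace T2

variable (T : T2 K ρ ψ)
include T

theorem comm {a b : Y} (h : ψ a * ψ b = ψ b * ψ a) : a * b = b * a := T.inj (by rw [map_mul, map_mul, h])

theorem pow {a : Y} {m : ℕ} (h : ψ a ^ m = 1) : a ^ m = 1 := T.inj (by rw [map_pow, h, map_one])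

theorem cod_conj_eq {x y g : Y} (h : ψ g * ψ x * (ψ g)⁻¹ = ψ y) :
    cod ρ (Subgroup.zpowers y) = cod ρ (Subgroup.zpowers x) := by
  rw [← cod_zpowers_conj g x, T.inj (show ψ (g * x * g⁻¹) = ψ y by rw [map_mul, map_mul, map_inv, h])]

theorem exists_move {m : ℕ} (hm : m ≤ 5) (f g : Fin m → Fin n) (hf : Function.Injective f)
    (hg : Function.Injective g) : ∃ y, ∀ i, ψ y (f i) = g i := by
  obtain ⟨σ, hσ⟩ := NatMod.exists_even f g hf hg (by have := T.deg; simp only [_root_.Fintype.card_fin, _root_.ge_iff_le]; omega)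
  obtain ⟨y, -, hy⟩ := T.lift σ (mem_alternatingGroup.1 σ.2)
  exact ⟨y, fun i => by rw [hy, hσ]⟩

theorem xl {N : ℕ} {x : Y} {a b c : Fin n} (hab : a ≠ b) (hac : a ≠ c) (hbc : b ≠ c) (hx : ψ x = c3 a b c)
    (h : N ≤ cod ρ (Subgroup.zpowers x)) : XL ρ ψ N := fun x' a' b' c' h1 h2 h3 e => by
  obtain ⟨y, hy⟩ := T.exists_move (by omega) _ _ (AltTwo.inj3 hab hac hbc) (AltTwo.inj3 h1 h2 h3)
  rwa [T.cod_conj_eq (x := x) (g := y) (by
    rw [hx, e, conj_c3]; exact congr (congr (congrArg c3 (hy 0)) (hy 1)) (hy 2))]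

theorem yl {N : ℕ} {x : Y} {f : Fin 5 ↪ Fin n} (hx : ψ x = embP f s5) (h : N ≤ cod ρ (Subgroup.zpowers x)) :
    YL ρ ψ N := fun g x' e => by
  obtain ⟨y, hy⟩ := T.exists_move le_rfl _ _ f.injective g.injective
  rwa [T.cod_conj_eq (x := x) (g := y) (by rw [hx, e, conj_embP (τ := 1) hy]; simp)]

theorem tl {N : ℕ} {x : Y} {a b : Fin n} (hab : a ≠ b) (hx : ψ x = swap a b) (h : N ≤ cod ρ (Subgroup.zpowers x)) :
    TL ρ ψ N := fun x' a' b' h1 e => by
  have i2 : ∀ {u v : Fin n}, u ≠ v → Function.Injective ![u, v] := fun h i j e => by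
    fin_cases i <;> fin_cases j <;> simp_all [eq_comm]
  obtain ⟨y, hy⟩ := T.exists_move (by omega) _ _ (i2 hab) (i2 h1)
  rwa [T.cod_conj_eq (x := x) (g := y) (by
    rw [hx, e, ← swap_apply_apply]; exact congr (congrArg _ (hy 0)) (hy 1))]

/-- the alternating group on at least five points acts faithfully or trivially -/
theorem transfer {S : Finset (Fin n)} (hS : 5 ≤ S.card) {U : Submodule (ZMod 2) V}
    (hU : ∀ y, Sup (ψ y) S → ∀ v ∈ U, ρ y v ∈ U) {y y' : Y} (h1 : sign (ψ y) = 1) (h2 : Sup (ψ y) S)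
    (h3 : sign (ψ y') = 1) (h4 : Sup (ψ y') S) (h5 : y' ≠ 1) (h : ∀ v ∈ U, ρ y' v = v) : ∀ v ∈ U, ρ y v = v := by
  obtain ⟨ι, hι, -⟩ := T.iota T.inj
  let e : Fin S.card ↪ Fin n := (S.orderEmbOfFin rfl).toEmbedding
  have he : ∀ x, (∀ i, e i ≠ x) ↔ x ∉ S := fun x => by
    rw [← Finset.mem_coe, ← S.range_orderEmbOfFin rfl]
    exact ⟨fun h ⟨i, hi⟩ => h i hi, fun h i hi => h ⟨i, hi⟩⟩
  have ex : ∀ y, sign (ψ y) = 1 → Sup (ψ y) S → ∃ σ, ι (emb e σ) = y := fun y h1 h2 => by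
    obtain ⟨σ, hσ⟩ := exists_emb e ⟨ψ y, mem_alternatingGroup.2 h1⟩ fun x hx => h2 x ((he x).1 hx)
    exact ⟨σ, T.inj (by rw [hι, hσ])⟩
  obtain ⟨σ, rfl⟩ := ex y h1 h2
  obtain ⟨σ', rfl⟩ := ex y' h3 h4
  let R := Wt.subrep ((ρ.comp ι).comp (emb e)) U fun g => hU _ fun x hx => by
    rw [hι]; exact emb_other e g ((he x).2 hx)
  intro v hv
  by_contra hne
  have hi := AltOddDim.rep_injective (by simpa only [_root_.Fintype.card_fin] using hS) R ⟨σ, fun e =>
    hne (congrArg Subtype.val (LinearMap.congr_fun e ⟨v, hv⟩))⟩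
  refine h5 ?_
  have h6 : R σ' = 1 := LinearMap.ext fun w : U => Subtype.ext (h w w.2)
  rw [hi (h6.trans (map_one R).symm), map_one, map_one]

theorem nz {S : Finset (Fin n)} (hS : 5 ≤ S.card) {a y y' : Y} (ha : ∀ x ∈ S, ψ a x = x) (h1 : sign (ψ y) = 1)
    (h2 : Sup (ψ y) S) (h3 : sign (ψ y') = 1) (h4 : Sup (ψ y') S) (h5 : y' ≠ 1) (h : NZ ρ a y) : NZ ρ a y' := by
  obtain ⟨v, hv⟩ := h
  by_contra hc
  refine hv (T.transfer hS (U := LinearMap.range (ρ a - 1)) (fun z hz => range_inv (T.comm (hz.comm ha))) h1 h2 h3 h4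
    h5 ?_ _ ⟨v, rfl⟩)
  rintro _ ⟨w, rfl⟩
  exact not_not.1 fun e => hc ⟨w, e⟩

end T2

/-- `y` is the lift of `γ` -/
def Lf (ψ : Y →* Perm (Fin n)) {m : ℕ} (f : Fin m ↪ Fin n) (γ : Perm (Fin m)) (y : Y) : Prop := ψ y = embP f γ

section Lf

variable {m : ℕ} {f : Fin m ↪ Fin n} {α β γ δ : Perm (Fin m)} {a b c d : Y}

theorem T2.lf (T : T2 K ρ ψ) (f : Fin m ↪ Fin n) (γ : Perm (Fin m)) (h : sign γ = 1) : ∃ y, Lf ψ f γ y :=
  (T.lift _ ((sign_embP f γ).trans h)).imp fun _ h => h.2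

theorem T2.lf' (T : T2 K ρ ψ) (hY : ∃ y, y ∉ K) (f : Fin m ↪ Fin n) (γ : Perm (Fin m)) : ∃ y, Lf ψ f γ y :=
  T.lift_all hY.choose_spec _

theorem Lf.rel (T : T2 K ρ ψ) (ha : Lf ψ f α a) (hb : Lf ψ f β b) (hc : Lf ψ f γ c) {i : ℕ}
    (h : α * β = β * γ ^ i) : a * b = b * c ^ i :=
  T.inj (by rw [map_mul, map_mul, map_pow, ha, hb, hc, ← map_mul, h, map_mul, map_pow])

theorem Lf.comm (T : T2 K ρ ψ) (ha : Lf ψ f α a) (hb : Lf ψ f β b) (h : α * β = β * α) : a * b = b * a :=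
  T.comm (by rw [ha, hb, ← map_mul, h, map_mul])

theorem Lf.pow (T : T2 K ρ ψ) (ha : Lf ψ f α a) {i : ℕ} (h : α ^ i = 1) : a ^ i = 1 :=
  T.pow (by rw [ha, ← map_pow, h, map_one])

theorem Lf.ne (ha : Lf ψ f α a) (h : α ≠ 1) : a ≠ 1 := fun e => h <| Equiv.ext fun x => f.injective <| by
  rw [← embP_apply, ← ha, e, map_one]; rfl

theorem Lf.sign (ha : Lf ψ f α a) : sign (ψ a) = sign α := by rw [ha, sign_embP]

theorem Lf.sup (ha : Lf ψ f α a) {S : Finset (Fin m)} (h : ∀ x, x ∉ S → α x = x) : Sup (ψ a) (S.map f) := by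
  intro x hx
  rw [ha]
  by_cases h1 : ∃ i, f i = x
  · obtain ⟨i, rfl⟩ := h1
    rw [embP_apply, h i fun e => hx (Finset.mem_map_of_mem f e)]
  · exact embP_other f α fun i e => h1 ⟨i, e⟩

theorem Lf.fix (ha : Lf ψ f α a) {S : Finset (Fin m)} (h : ∀ x ∈ S, α x = x) : ∀ x ∈ S.map f, ψ a x = x := by
  intro x hx
  obtain ⟨i, hi, rfl⟩ := Finset.mem_map.1 hx
  rw [ha, embP_apply, h i hi]

theorem Lf.c3 {i j l : Fin m} (ha : Lf ψ f (c3 i j l) a) : ψ a = c3 (f i) (f j) (f l) := ha.trans (embP_c3 f i j l)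

theorem Lf.swap {i j : Fin m} (ha : Lf ψ f (swap i j) a) : ψ a = swap (f i) (f j) := ha.trans (embP_swap f i j)

theorem Lf.s5 (hm : 5 ≤ m) (ha : Lf ψ f (Cyc.c3 (Fin.castLE hm 0) (Fin.castLE hm 1) (Fin.castLE hm 2) *
    Cyc.c3 (Fin.castLE hm 2) (Fin.castLE hm 3) (Fin.castLE hm 4)) a) : ψ a = embP ((Fin.castLEEmb hm).trans f) s5 := by
  rw [ha, Alt.s5, map_mul, map_mul, embP_c3, embP_c3, embP_c3, embP_c3]
  rfl

theorem Lf.nz (T : T2 K ρ ψ) (ha : Lf ψ f α a) (hb : Lf ψ f β b) (hc : Lf ψ f γ c) (S : Finset (Fin m))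
    (H : 5 ≤ S.card ∧ (∀ x ∈ S, α x = x) ∧ Perm.sign β = 1 ∧ (∀ x, x ∉ S → β x = x) ∧ Perm.sign γ = 1 ∧
      (∀ x, x ∉ S → γ x = x) ∧ γ ≠ 1) (h : NZ ρ a b) : NZ ρ a c :=
  T.nz (S := S.map f) (by rw [Finset.card_map]; exact H.1) (ha.fix H.2.1) (hb.sign.trans H.2.2.1) (hb.sup H.2.2.2.1)
    (hc.sign.trans H.2.2.2.2.1) (hc.sup H.2.2.2.2.2.1) (hc.ne H.2.2.2.2.2.2) h

theorem Lf.np (T : T2 K ρ ψ) (e : Fin 6 → Fin m) (he : Function.Injective e)
    (ha : Lf ψ f (Cyc.c3 (e 0) (e 1) (e 2)) a) (hb : Lf ψ f (Cyc.c3 (e 3) (e 4) (e 5)) b) : NZ ρ a b :=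
  T.np ((⟨e, he⟩ : Fin 6 ↪ Fin m).trans f) a b ha.c3 hb.c3

end Lf

end Cfsg.Agent.TwoF.Alt
end

-- part: TwoF/Alt/Bnd
section
/-!
# Characteristic two, not the natural module: lower bounds for 3-cycles, 5-cycles and transpositions
-/

set_option autoImplicit false

namespace Cfsg.Agent.TwoF.Alt

open Module Equiv Equiv.Perm Gen H189 H189.Cyc H189.Emb

variable {Y : Type} [Group Y] [Finite Y] {V : Type} [AddCommGroup V] [Module (ZMod 2) V] [Finite V]
  {K : Subgroup Y} {ρ : Representation (ZMod 2) Y V} {n : ℕ} {ψ : Y →* Perm (Fin n)}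

theorem T2.x12 (T : T2 K ρ ψ) (hn : 10 ≤ n) : XL ρ ψ 12 := by
  let f := Fin.castLEEmb hn
  obtain ⟨c, hc⟩ := T.lf f (c3 0 1 2) (by decide +kernel)
  obtain ⟨c', hc'⟩ := T.lf f (c3 3 4 5) (by decide +kernel)
  obtain ⟨t, ht⟩ := T.lf f (c3 3 4 5 * c3 5 6 7 * c3 7 8 9) (by decide +kernel)
  obtain ⟨g, hg⟩ := T.lf f (swap 1 2 * swap 4 9 * swap 5 8 * swap 6 7) (by decide +kernel)
  obtain ⟨h, hh⟩ := T.lf f (swap 4 7 * swap 7 5 * swap 6 8 * swap 8 9) (by decide +kernel)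
  have h1 := hc.nz T hc' ht {3, 4, 5, 6, 7, 8, 9} (by decide +kernel)
    (Lf.np T ![0, 1, 2, 3, 4, 5] (by decide) hc hc')
  have h3 : c ^ 3 = 1 := hc.pow T (by decide +kernel)
  have h7 : t ^ 7 = 1 := ht.pow T (by decide +kernel)
  obtain ⟨α, β, a1, b1, H⟩ := exists_has (hc.comm T ht (by decide +kernel)) (by decide) h3 (by decide) h7 h1
  have m1 : Mv ρ c t 2 6 := Mv.conj (hc.rel T hg hc (by decide +kernel)) (ht.rel T hg ht (by decide +kernel))
  have m2 : Mv ρ c t 1 2 := Mv.conj (hc.rel T hh hc (by decide +kernel)) (ht.rel T hh ht (by decide +kernel))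
  exact T.xl (f.injective.ne (by decide)) (f.injective.ne (by decide)) (f.injective.ne (by decide)) hc.c3
    (le_cod_of_all (by norm_num) h3 (by norm_num) h7 a1 b1 H fun i j =>
      Mv.all h3 h7 m1 m2 (by decide +kernel) i j _ _ H)

theorem T2.y24 (T : T2 K ρ ψ) (hn : 12 ≤ n) : YL ρ ψ 24 := by
  let f := Fin.castLEEmb hn
  obtain ⟨c, hc⟩ := T.lf f (c3 0 1 2) (by decide +kernel)
  obtain ⟨c', hc'⟩ := T.lf f (c3 5 6 7) (by decide +kernel)
  obtain ⟨s, hs⟩ := T.lf f (c3 0 1 2 * c3 2 3 4) (by decide +kernel)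
  obtain ⟨t, ht⟩ := T.lf f (c3 5 6 7 * c3 7 8 9 * c3 9 10 11) (by decide +kernel)
  obtain ⟨g, hg⟩ := T.lf f (swap 1 3 * swap 3 4 * swap 4 2 * swap 6 11 * swap 7 10 * swap 8 9) (by decide +kernel)
  obtain ⟨h, hh⟩ := T.lf f (swap 6 9 * swap 9 7 * swap 8 10 * swap 10 11) (by decide +kernel)
  have h1 := hc.nz T hc' ht {5, 6, 7, 8, 9, 10, 11} (by decide +kernel)
    (Lf.np T ![0, 1, 2, 5, 6, 7] (by decide) hc hc')
  have h2 := (ht.nz T hc hs {0, 1, 2, 3, 4} (by decide +kernel) (h1.symm (hc.comm T ht (by decide +kernel)))).symm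
    (ht.comm T hs (by decide +kernel))
  have h5 : s ^ 5 = 1 := hs.pow T (by decide +kernel)
  have h7 : t ^ 7 = 1 := ht.pow T (by (set_option synthInstance.maxSize 9000 in open scoped Cfsg.Agent.Lib.FastPerm in decide +kernel))
  obtain ⟨α, β, a1, b1, H⟩ := exists_has (hs.comm T ht (by decide +kernel)) (by decide) h5 (by decide) h7 h2
  have m1 : Mv ρ s t 2 6 := Mv.conj (hs.rel T hg hs (by decide +kernel)) (ht.rel T hg ht (by (set_option synthInstance.maxSize 9000 in open scoped Cfsg.Agent.Lib.FastPerm in decide +kernel)))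
  have m2 : Mv ρ s t 1 2 := Mv.conj (hs.rel T hh hs (by decide +kernel)) (ht.rel T hh ht (by decide +kernel))
  exact T.yl (Lf.s5 (by norm_num) hs) (le_cod_of_all (by norm_num) h5 (by norm_num) h7 a1 b1 H fun i j =>
      Mv.all h5 h7 m1 m2 (by decide +kernel) i j _ _ H)

theorem T2.y16 (T : T2 K ρ ψ) (hn : 10 ≤ n) : YL ρ ψ 16 := by
  let f := Fin.castLEEmb hn
  obtain ⟨c, hc⟩ := T.lf f (c3 0 1 2) (by decide +kernel)
  obtain ⟨c', hc'⟩ := T.lf f (c3 5 6 7) (by decide +kernel)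
  obtain ⟨s, hs⟩ := T.lf f (c3 0 1 2 * c3 2 3 4) (by decide +kernel)
  obtain ⟨t, ht⟩ := T.lf f (c3 5 6 7 * c3 7 8 9) (by decide +kernel)
  obtain ⟨g, hg⟩ := T.lf f (swap 1 4 * swap 2 3) (by decide +kernel)
  obtain ⟨h, hh⟩ := T.lf f (swap 0 5 * swap 1 8 * swap 8 3 * swap 3 9 * swap 9 4 * swap 4 7 * swap 7 2 * swap 2 6)
    (by decide +kernel)
  have h1 := hc.nz T hc' ht {5, 6, 7, 8, 9} (by decide +kernel) (Lf.np T ![0, 1, 2, 5, 6, 7] (by decide) hc hc')
  have h2 := (ht.nz T hc hs {0, 1, 2, 3, 4} (by decide +kernel) (h1.symm (hc.comm T ht (by decide +kernel)))).symm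
    (ht.comm T hs (by decide +kernel))
  have h5 : s ^ 5 = 1 := hs.pow T (by decide +kernel)
  have h5' : t ^ 5 = 1 := ht.pow T (by decide +kernel)
  obtain ⟨α, β, a1, b1, H⟩ := exists_has (hs.comm T ht (by decide +kernel)) (by decide) h5 (by decide) h5' h2
  have m1 : Mv ρ s t 4 1 := Mv.conj (hs.rel T hg hs (by decide +kernel)) (ht.rel T hg ht (by decide +kernel))
  have H' : Has ρ s t (β ^ 1) (α ^ 2) :=
    H.swap (hs.rel T hh ht (by decide +kernel)) (ht.rel T hh hs (by decide +kernel))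
  have ha := H.pow_eq h5
  have hb := H.symm.pow_eq h5'
  have : Fact (Nat.Prime 5) := ⟨by norm_num⟩
  have pa : IsPrimitiveRoot α 5 := orderOf_eq_prime ha a1 ▸ IsPrimitiveRoot.orderOf α
  obtain ⟨e, he, rfl⟩ := pa.eq_pow_of_pow_eq_one hb
  have e0 : e ≠ 0 := fun h => b1 (by rw [h, pow_zero])
  refine T.yl (Lf.s5 (by norm_num) hs) (le_cod_of_all (by norm_num) h5 (by norm_num) h5' a1 b1 H fun i j => ?_)
  have key : ∀ e : Fin 5, e.1 ≠ 0 → ∀ i j : Fin 4, ∃ a : Fin 4, ∃ b : Fin 2,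
      (2 ^ a.1 * 4 ^ b.1 % 5 = (i.1 + 1) % 5 ∧ e.1 * (2 ^ a.1 * 1 ^ b.1) % 5 = e.1 * (j.1 + 1) % 5) ∨
      (e.1 * (1 * (2 ^ a.1 * 4 ^ b.1)) % 5 = (i.1 + 1) % 5 ∧ 2 * (2 ^ a.1 * 1 ^ b.1) % 5 = e.1 * (j.1 + 1) % 5) := by
    decide +kernel
  have md : ∀ {u v : ℕ}, u % 5 = v % 5 → α ^ u = α ^ v := fun h => by
    rw [pow_eq_pow_mod _ ha, h, ← pow_eq_pow_mod _ ha]
  obtain ⟨a, b, ⟨e1, e2⟩ | ⟨e1, e2⟩⟩ := key ⟨e, he⟩ e0 i j
  · have := (Mv.sq.pow a).mul (m1.pow b) _ _ H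
    rwa [← pow_mul, md e1, md e2, pow_mul] at this
  · have := (Mv.sq.pow a).mul (m1.pow b) _ _ H'
    rwa [← pow_mul, ← pow_mul, ← pow_mul, md e1, md e2, pow_mul] at this

theorem T2.ybig (T : T2 K ρ ψ) (hn : 14 ≤ n) : YL ρ ψ (4 * (n - 5 - 1 - if 2 ∣ n - 5 then 1 else 0)) := by
  let f := Fin.castLEEmb (show 8 ≤ n by omega)
  obtain ⟨c, hc⟩ := T.lf f (c3 0 1 2) (by decide +kernel)
  obtain ⟨t, ht⟩ := T.lf f (c3 5 6 7) (by decide +kernel)
  obtain ⟨s, hs⟩ := T.lf f (c3 0 1 2 * c3 2 3 4) (by decide +kernel)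
  have h2 := (ht.nz T hc hs {0, 1, 2, 3, 4} (by decide +kernel)
    (Lf.np T ![5, 6, 7, 0, 1, 2] (by decide) ht hc)).symm (ht.comm T hs (by decide +kernel))
  have h5 : s ^ 5 = 1 := hs.pow T (by decide +kernel)
  have h3 : t ^ 3 = 1 := ht.pow T (by decide +kernel)
  obtain ⟨α, β, a1, b1, H⟩ := exists_has (hs.comm T ht (by decide +kernel)) (by decide) h5 (by decide) h3 h2
  have hs' := Lf.s5 (by norm_num) hs
  obtain ⟨e, he, he'⟩ := AltOddDim.exists_compl (j := n - 5) ((Fin.castLEEmb (show 5 ≤ 8 by norm_num)).trans f)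
    (by simp only [_root_.Fintype.card_fin]; omega)
  obtain ⟨ι, hι, -⟩ := T.iota T.inj
  obtain ⟨σ, hσ⟩ := exists_emb e ⟨ψ t, mem_alternatingGroup.2 (ht.sign.trans (by decide +kernel))⟩ fun y hy => by
    obtain ⟨i, rfl⟩ : ∃ i, ((Fin.castLEEmb (show 5 ≤ 8 by norm_num)).trans f) i = y := by
      by_contra h
      obtain ⟨x, hx⟩ := he' y fun i e => h ⟨i, e⟩
      exact hy x hx
    show ψ t (f _) = f _
    rw [ht, embP_apply]
    congr 1
    clear hy
    revert i; decide +kernel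
  have hσ' : ι (emb e σ) = t := T.inj (by rw [hι, hσ])
  have hcm : ∀ g, s * ι (emb e g) = ι (emb e g) * s := fun g => T.comm (by
    rw [hι, hs']
    exact (congrArg Subtype.val (emb_comm _ e he ⟨s5, mem_alternatingGroup.2 (by decide +kernel)⟩ g) :))
  have md : ∀ i : Fin 4, 2 ^ i.1 % 5 < 5 ∧ 2 ^ i.1 % 5 ≠ 0 ∧ 2 ^ i.1 % 3 < 3 ∧ 2 ^ i.1 % 3 ≠ 0 ∧
    ∀ j : Fin 4, 2 ^ i.1 % 5 = 2 ^ j.1 % 5 → i = j := by decide
  refine T.yl hs' (le_of_eq_of_le (congrArg (· * _) (Fintype.card_fin 4).symm) (mul_le_cod (ι := Fin 4) (fun i => α ^ (2 ^ i.1 % 5))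
    (fun i j e => (md i).2.2.2.2 j (pow_inj (by norm_num) (H.pow_eq h5) a1 (md i).1 (md j).1 e))
    (fun i e => (md i).2.1 (pow_inj (by norm_num) (H.pow_eq h5) a1 (md i).1 (by norm_num) (e.trans (pow_zero α).symm)))
    fun i => le_of_not_gt fun hlt => ?_))
  obtain ⟨v, v0, e1, e2⟩ := (Mv.sq.pow i).mod h5 h3 _ _ H
  have := AltOddDim.trivial_of_low (AltTwo.low_two (k := L2) (n - 5) (by omega)) (((bc L2 ρ).comp ι).comp (emb e)) _
    (fun g w hw => End.mem_eigenspace_iff.2 (by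
      show bc L2 ρ s (bc L2 ρ (ι (emb e g)) w) = _ • bc L2 ρ (ι (emb e g)) w
      rw [← rho_mul, hcm, rho_mul, End.mem_eigenspace_iff.1 hw, map_smul])) hlt σ v (End.mem_eigenspace_iff.2 e1)
  change bc L2 ρ (ι (emb e σ)) v = v at this
  rw [hσ', e2, ← sub_eq_zero, ← one_smul L2 v, smul_smul, mul_one, ← sub_smul, smul_eq_zero, sub_eq_zero] at this
  exact (md i).2.2.2.1 (pow_inj (by norm_num) (H.symm.pow_eq h3) b1 (md i).2.2.1 (by norm_num)
    ((this.resolve_right v0).trans (pow_zero β).symm))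

omit [Finite Y] in
/-- a 3-cycle that fixes the fixed space of a disjoint 3-cycle -/
theorem T2.fx_c3 (T : T2 K ρ ψ) (f : Fin 7 ↪ Fin n) {c c' : Y} (hc : Lf ψ f (c3 0 1 2) c) (hc' : Lf ψ f (c3 3 4 5) c')
    (h : ∀ v, ρ c v = v → ρ c' v = v) : fx ρ (Subgroup.zpowers c) = ⊥ := by
  have ne : ∀ i j : Fin 7, i ≠ j → f i ≠ f j := fun i j h => f.injective.ne h
  have h1 : fx ρ (Subgroup.zpowers c) = fx ρ (Subgroup.zpowers c') := by
    refine Submodule.eq_of_le_of_finrank_le (fun v hv => mem_fx_zpowers.2 (h v (mem_fx_zpowers.1 hv))) ?_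
    have h2 := T.xl (ne 0 1 (by decide)) (ne 0 2 (by decide)) (ne 1 2 (by decide)) hc.c3 le_rfl c' _ _ _
      (ne 3 4 (by decide)) (ne 3 5 (by decide)) (ne 4 5 (by decide)) hc'.c3
    have h3 := cod_add (ρ := ρ) (Subgroup.zpowers c)
    have h4 := cod_add (ρ := ρ) (Subgroup.zpowers c')
    omega
  have key : ∀ (x y : Y) (a b d u v w : Fin n), ψ x = c3 a b d → ψ y = c3 u v w → u ≠ v → u ≠ w → v ≠ w →
      (∀ z, z = u ∨ z = v ∨ z = w → z ≠ a ∧ z ≠ b ∧ z ≠ d) → fx ρ (Subgroup.zpowers x) = fx ρ (Subgroup.zpowers y) →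
      Full ((cen ρ (fx ρ (Subgroup.zpowers x))).map ψ) {z | z ≠ a ∧ z ≠ b ∧ z ≠ d} := by
    intro x y a b d u v w hx hy huv huw hvw hd e
    have hm : y ∈ cen ρ (fx ρ (Subgroup.zpowers x)) := mem_cen.2 fun v hv => mem_fx_zpowers.1 (e ▸ hv)
    refine full_of_pair huv fun z hz zu zv => ?_
    by_cases zw : z = w
    · exact ⟨y, hm, by rw [hy, zw]⟩
    obtain ⟨g, -, hg⟩ := T.lift (swap u v * swap w z) (mem_alternatingGroup.1 (dt_mem huv (Ne.symm zw)))
    have fx' : ∀ r, r ≠ u → r ≠ v → r ≠ w → r ≠ z → ψ g r = r := fun r h1 h2 h3 h4 => by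
      rw [hg, Perm.mul_apply, swap_apply_of_ne_of_ne h3 h4, swap_apply_of_ne_of_ne h1 h2]
    have hu := hd u (Or.inl rfl)
    have hv := hd v (Or.inr (Or.inl rfl))
    have hw := hd w (Or.inr (Or.inr rfl))
    have hgx : g * x = x * g := T.comm (by
      rw [← mul_inv_eq_iff_eq_mul, hx, conj_c3, fx' a hu.1.symm hv.1.symm hw.1.symm hz.1.symm,
        fx' b hu.2.1.symm hv.2.1.symm hw.2.1.symm hz.2.1.symm, fx' d hu.2.2.symm hv.2.2.symm hw.2.2.symm hz.2.2.symm])
    refine ⟨(g * y * g⁻¹)⁻¹, inv_mem (mem_cen.2 fun r hr => ?_), ?_⟩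
    · rw [rho_mul, rho_mul, mem_cen.1 hm, rho_apply_inv]
      refine mem_fx_zpowers.2 (rho_injective ρ g ?_)
      rw [← rho_mul, hgx, rho_mul, rho_apply_inv, mem_fx_zpowers.1 hr]
    · rw [map_inv, map_mul, map_mul, map_inv, hy, conj_c3, c3_inv, hg]
      simp only [Perm.mul_apply]
      rw [swap_apply_of_ne_of_ne huw (Ne.symm zu), swap_apply_of_ne_of_ne hvw (Ne.symm zv), swap_apply_left,
        swap_apply_left, swap_apply_right, swap_apply_of_ne_of_ne zu zv, c3_cycle zu zv huv]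
  have F1 := key c c' _ _ _ _ _ _ hc.c3 hc'.c3 (ne 3 4 (by decide)) (ne 3 5 (by decide)) (ne 4 5 (by decide))
    (by rintro z (rfl | rfl | rfl) <;> exact ⟨ne _ _ (by decide), ne _ _ (by decide), ne _ _ (by decide)⟩) h1
  have F2 := key c' c _ _ _ _ _ _ hc'.c3 hc.c3 (ne 0 1 (by decide)) (ne 0 2 (by decide)) (ne 1 2 (by decide))
    (by rintro z (rfl | rfl | rfl) <;> exact ⟨ne _ _ (by decide), ne _ _ (by decide), ne _ _ (by decide)⟩) h1.symm
  rw [← h1] at F2
  have m : ∀ i j l r : Fin 7, r ≠ i → r ≠ j → r ≠ l → f r ∈ {z | z ≠ f i ∧ z ≠ f j ∧ z ≠ f l} :=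
    fun i j l r h1 h2 h3 => ⟨ne _ _ h1, ne _ _ h2, ne _ _ h3⟩
  have F3 := full_union_one F1 F2
    ⟨_, m 0 1 2 3 (by decide) (by decide) (by decide), _, m 0 1 2 4 (by decide) (by decide) (by decide), _,
      m 0 1 2 5 (by decide) (by decide) (by decide), ne _ _ (by decide), ne _ _ (by decide), ne _ _ (by decide)⟩
    ⟨_, m 3 4 5 0 (by decide) (by decide) (by decide), _, m 3 4 5 1 (by decide) (by decide) (by decide), _,
      m 3 4 5 2 (by decide) (by decide) (by decide), ne _ _ (by decide), ne _ _ (by decide), ne _ _ (by decide)⟩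
    (m 0 1 2 6 (by decide) (by decide) (by decide)) (m 3 4 5 6 (by decide) (by decide) (by decide))
  refine le_bot_iff.1 (T.fx_K ▸ le_cen_iff.1 fun y hy => ?_)
  obtain ⟨z, hz, e⟩ := mem_of_full F3 ((T.mem y).1 hy) fun x _ => by
    by_cases h0 : x ≠ f 0 ∧ x ≠ f 1 ∧ x ≠ f 2
    · exact Or.inl h0
    · right
      simp only [not_and_or, not_not] at h0
      rcases h0 with rfl | rfl | rfl <;> exact m 3 4 5 _ (by decide) (by decide) (by decide)
  exact T.inj e ▸ hz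

omit [Finite Y] [Finite V] in
theorem eq_of_range {c : Y} (h3 : c ^ 3 = 1) {v : V} (hv : v ∈ LinearMap.range (ρ c - 1)) :
    ρ c (ρ c v) - ρ c v = v := by
  obtain ⟨w, rfl⟩ := hv
  have h : ∀ w : V, w + w = 0 := fun w => by rw [← two_smul (ZMod 2), two_eq_zero', zero_smul]
  have h1 : ρ c (ρ c (ρ c w)) = w := by rw [← rho_mul, ← rho_mul, ← pow_three', h3, rho_one]
  show ρ c (ρ c (ρ c w - w)) - ρ c (ρ c w - w) = ρ c w - w
  rw [map_sub, map_sub, h1]
  linear_combination (norm := abel) h w - h (ρ c (ρ c w))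

omit [Finite V] in
/-- from a 3-element to an involution that inverts it -/
theorem NZ.tr {t c x : Y} (h : NZ ρ c x) (ht : t * t = 1) (h3 : c ^ 3 = 1) (htc : t * c = c * c * t) {m : ℕ}
    (hx : x ^ m = 1) (hm : ¬ 2 ∣ m) (h1 : t * x = x * t) (h2 : x * c = c * x) : NZ ρ t x := by
  obtain ⟨v, hv⟩ := h
  by_contra hc
  refine hv (axb (p := 2) (elemAb_isPGroup (elemAb_zpowers (show t ^ 2 = 1 by rw [pow_two, ht]))) hx hm
    (fun b hb => ((show Commute x t from h1.symm).zpow_right _ |> fun e => (Subgroup.mem_zpowers_iff.1 hb).choose_spec ▸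
      e.symm.eq)) (W := LinearMap.range (ρ c - 1)) (Inv.mono (B := Subgroup.closure {t}) (_root_.Cfsg.Agent.TwoF.Gen.inv_closure ?_)
      (Subgroup.zpowers_eq_closure t).le) (range_inv h2) (fun w hw hw' => ?_) _ ⟨v, rfl⟩)
  · rintro t' ht' _ ⟨w, rfl⟩
    rw [show t' = t from ht', inv_eq_of_mul_eq_one_left ht, and_self]
    refine ⟨ρ c (ρ t w) + ρ t w, ?_⟩
    show ρ c (ρ c (ρ t w) + ρ t w) - (ρ c (ρ t w) + ρ t w) = ρ t (ρ c w - w)
    rw [map_sub, ← rho_mul ρ t c, htc, rho_mul, rho_mul, map_add]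
    abel
  · have h4 : w = ρ t (ρ c w) - ρ c w := by
      rw [← rho_mul, htc, rho_mul, rho_mul, mem_fx_zpowers.1 hw', eq_of_range h3 hw]
    rw [h4]
    exact not_not.1 fun e => hc ⟨_, e⟩

theorem dvd_codOn {s : Y} {l d : ℕ} [Fact l.Prime] (hl : l ≠ 2) (hd : orderOf (2 : ZMod l) = d) (hs : s ^ l = 1)
    {U : Submodule (ZMod 2) V} (hU : ∀ v ∈ U, ρ s v ∈ U) : d ∣ codOn ρ U (Subgroup.zpowers s) := by
  have h1 : Inv ρ (Subgroup.zpowers s) U := fun b hb v hv => by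
    obtain ⟨i, rfl⟩ := (mem_powers_iff_mem_zpowers.2 hb)
    induction i with
    | zero => simpa only [_root_.pow_zero, _root_.map_one, _root_.Module.End.one_apply] using hv
    | succ i ih => simp only [pow_succ', rho_mul]; exact hU _ (ih ⟨i, by simp⟩)
  have h2 := pow_cod_modEq (ρ := resOn ρ h1) (s := l) (by
    rw [Nat.card_zmod]; exact fun e => hl ((Nat.prime_dvd_prime_iff_eq Fact.out Nat.prime_two).1 e))
    ((elemAb_isPGroup (elemAb_zpowers hs)).to_subgroup ((Subgroup.zpowers s).subgroupOf (Subgroup.zpowers s)))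
  rw [cod_resOn_subgroupOf h1 le_rfl, Nat.card_zmod, ← ZMod.natCast_eq_natCast_iff] at h2
  rw [← hd]
  exact orderOf_dvd_of_pow_eq_one (by exact_mod_cast h2)

theorem ord5 : orderOf (2 : ZMod 5) = 4 := (orderOf_eq_iff (by norm_num)).2 (by decide)

theorem ord3 : orderOf (2 : ZMod 3) = 2 := (orderOf_eq_iff (by norm_num)).2 (by decide)

omit [Finite Y] in
theorem NZ.pos {t s : Y} (h : NZ ρ t s) : 0 < codOn ρ (LinearMap.range (ρ t - 1)) (Subgroup.zpowers s) :=
  Nat.pos_of_ne_zero fun e => h.choose_spec (mem_fx_zpowers.1 (codOn_eq_zero_iff.1 e ⟨_, rfl⟩))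

theorem T2.t6 (T : T2 K ρ ψ) (hn : 9 ≤ n) (hY : ∃ y, y ∉ K) : TL ρ ψ 6 := by
  let f := Fin.castLEEmb hn
  obtain ⟨t, ht⟩ := T.lf' hY f (swap 0 1)
  obtain ⟨c, hc⟩ := T.lf' hY f (c3 0 1 2)
  obtain ⟨c', hc'⟩ := T.lf' hY f (c3 3 4 5)
  obtain ⟨g, hg⟩ := T.lf' hY f (c3 2 3 4 * c3 4 5 6 * c3 6 7 8)
  obtain ⟨h, hh⟩ := T.lf' hY f (swap 3 8 * swap 4 7 * swap 5 6)
  have h1 : NZ ρ t g := ht.nz T hc' hg {2, 3, 4, 5, 6, 7, 8} (by decide +kernel)
    ((Lf.np T ![0, 1, 2, 3, 4, 5] (by decide) hc hc').tr (by rw [← pow_two]; exact ht.pow T (by decide +kernel))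
      (hc.pow T (by decide +kernel)) (by
        rw [← pow_two, ← mul_inv_eq_iff_eq_mul, mul_assoc, ← eq_inv_mul_iff_mul_eq, inv_eq_of_mul_eq_one_left
          (show t * t = 1 by rw [← pow_two]; exact ht.pow T (by decide +kernel))]
        exact hc.rel T ht hc (by decide +kernel))
      (hc'.pow T (i := 3) (by decide +kernel)) (by decide) (ht.comm T hc' (by decide +kernel))
      (hc'.comm T hc (by decide +kernel)))
  have hW : Inv ρ (Subgroup.centralizer {t}) (LinearMap.range (ρ t - 1)) := fun b hb =>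
    range_inv (Subgroup.mem_centralizer_singleton_iff.1 hb)
  let g' : Subgroup.centralizer {t} := ⟨g, Subgroup.mem_centralizer_singleton_iff.2 (hg.comm T ht (by decide +kernel))⟩
  let h' : Subgroup.centralizer {t} := ⟨h, Subgroup.mem_centralizer_singleton_iff.2 (hh.comm T ht (by decide +kernel))⟩
  have h2 : h'⁻¹ * g' * h' = g' ^ 6 := by
    rw [mul_assoc, inv_mul_eq_iff_eq_mul]
    exact Subtype.ext (hg.rel T hh hg (by decide +kernel))
  have h3 := card_mul_le_cod_zpowers (ρ := resOn ρ hW) (z := g') (r := 7) (by norm_num)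
    (Subtype.ext (hg.pow T (by decide +kernel))) (by decide)
    (fun e => h1.choose_spec (congrArg Subtype.val (LinearMap.congr_fun e ⟨_, _, rfl⟩))) (Finset.univ.erase 0)
    (fun j hj => by
      rw [ZMod.card]
      obtain ⟨i, e | e⟩ := (by decide : ∀ j : ZMod 7, j ≠ 0 → ∃ i : Fin 3, j = ((1 * 2 ^ i.1 : ℕ) : ZMod 7) ∨
        j = ((6 * 2 ^ i.1 : ℕ) : ZMod 7)) j (Finset.ne_of_mem_erase hj)
      · exact ⟨1, 1, i, by simp, e⟩
      · exact ⟨h', 6, i, h2, e⟩) (m := 1) fun _ _ h => h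
  refine T.tl (f.injective.ne (by decide)) ht.swap ?_
  rw [cod_zpowers]
  exact le_trans (by decide) (h3.trans (cod_le_finrank _))

theorem T2.x8 (T : T2 K ρ ψ) (hn : 9 ≤ n) (hY : ∃ y, y ∉ K) : XL ρ ψ 8 ∧ (XL ρ ψ 12 ∨ YL ρ ψ 12) := by
  let f := Fin.castLEEmb (show 8 ≤ n by omega)
  obtain ⟨c, hc⟩ := T.lf' hY f (c3 0 1 2)
  obtain ⟨c', hc'⟩ := T.lf' hY f (c3 3 4 5)
  obtain ⟨s, hs⟩ := T.lf' hY f (c3 3 4 5 * c3 5 6 7)
  obtain ⟨g, hg⟩ := T.lf' hY f (swap 1 2)
  have h1 := hc.nz T hc' hs {3, 4, 5, 6, 7} (by decide +kernel) (Lf.np T ![0, 1, 2, 3, 4, 5] (by decide) hc hc')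
  have h3 : c ^ 3 = 1 := hc.pow T (by decide +kernel)
  have h5 : s ^ 5 = 1 := hs.pow T (by decide +kernel)
  have hcs := hc.comm T hs (by decide +kernel)
  obtain ⟨α, β, a1, b1, H⟩ := exists_has hcs (by decide) h3 (by decide) h5 h1
  have m1 : Mv ρ c s 2 1 := Mv.conj (hc.rel T hg hc (by decide +kernel)) (hs.rel T hg hs (by decide +kernel))
  have xl := fun N => T.xl (N := N) (f.injective.ne (show (0 : Fin 8) ≠ 1 by decide))
    (f.injective.ne (show (0 : Fin 8) ≠ 2 by decide)) (f.injective.ne (show (1 : Fin 8) ≠ 2 by decide)) hc.c3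
  refine ⟨xl _ (le_cod_of_all (by norm_num) h3 (by norm_num) h5 a1 b1 H fun i j =>
      Mv.all h3 h5 m1 m1 (by decide +kernel) i j _ _ H), ?_⟩
  by_cases h0 : ∀ v, ρ c v = v → ρ s v = v
  · left
    have h6 : ∀ v ∈ fx ρ (Subgroup.zpowers c), ρ c' v = v :=
      T.transfer (S := ({3, 4, 5, 6, 7} : Finset (Fin 8)).map f) (by rw [Finset.card_map]; decide)
        (fun y hy v hv => mem_fx_zpowers.2 (by
          rw [← rho_mul, ← T.comm (hy.comm (hc.fix (by decide +kernel))), rho_mul, mem_fx_zpowers.1 hv]))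
        (hc'.sign.trans (by decide +kernel)) (hc'.sup (by decide +kernel)) (hs.sign.trans (by decide +kernel))
        (hs.sup (by decide +kernel)) (hs.ne (by decide +kernel)) fun v hv => h0 v (mem_fx_zpowers.1 hv)
    have h7 := T.fx_c3 ((Fin.castLEEmb (show 7 ≤ 8 by norm_num)).trans f) (c := c) (c' := c')
      (hc.c3.trans (embP_c3 ((Fin.castLEEmb (show 7 ≤ 8 by norm_num)).trans f) 0 1 2).symm)
      (hc'.c3.trans (embP_c3 ((Fin.castLEEmb (show 7 ≤ 8 by norm_num)).trans f) 3 4 5).symm)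
      fun v hv => h6 v (mem_fx_zpowers.2 hv)
    refine xl _ ?_
    have h8 := T.t6 hn hY g _ _ (f.injective.ne (by decide)) hg.swap
    have h9 := two_cod_le (ρ := ρ) (show g * g = 1 by rw [← pow_two]; exact hg.pow T (by decide +kernel))
    rw [cod_of_fx_eq_bot h7]
    omega
  · right
    push Not at h0
    obtain ⟨γ, c1, H'⟩ := exists_has_one hcs.symm (by decide) h5 h0
    refine T.yl (f := (⟨![3, 4, 5, 6, 7], by decide⟩ : Fin 5 ↪ Fin 8).trans f) (x := s) ?_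
      (le_cod_of_all' (by norm_num) h5 (by norm_num) h3 b1 a1 H.symm c1 H' fun i j =>
        Mv.all h5 h3 m1.symm m1.symm (by decide +kernel) i j)
    rw [hs, s5, map_mul, map_mul, embP_c3, embP_c3, embP_c3, embP_c3]
    rfl

omit [Finite Y] in
theorem split_cod {t x : Y} (h : t * x = x * t) : cod ρ (Subgroup.zpowers x) =
    codOn ρ (LinearMap.range (ρ t - 1)) (Subgroup.zpowers x) +
      finrank (ZMod 2) ↥(LinearMap.range (ρ x - 1) ⊓ LinearMap.ker (ρ t - 1)) := by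
  rw [cod_zpowers, finrank_eq_map_add (ρ t - 1), codOn_zpowers, ← LinearMap.range_comp, ← LinearMap.range_comp,
    show (ρ t - 1) ∘ₗ (ρ x - 1) = (ρ x - 1) ∘ₗ (ρ t - 1) from LinearMap.ext (sub_one_comm h)]

omit [Finite Y] [Finite V] in
theorem ker_inv {t x : Y} (h : t * x = x * t) : ∀ v ∈ LinearMap.ker (ρ t - 1), ρ x v ∈ LinearMap.ker (ρ t - 1) :=
  fun v hv => sub_eq_zero.2 (by
    show ρ t (ρ x v) = ρ x v
    rw [← rho_mul, h, rho_mul, show ρ t v = v from sub_eq_zero.1 hv])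

omit [Finite Y] [Finite V] in
/-- the alternating group on at least five points acts faithfully or trivially on a section -/
theorem T2.transfer2 (T : T2 K ρ ψ) (f : Fin 5 ↪ Fin n) {U W : Submodule (ZMod 2) V}
    (hU : ∀ y γ, Lf ψ f γ y → ∀ v ∈ U, ρ y v ∈ U) (hW : ∀ y γ, Lf ψ f γ y → ∀ v ∈ W, ρ y v ∈ W) {y y' : Y}
    {γ γ' : Perm (Fin 5)} (hy : Lf ψ f γ y) (hy' : Lf ψ f γ' y') (h1 : sign γ = 1) (h2 : sign γ' = 1) (h3 : γ' ≠ 1)
    (h : ∀ v ∈ U, ρ y' v - v ∈ W) : ∀ v ∈ U, ρ y v - v ∈ W := by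
  obtain ⟨ι, hι, -⟩ := T.iota T.inj
  let θ := ι.comp (emb f)
  have hθ : ∀ σ, Lf ψ f σ.1 (θ σ) := fun σ => hι _
  have iU : Inv ρ θ.range U := by rintro _ ⟨σ, rfl⟩; exact hU _ _ (hθ σ)
  have iW : Inv ρ θ.range W := by rintro _ ⟨σ, rfl⟩; exact hW _ _ (hθ σ)
  have hN : ((lk ρ W U).comap θ).Normal := ⟨fun a ha g => by
    rw [Subgroup.mem_comap, map_mul, map_mul, map_inv]
    exact conj_mem_lk iW iU ⟨g, rfl⟩ ⟨a, rfl⟩ ha⟩
  have e : θ ⟨γ, mem_alternatingGroup.2 h1⟩ = y := T.inj ((hθ _).trans hy.symm)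
  have e' : θ ⟨γ', mem_alternatingGroup.2 h2⟩ = y' := T.inj ((hθ _).trans hy'.symm)
  have hm : ⟨γ', mem_alternatingGroup.2 h2⟩ ∈ (lk ρ W U).comap θ := (mem_lk iW ⟨_, rfl⟩).2 (e' ▸ h)
  rcases alternatingGroup.normal_subgroup_eq_bot_or_eq_top (N := (lk ρ W U).comap θ) (by simp) with h4 | h4
  · rw [h4, Subgroup.mem_bot] at hm
    exact (h3 (congrArg (fun x : alternatingGroup (Fin 5) => (x : Perm (Fin 5))) hm)).elim
  · rw [← e]
    exact (mem_lk iW ⟨_, rfl⟩).1 (Subgroup.mem_comap.1 (h4 ▸ Subgroup.mem_top _))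

theorem T2.small (T : T2 K ρ ψ) (hY : ∃ y, y ∉ K) : TL ρ ψ 4 ∧ YL ρ ψ 8 ∧ (XL ρ ψ 8 ∨ YL ρ ψ 12) := by
  let f := Fin.castLEEmb T.deg
  obtain ⟨c, hc⟩ := T.lf' hY f (c3 0 1 2)
  obtain ⟨c', hc'⟩ := T.lf' hY f (c3 4 5 6)
  obtain ⟨c'', hc''⟩ := T.lf' hY f (c3 3 4 5)
  obtain ⟨s, hs⟩ := T.lf' hY f (c3 0 1 2 * c3 2 3 4)
  obtain ⟨t, ht⟩ := T.lf' hY f (swap 5 6)
  obtain ⟨g, hg⟩ := T.lf' hY f (swap 1 2)
  have : Fact (Nat.Prime 5) := ⟨by norm_num⟩
  have htt : t * t = 1 := by rw [← pow_two]; exact ht.pow T (by decide +kernel)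
  have h3 : c ^ 3 = 1 := hc.pow T (by decide +kernel)
  have h3' : c'' ^ 3 = 1 := hc''.pow T (by decide +kernel)
  have h5 : s ^ 5 = 1 := hs.pow T (by decide +kernel)
  have hts := ht.comm T hs (by decide +kernel)
  have htc := ht.comm T hc (by decide +kernel)
  have h1 : NZ ρ t s := ht.nz T hc hs {0, 1, 2, 3, 4} (by decide +kernel)
    ((Lf.np T ![4, 5, 6, 0, 1, 2] (by decide) hc' hc).tr htt (hc'.pow T (by decide +kernel)) (by
        rw [← pow_two, ← mul_inv_eq_iff_eq_mul, mul_assoc, ← eq_inv_mul_iff_mul_eq, inv_eq_of_mul_eq_one_left htt]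
        exact hc'.rel T ht hc' (by decide +kernel)) h3 (by decide) htc (hc.comm T hc' (by decide +kernel)))
  have hWU : LinearMap.range (ρ t - 1) ≤ LinearMap.ker (ρ t - 1) := by
    rintro _ ⟨v, rfl⟩
    exact sub_eq_zero.2 (sq_zero htt v)
  have a1 := h1.pos
  have a2 := dvd_codOn (l := 5) (by decide) ord5 h5 (range_inv (σ := ρ) hts.symm)
  have a3 := dvd_codOn (l := 5) (by decide) ord5 h5 (ker_inv (ρ := ρ) hts)
  have a4 := codOn_mono (ρ := ρ) hWU (le_refl (Subgroup.zpowers s))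
  have a5 := split_cod (ρ := ρ) hts
  have a6 : codOn ρ (LinearMap.ker (ρ t - 1)) (Subgroup.zpowers s) ≤
      finrank (ZMod 2) ↥(LinearMap.range (ρ s - 1) ⊓ LinearMap.ker (ρ t - 1)) := by
    rw [codOn_zpowers]
    refine Submodule.finrank_mono ?_
    rintro _ ⟨v, hv, rfl⟩
    exact ⟨⟨v, rfl⟩, Submodule.sub_mem _ (ker_inv hts v hv) hv⟩
  have a7 := codOn_le_finrank (ρ := ρ) (LinearMap.range (ρ t - 1)) (Subgroup.zpowers s)
  have yl := fun N => T.yl (N := N) (Lf.s5 (by norm_num) hs)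
  have xl := fun N => T.xl (N := N) (f.injective.ne (show (0 : Fin 7) ≠ 1 by decide))
    (f.injective.ne (show (0 : Fin 7) ≠ 2 by decide)) (f.injective.ne (show (1 : Fin 7) ≠ 2 by decide)) hc.c3
  refine ⟨T.tl (f.injective.ne (by decide)) ht.swap (by rw [cod_zpowers]; omega), yl _ (by omega), ?_⟩
  by_cases h0 : ∀ v, ρ c'' v = v → ρ c v = v
  · left
    have h7 := T.fx_c3 ((⟨![3, 4, 5, 0, 1, 2, 6], by decide⟩ : Fin 7 ↪ Fin 7).trans f) (c := c'') (c' := c)
      (hc''.c3.trans (embP_c3 ((⟨![3, 4, 5, 0, 1, 2, 6], by decide⟩ : Fin 7 ↪ Fin 7).trans f) 0 1 2).symm)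
      (hc.c3.trans (embP_c3 ((⟨![3, 4, 5, 0, 1, 2, 6], by decide⟩ : Fin 7 ↪ Fin 7).trans f) 3 4 5).symm) h0
    refine T.xl (f.injective.ne (by decide)) (f.injective.ne (by decide)) (f.injective.ne (by decide)) hc''.c3 ?_
    have := cod_le_finrank (ρ := ρ) (Subgroup.zpowers s)
    rw [cod_of_fx_eq_bot h7]
    omega
  push Not at h0
  have hcc := hc.comm T hc'' (by decide +kernel)
  obtain ⟨α, β, b1, b2, H⟩ := exists_has hcc (by decide) h3 (by decide) h3'
    (Lf.np T ![0, 1, 2, 3, 4, 5] (by decide) hc hc'')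
  obtain ⟨γ, b3, H'⟩ := exists_has_one hcc (by decide) h3 h0
  have m1 : Mv ρ c c'' 2 1 := Mv.conj (hc.rel T hg hc (by decide +kernel)) (hc''.rel T hg hc'' (by decide +kernel))
  have b4 := le_cod_of_all' (by norm_num) h3 (by norm_num) h3' b1 b2 H b3 H' fun i j =>
    Mv.all h3 h3' m1 m1 (by decide +kernel) i j
  by_cases h12 : 12 ≤ cod ρ (Subgroup.zpowers s)
  · exact Or.inr (yl _ h12)
  left
  have c1 : (LinearMap.range (ρ t - 1)).map (ρ s - 1) = (LinearMap.ker (ρ t - 1)).map (ρ s - 1) :=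
    Submodule.eq_of_le_of_finrank_le (Submodule.map_mono hWU) (by rw [← codOn_zpowers, ← codOn_zpowers]; omega)
  let f5 := (Fin.castLEEmb (show 5 ≤ 7 by norm_num)).trans f
  have cm : ∀ y γ, Lf ψ f5 γ y → t * y = y * t := fun y γ hy => T.comm (Sup.comm (S := Set.range f5)
    (fun x hx => by rw [hy]; exact embP_other f5 γ fun i e => hx ⟨i, e⟩) (by
      rintro _ ⟨i, rfl⟩
      show ψ t (f _) = f _
      rw [ht, embP_apply]
      congr 1
      revert i; decide +kernel)).symm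
  have c2 : ∀ v ∈ LinearMap.ker (ρ t - 1), ρ c v - v ∈ LinearMap.range (ρ t - 1) :=
    T.transfer2 f5 (fun y γ hy => ker_inv (cm y γ hy)) (fun y γ hy => range_inv (cm y γ hy).symm) (γ := c3 0 1 2)
      (γ' := s5) (hc.c3.trans (embP_c3 f5 0 1 2).symm) (Lf.s5 (by norm_num) hs) (by decide +kernel) (by decide +kernel)
      (by decide +kernel) fun v hv => by
        obtain ⟨w, hw, e⟩ : (ρ s - 1) v ∈ (LinearMap.range (ρ t - 1)).map (ρ s - 1) := c1 ▸ ⟨v, hv, rfl⟩
        show (ρ s - 1) v ∈ _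
        rw [← e]
        exact Submodule.sub_mem _ (range_inv hts.symm w hw) hw
  have c3 := split_cod (ρ := ρ) htc
  have c4 : finrank (ZMod 2) ↥(LinearMap.range (ρ c - 1) ⊓ LinearMap.ker (ρ t - 1)) =
      codOn ρ (LinearMap.range (ρ t - 1)) (Subgroup.zpowers c) := by
    rw [codOn_zpowers]
    have c6 : LinearMap.range (ρ c - 1) ⊓ LinearMap.ker (ρ t - 1) = (LinearMap.range (ρ t - 1)).map (ρ c - 1) := by
      refine le_antisymm (fun v hv => ?_) ?_
      · have := c2 _ (ker_inv htc v hv.2)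
        rw [eq_of_range h3 hv.1] at this
        exact ⟨ρ c v, range_inv htc.symm v this, eq_of_range h3 hv.1⟩
      · rintro _ ⟨v, hv, rfl⟩
        exact ⟨⟨v, rfl⟩, hWU (Submodule.sub_mem _ (range_inv htc.symm v hv) hv)⟩
    rw [c6]
  have c5 := dvd_codOn (l := 3) (by decide) ord3 h3 (range_inv (σ := ρ) htc.symm)
  exact xl _ (by omega)

end Cfsg.Agent.TwoF.Alt
end

-- part: TwoF/Alt/Pts
section
/-!
# Elementary abelian 2-groups of permutations
-/

set_option autoImplicit false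

namespace Cfsg.Agent.TwoF.Alt

open Equiv Equiv.Perm Gen H189.Cyc

variable {Ω : Type} [Fintype Ω] [DecidableEq Ω] {Y : Type} [Group Y] {ψ : Y →* Perm Ω} {A : Subgroup Y} {r : ℕ}
  {a b : Y} {u v : Ω}

/-- the involution `a` is not a transposition -/
def Big (ψ : Y →* Perm Ω) (a : Y) : Prop := ∃ u x, ψ a u ≠ u ∧ ψ a x ≠ x ∧ x ≠ u ∧ x ≠ ψ a u

omit [Fintype Ω] [DecidableEq Ω] in
theorem app_app (ha : a * a = 1) (u : Ω) : ψ a (ψ a u) = u := by
  rw [← Perm.mul_apply, ← map_mul, ha, map_one, Perm.one_apply]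

omit [Fintype Ω] [DecidableEq Ω] in
theorem app_comm (h : a * b = b * a) (u : Ω) : ψ a (ψ b u) = ψ b (ψ a u) := by
  rw [← Perm.mul_apply, ← map_mul, h, map_mul, Perm.mul_apply]

omit [Fintype Ω] in
theorem big_or_swap (ha : a * a = 1) (hu : ψ a u ≠ u) : Big ψ a ∨ ψ a = swap u (ψ a u) := by
  by_cases h : Big ψ a
  · exact Or.inl h
  refine Or.inr (Equiv.ext fun x => ?_)
  by_cases h1 : x = u
  · rw [h1, swap_apply_left]
  by_cases h2 : x = ψ a u
  · rw [h2, swap_apply_right, app_app ha]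
  rw [swap_apply_of_ne_of_ne h1 h2]
  by_contra h3
  exact h ⟨u, x, hu, h3, h1, h2⟩

omit [Fintype Ω] [DecidableEq Ω] in
theorem exists_moved {σ : Perm Ω} (h : σ ≠ 1) : ∃ u, σ u ≠ u := not_forall.1 fun e => h (Equiv.ext e)

theorem big_of_even (ha : a * a = 1) (h1 : ψ a ≠ 1) (hs : sign (ψ a) = 1) : Big ψ a := by
  obtain ⟨u, hu⟩ := exists_moved h1
  refine (big_or_swap ha hu).resolve_right fun e => ?_
  rw [e, sign_swap hu.symm] at hs
  exact absurd hs (by decide)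

theorem dvd_card_of_inv {d : ℕ} (S : Finset Ω) (hS : ∀ x ∈ S, orb ψ A x ⊆ S) (h : ∀ u ∈ S, d ∣ (orb ψ A u).card) :
    d ∣ S.card := by
  induction S using Finset.strongInduction with
  | H S ih =>
    rcases S.eq_empty_or_nonempty with rfl | ⟨u, hu⟩
    · simp
    rw [← Finset.card_sdiff_add_card_eq_card (hS u hu)]
    refine dvd_add (ih _ (Finset.sdiff_ssubset (hS u hu) ⟨u, self_mem_orb A u⟩) (fun x hx y hy => ?_)
      fun x hx => h x (Finset.mem_sdiff.1 hx).1) (h u hu)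
    rw [Finset.mem_sdiff] at hx ⊢
    refine ⟨hS x hx.1 hy, fun h3 => hx.2 ?_⟩
    rw [← orb_eq h3, orb_eq hy]
    exact self_mem_orb A x

theorem two_le_orb (hb : b ∈ A) (hu : ψ b u ≠ u) : 2 ≤ (orb ψ A u).card :=
  Finset.one_lt_card.2 ⟨_, mem_orb.2 ⟨b, hb, rfl⟩, _, self_mem_orb A u, hu⟩

theorem exists_of_two_le (h : 2 ≤ (orb ψ A u).card) : ∃ b ∈ A, ψ b u ≠ u := by
  by_contra hc
  push Not at hc
  exact not_mem_fix h (self_mem_orb A u) (mem_fix.2 hc)

/-- an elementary abelian group of order `2 ^ r` that acts faithfully -/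
structure EA (ψ : Y →* Perm Ω) (A : Subgroup Y) (r : ℕ) : Prop where
  el : IsElementaryAbelian 2 A
  inj : ∀ a ∈ A, ψ a = 1 → a = 1
  card : Nat.card A = 2 ^ r

namespace EA

variable (E : EA ψ A r)
include E

omit [Fintype Ω] [DecidableEq Ω] in
theorem comm : ∀ a ∈ A, ∀ b ∈ A, a * b = b * a := fun _ ha _ hb => elemAb_comm E.el ha hb

omit [Fintype Ω] [DecidableEq Ω] in
theorem sq (ha : a ∈ A) : a * a = 1 := (pow_two a).symm.trans (E.el.2 a ha)

omit [Fintype Ω] [DecidableEq Ω] in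
theorem of_le {B : Subgroup Y} {s : ℕ} (h : B ≤ A) (hc : Nat.card B = 2 ^ s) : EA ψ B s :=
  ⟨⟨⟨⟨fun a b => Subtype.ext (E.comm a (h a.2) b (h b.2))⟩⟩, fun a ha => E.el.2 a (h ha)⟩,
    fun a ha => E.inj a (h ha), hc⟩

theorem stab (u : Ω) : ∃ j ≤ r, (orb ψ A u).card = 2 ^ j ∧ EA ψ (stb ψ A u) (r - j) :=
  (card_orb_pow Nat.prime_two E.card u).imp fun _ h => ⟨h.1, h.2.1, E.of_le (stb_le A u) h.2.2⟩

omit [Fintype Ω] [DecidableEq Ω] in
theorem exists_ne (h : 0 < r) : ∃ a ∈ A, ∃ u, ψ a u ≠ u := by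
  have : Finite A := Nat.finite_of_card_ne_zero (by rw [E.card]; positivity)
  have h1 : A ≠ ⊥ := fun e => by
    have := E.card
    rw [e, Subgroup.card_bot] at this
    have := Nat.one_lt_two_pow h.ne'
    omega
  obtain ⟨⟨a, ha⟩, h2⟩ := Subgroup.ne_bot_iff_exists_ne_one.1 h1
  exact ⟨a, ha, exists_moved fun e => h2 (Subtype.ext (E.inj a ha e))⟩

theorem fix_stb (h : 2 ≤ (orb ψ A u).card) : (orb ψ A u).card + (fix ψ A).card ≤ (fix ψ (stb ψ A u)).card := by
  rw [← Finset.card_union_of_disjoint (Finset.disjoint_left.2 fun x hx => not_mem_fix h hx)]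
  exact Finset.card_le_card (Finset.union_subset (orb_subset_fix E.comm u) (fix_anti (stb_le A u)))

omit E in
/-- the rank -/
theorem rk (E : EA ψ A r) : 2 * r + (fix ψ A).card ≤ Fintype.card Ω := by
  induction r using Nat.strong_induction_on generalizing A with
  | _ r ih =>
    rcases Nat.eq_zero_or_pos r with rfl | h
    · simpa only [_root_.MulZeroClass.mul_zero, _root_.zero_add] using Finset.card_le_univ _
    obtain ⟨a, ha, u, hu⟩ := E.exists_ne h
    obtain ⟨j, hj, e, E'⟩ := E.stab u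
    have h1 := two_le_orb ha hu
    have h2 := E.fix_stb h1
    have h3 : j ≠ 0 := fun e' => by rw [e, e'] at h1; omega
    have h4 := ih _ (by omega) E'
    have h5 : 2 * j ≤ 2 ^ j := by
      obtain ⟨i, rfl⟩ := Nat.exists_eq_succ_of_ne_zero h3
      have := Nat.lt_two_pow_self (n := i)
      rw [pow_succ]; omega
    omega

theorem exists_big (h : 2 ≤ r) : ∃ a ∈ A, Big ψ a := by
  by_contra hc
  have h1 : Function.Injective ((sign.comp ψ).comp A.subtype) := (injective_iff_map_eq_one _).2 fun a ha => by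
    by_contra h2
    exact hc ⟨a, a.2, big_of_even (E.sq a.2) (fun e => h2 (Subtype.ext (E.inj a a.2 e))) ha⟩
  have h2 := Nat.card_le_card_of_injective _ h1
  rw [E.card, Nat.card_eq_fintype_card, Fintype.card_units_int] at h2
  have := Nat.pow_le_pow_right (n := 2) (by norm_num) h
  omega

theorem of_two (h : (orb ψ A u).card = 2) : 1 ≤ r ∧ EA ψ (stb ψ A u) (r - 1) := by
  obtain ⟨j, hj, e, E'⟩ := E.stab u
  obtain rfl : j = 1 := Nat.pow_right_injective le_rfl (e.symm.trans h)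
  exact ⟨hj, E'⟩

theorem orb_swap (ha : a ∈ A) (huv : u ≠ v) (h : ψ a = swap u v) : (orb ψ A u).card = 2 := by
  have h1 : ψ a u ≠ u := by rw [h, swap_apply_left]; exact huv.symm
  refine le_antisymm ((Finset.card_le_card (t := {u, v}) fun x hx => ?_).trans Finset.card_le_two) (two_le_orb ha h1)
  have h2 := move_orb E.comm hx ha h1
  rw [h] at h2
  by_contra h3
  simp only [Finset.mem_insert, Finset.mem_singleton, not_or] at h3
  exact h2 (swap_apply_of_ne_of_ne h3.1 h3.2)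

/-- an odd involution gives an orbit of length two -/
theorem orb_odd (ha : a ∈ A) (hs : sign (ψ a) ≠ 1) : ∃ u, (orb ψ A u).card = 2 := by
  by_contra hc
  push Not at hc
  have h1 : 4 ∣ (ψ a).support.card := dvd_card_of_inv (ψ := ψ) (A := A) _
    (fun x hx y hy => mem_support.2 (move_orb E.comm hy ha (mem_support.1 hx))) fun x hx => by
      obtain ⟨j, -, e, -⟩ := E.stab x
      have h2 := two_le_orb ha (mem_support.1 hx)
      have h3 := hc x
      rw [e] at h2 h3 ⊢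
      rcases j with _ | _ | j
      · omega
      · omega
      · exact ⟨2 ^ j, by ring⟩
  have h2 : ψ a ^ 2 = 1 := by rw [← map_pow, E.el.2 a ha, map_one]
  rw [sign_of_pow_two_eq_one h2, card_fixedPoints, sum_cycleType, Nat.sub_sub_self (Finset.card_le_univ _)] at hs
  obtain ⟨m, e⟩ := h1
  rw [e, show 4 * m / 2 = 2 * m by omega, pow_mul] at hs
  exact hs (by simp only [_root_.even_two, _root_.Even.neg_pow, _root_.one_pow])

/-- an even group with an orbit of length two has smaller rank -/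
theorem rk_even (hs : ∀ a ∈ A, sign (ψ a) = 1) (h : (orb ψ A u).card = 2) : 2 * (r + 1) ≤ Fintype.card Ω := by
  obtain ⟨b, hb, hu⟩ := exists_of_two_le h.ge
  have h1 : orb ψ A u = {u, ψ b u} := (Finset.eq_of_subset_of_card_le (Finset.insert_subset (self_mem_orb A u)
    (Finset.singleton_subset_iff.2 (mem_orb.2 ⟨b, hb, rfl⟩))) (by rw [h, Finset.card_pair hu.symm])).symm
  have h2 : IsElementaryAbelian 2 (A.map ψ ⊔ Subgroup.zpowers (swap u (ψ b u)) : Subgroup (Perm Ω)) := by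
    refine OddOrderLocal.Rank.elemAb_sup (elemAb_map E.el ψ) (elemAb_zpowers (by rw [pow_two, swap_mul_self])) ?_
    rintro _ ⟨a, ha, rfl⟩ _ ⟨m, rfl⟩
    refine Commute.zpow_right ?_ m
    show _ * _ = _
    rw [← mul_inv_eq_iff_eq_mul, ← swap_apply_apply, app_comm (E.comm a ha b hb)]
    have h3 : ψ a u ∈ orb ψ A u := mem_orb.2 ⟨a, ha, rfl⟩
    rw [h1, Finset.mem_insert, Finset.mem_singleton] at h3
    rcases h3 with e | e
    · rw [e]
    · rw [e, app_app (E.sq hb), swap_comm]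
  obtain ⟨s, e⟩ := IsPGroup.iff_card.1 (elemAb_isPGroup h2)
  have h3 := rk (ψ := MonoidHom.id _) ⟨h2, fun _ _ e => e, e⟩
  have h4 : Nat.card (A.map ψ) = 2 ^ r := by
    rw [← E.card]
    exact (Nat.card_congr (Equiv.ofBijective (ψ.subgroupMap A) ⟨(injective_iff_map_eq_one _).2 fun a ha =>
      Subtype.ext (E.inj a a.2 (congrArg Subtype.val ha)), ψ.subgroupMap_surjective A⟩)).symm
  by_contra hc
  have h5 := Subgroup.eq_of_le_of_card_ge (le_sup_left : A.map ψ ≤ A.map ψ ⊔ Subgroup.zpowers (swap u (ψ b u)))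
    (by rw [e, h4]; exact Nat.pow_le_pow_right (by norm_num) (by omega))
  obtain ⟨a, ha, e'⟩ : swap u (ψ b u) ∈ A.map ψ := h5 ▸ Subgroup.mem_sup_right (Subgroup.mem_zpowers _)
  have := hs a ha
  rw [e', sign_swap hu.symm] at this
  exact absurd this (by decide)

/-- a moved point that is fixed by a large involution -/
theorem pair (h : 3 ≤ r) : (∃ b ∈ A, ∃ u, ψ b u ≠ u ∧ ∃ a ∈ A, ψ a u = u ∧ Big ψ a) ∨
    ∀ u, 2 ≤ (orb ψ A u).card → (orb ψ A u).card = 2 ^ r := by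
  refine or_iff_not_imp_right.2 fun hc => ?_
  push Not at hc
  obtain ⟨u, h1, h2⟩ := hc
  obtain ⟨b, hb, hu⟩ := exists_of_two_le h1
  obtain ⟨j, hj, e, E'⟩ := E.stab u
  obtain ⟨a, ha, x, hx⟩ := E'.exists_ne (Nat.sub_pos_of_lt (hj.lt_of_ne fun e' => h2 (e' ▸ e)))
  rcases big_or_swap (E.sq ha.1) hx with h3 | h3
  · exact ⟨b, hb, u, hu, a, ha.1, ha.2, h3⟩
  · obtain ⟨c, hc, h4⟩ := (E.of_two (E.orb_swap ha.1 hx.symm h3)).2.exists_big (by omega)
    exact ⟨a, ha.1, x, hx, c, hc.1, hc.2, h4⟩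

/-- the three cases -/
theorem cases (h : 0 < r) (h3 : 3 ≤ Fintype.card Ω) : (∃ a ∈ A, Big ψ a ∧ ∃ w, ψ a w = w) ∨
    (r ≤ 2 ∧ ∃ a ∈ A, ∃ u w, ψ a u ≠ u ∧ ψ a w = w) ∨ (2 ^ r ∣ Fintype.card Ω ∧ ∃ a ∈ A, Big ψ a) := by
  by_cases h1 : ∃ a ∈ A, ∃ u w, ψ a u ≠ u ∧ ψ a w = w
  · by_cases h2 : r ≤ 2
    · exact Or.inr (Or.inl ⟨h2, h1⟩)
    obtain ⟨a, ha, u, w, hu, hw⟩ := h1
    rcases big_or_swap (E.sq ha) hu with h4 | h4
    · exact Or.inl ⟨a, ha, h4, w, hw⟩
    · obtain ⟨c, hc, h5⟩ := (E.of_two (E.orb_swap ha hu.symm h4)).2.exists_big (by omega)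
      exact Or.inl ⟨c, hc.1, h5, u, hc.2⟩
  refine Or.inr (Or.inr ⟨dvd_card (ψ := ψ) (A := A) fun w => ?_, ?_⟩)
  · obtain ⟨j, hj, e, E'⟩ := E.stab w
    rcases hj.eq_or_lt with rfl | hj
    · rw [e]
    · obtain ⟨a, ha, u, hu⟩ := E'.exists_ne (Nat.sub_pos_of_lt hj)
      exact (h1 ⟨a, ha.1, u, w, hu, ha.2⟩).elim
  · obtain ⟨a, ha, u, hu⟩ := E.exists_ne h
    refine ⟨a, ha, (big_or_swap (E.sq ha) hu).resolve_right fun e => ?_⟩
    obtain ⟨w, -, hw⟩ := Finset.exists_mem_notMem_of_card_lt_card (s := {u, ψ a u}) (t := Finset.univ)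
      (Finset.card_le_two.trans_lt (by rw [Finset.card_univ]; omega))
    simp only [Finset.mem_insert, Finset.mem_singleton, not_or] at hw
    exact h1 ⟨a, ha, u, w, hu, by rw [e, swap_apply_of_ne_of_ne hw.1 hw.2]⟩

/-- a fixed point in odd degree -/
theorem exists_fix (h : ¬ 2 ∣ Fintype.card Ω) : ∃ w, w ∈ fix ψ A :=
  (exists_small_orb (ψ := ψ) (j := 0) Nat.prime_two E.card (by simpa only [_root_.zero_add, _root_.pow_one, _root_.Nat.two_dvd_ne_zero] using h)).imp fun _ h => mem_fix_of_card h.2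

end EA

end Cfsg.Agent.TwoF.Alt
end

-- part: TwoF/Alt/Step
section
/-!
# Characteristic two, not the natural module: from elements of odd order to 2-groups
-/

set_option autoImplicit false

namespace Cfsg.Agent.TwoF.Alt

open Module Equiv Equiv.Perm Gen H189 H189.Cyc H189.Emb

theorem inj4 {α : Type} {a b c d : α} (h1 : a ≠ b) (h2 : a ≠ c) (h3 : a ≠ d) (h4 : b ≠ c) (h5 : b ≠ d) (h6 : c ≠ d) :
    Function.Injective ![a, b, c, d] := fun i j e => by
  fin_cases i <;> fin_cases j <;> simp_all [eq_comm]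

theorem inj5 {α : Type} {w a b c d : α} (h0 : Function.Injective ![a, b, c, d]) (h1 : a ≠ w) (h2 : b ≠ w) (h3 : c ≠ w)
    (h4 : d ≠ w) : Function.Injective ![w, a, b, c, d] :=
  Fin.cons_injective_iff.2 ⟨by
    rintro ⟨i, e⟩
    fin_cases i <;> simp_all, h0⟩

variable {Y : Type} [Group Y] [Finite Y] {V : Type} [AddCommGroup V] [Module (ZMod 2) V] [Finite V]
  {K : Subgroup Y} {ρ : Representation (ZMod 2) Y V} {n : ℕ} {ψ : Y →* Perm (Fin n)} {A B : Subgroup Y} {a b : Y}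
  {u w x : Fin n} {N : ℕ}

omit [Finite Y] in
theorem zp_fix (h : ψ a u = u) : ∀ y ∈ Subgroup.zpowers a, ψ y u = u := fun _ hy =>
  (Subgroup.zpowers_le.2 (show a ∈ stb ψ ⊤ u from ⟨trivial, h⟩) hy).2

omit [Finite Y] in
theorem zp_comm (h : a * b = b * a) : ∀ y ∈ Subgroup.zpowers a, y * b = b * y := fun _ hy =>
  Subgroup.mem_centralizer_singleton_iff.1 (Subgroup.zpowers_le.2 (Subgroup.mem_centralizer_singleton_iff.2 h) hy)

omit [Finite Y] in
theorem ne_fix (hu : ψ b u ≠ u) (hw : ψ b w = w) : u ≠ w ∧ ψ b u ≠ w :=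
  ⟨fun e => hu (e ▸ hw), fun e => hu (by rw [(ψ b).injective (e.trans hw.symm), hw])⟩

omit [Finite Y] in
theorem Lf.big {f : Fin 4 ↪ Fin n} (h : Lf ψ f (Equiv.swap 0 2 * Equiv.swap 1 3) a) : Big ψ a :=
  ⟨f 0, f 1, by rw [h, embP_apply]; exact f.injective.ne (by decide),
    by rw [h, embP_apply]; exact f.injective.ne (by decide), f.injective.ne (by decide),
    by rw [h, embP_apply]; exact f.injective.ne (by decide)⟩

namespace T2

variable (T : T2 K ρ ψ)
include T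

omit [Finite Y] [Finite V] in
theorem ea (hA : IsElementaryAbelian 2 A) {r : ℕ} (h : Nat.card A = 2 ^ r) : EA ψ A r :=
  ⟨hA, fun _ _ e => T.inj (e.trans (map_one ψ).symm), h⟩

omit [Finite Y] in
/-- `b` inverts a 3-cycle that commutes with `B` -/
theorem step (hB : B ≤ A) (hb : b ∈ A) (h2 : b * b = 1) (hc : ∀ y ∈ B, y * b = b * y) (hu : ψ b u ≠ u)
    (hw : ψ b w = w) (hBu : ∀ y ∈ B, ψ y u = u) (hBw : ∀ y ∈ B, ψ y w = w) :
    ∃ c, ψ c = c3 u (ψ b u) w ∧ c ^ 3 = 1 ∧ (∀ y ∈ B, y * c = c * y) ∧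
      cod ρ (B ⊔ Subgroup.zpowers c) + cod ρ B ≤ 2 * cod ρ A := by
  obtain ⟨h3, h4⟩ := ne_fix hu hw
  obtain ⟨c, -, e⟩ := T.lift _ (sign_c3 hu.symm h4)
  have h5 : c ^ 3 = 1 := T.pow (by rw [e, c3_pow_three hu.symm h3 h4])
  have h6 : ∀ y ∈ B, y * c = c * y := fun y hy => T.comm (by
    rw [← mul_inv_eq_iff_eq_mul, e, conj_c3, app_comm (hc y hy), hBu y hy, hBw y hy])
  have h7 : b * c * b⁻¹ = c⁻¹ := T.inj (by
    rw [map_mul, map_mul, map_inv, map_inv, e, conj_c3, app_app h2, hw, c3_inv, c3_cycle h4.symm h3.symm hu])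
  refine ⟨c, e, h5, h6, sm hB h6 fun H h8 h9 => sup_le (hB.trans h8) (Subgroup.zpowers_le.2 ?_)⟩
  have h10 := inv_mem (mul_mem (h9 b hb) (inv_mem (h8 hb)))
  rwa [show c * b * c⁻¹ * b⁻¹ = c * (b * c * b⁻¹)⁻¹ by group, h7, inv_inv,
    inv_eq_of_mul_eq_one_right ((pow_three' c).symm.trans h5)] at h10

theorem step1 (hP : IsElementaryAbelian 2 B) (hB : B ≤ A) (hb : b ∈ A) (h2 : b * b = 1)
    (hc : ∀ y ∈ B, y * b = b * y) (hu : ψ b u ≠ u) (hw : ψ b w = w) (hBu : ∀ y ∈ B, ψ y u = u)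
    (hBw : ∀ y ∈ B, ψ y w = w) : cod ρ B + 1 ≤ cod ρ A := by
  obtain ⟨c, e, h3, h4, h5⟩ := T.step hB hb h2 hc hu hw hBu hBw
  obtain ⟨v, hv, h6⟩ := T.nt (elemAb_isPGroup hP) (x := c) (m := 3) (by rw [← map_pow, h3, map_one]) (by decide)
    (fun h => c3_ne_one hu.symm (ne_fix hu hw).1 (by rw [← e, h, map_one])) h4
  have h7 : codOn ρ (fx ρ B) (Subgroup.zpowers c) ≠ 0 := fun h => h6 (mem_fx_zpowers.1 (codOn_eq_zero_iff.1 h hv))
  rw [cod_sup_eq] at h5
  omega

omit [Finite Y] in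
theorem stepX (hX : XL ρ ψ N) (hB : B ≤ A) (hb : b ∈ A) (h2 : b * b = 1)
    (hc : ∀ y ∈ B, y * b = b * y) (hu : ψ b u ≠ u) (hw : ψ b w = w) (hBu : ∀ y ∈ B, ψ y u = u)
    (hBw : ∀ y ∈ B, ψ y w = w) : N + cod ρ B ≤ 2 * cod ρ A := by
  obtain ⟨c, e, -, -, h5⟩ := T.step hB hb h2 hc hu hw hBu hBw
  have h6 := hX c _ _ _ hu.symm (ne_fix hu hw).1 (ne_fix hu hw).2 e
  have h7 := cod_mono (ρ := ρ) (le_sup_right : Subgroup.zpowers c ≤ B ⊔ Subgroup.zpowers c)
  omega

omit [Finite Y] in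
theorem k1 (hX : XL ρ ψ N) (ha : a ∈ A) (hb : b ∈ A) (h1 : a * a = 1) (h2 : b * b = 1) (hc : a * b = b * a)
    (hu : ψ b u ≠ u) (hw : ψ b w = w) (hau : ψ a u = u) (haw : ψ a w = w) :
    4 * cod ρ (Subgroup.zpowers a) + N ≤ 4 * cod ρ A := by
  obtain ⟨c, e, h3, h4, h5⟩ := T.step (Subgroup.zpowers_le.2 ha) hb h2 (zp_comm hc) hu hw (zp_fix hau) (zp_fix haw)
  have h6 := hX c _ _ _ hu.symm (ne_fix hu hw).1 (ne_fix hu hw).2 e
  have h7 := half (ρ := ρ) h1 h3 (by decide) (h4 a (Subgroup.mem_zpowers a))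
  rw [cod_sup_eq] at h5
  omega

omit [Finite Y] in
/-- an involution with a fixed point inverts a 3-cycle -/
theorem xfix (hX : XL ρ ψ N) (h2 : b * b = 1) (hu : ψ b u ≠ u) (hw : ψ b w = w) :
    N ≤ 2 * cod ρ (Subgroup.zpowers b) :=
  (Nat.le_add_right _ _).trans (T.stepX (B := ⊥) hX bot_le (Subgroup.mem_zpowers b) h2
    (fun y hy => by rw [Subgroup.mem_bot.1 hy, one_mul, mul_one]) hu hw
    (fun y hy => by rw [Subgroup.mem_bot.1 hy, map_one, Perm.one_apply])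
    (fun y hy => by rw [Subgroup.mem_bot.1 hy, map_one, Perm.one_apply]))

omit [Finite Y] in
/-- a large involution with a fixed point inverts a 5-cycle -/
theorem good (hY : YL ρ ψ N) (h2 : a * a = 1) (hb : Big ψ a) (hw : ψ a w = w) :
    N ≤ 2 * cod ρ (Subgroup.zpowers a) := by
  obtain ⟨u, x, hu, hx, h3, h4⟩ := hb
  have h5 : u ≠ ψ a x := fun e => h4 (by rw [e, app_app h2])
  let f : Fin 5 ↪ Fin n := ⟨![w, u, x, ψ a x, ψ a u], inj5
    (inj4 h3.symm h5 hu.symm hx.symm h4 ((ψ a).injective.ne h3)) (ne_fix hu hw).1 (ne_fix hx hw).1 (ne_fix hx hw).2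
    (ne_fix hu hw).2⟩
  obtain ⟨s, hs⟩ := T.lf f s5 (by decide +kernel)
  refine (hY f s hs).trans (cod_le_of_inverts (Odd.of_dvd_nat (by decide : Odd 5)
    (orderOf_dvd_of_pow_eq_one (hs.pow T (by decide +kernel)))) (T.inj ?_))
  rw [map_mul, map_mul, map_inv, map_inv, hs, conj_embP (g := f) (τ := swap (1 : Fin 5) 4 * swap (2 : Fin 5) 3), ← map_inv]
  · exact congrArg (embP f) (by decide +kernel)
  · intro i
    rw [(by decide +kernel : ∀ i : Fin 5, (swap (1 : Fin 5) 4 * swap (2 : Fin 5) 3 : Perm (Fin 5)) i = ![0, 4, 3, 2, 1] i)]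
    fin_cases i
    · exact hw
    · rfl
    · rfl
    · exact app_app h2 x
    · exact app_app h2 u

omit [Finite Y] [Finite V] in
/-- the commutator with a 3-cycle -/
theorem dtc (h2 : a * a = 1) (hu : ψ a u ≠ u) (hx : ψ a x ≠ x) (h3 : x ≠ u) (h4 : x ≠ ψ a u) :
    ∃ (f : Fin 4 ↪ Fin n) (g : Y), (∀ i, f i = ![u, ψ a u, x, ψ a x] i) ∧ Lf ψ f (c3 0 1 2) g ∧
      Lf ψ f (swap (0 : Fin 4) 2 * swap (1 : Fin 4) 3) (a * g * a⁻¹ * g⁻¹) := by
  have h5 : u ≠ ψ a x := fun e => h4 (by rw [e, app_app h2])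
  let f : Fin 4 ↪ Fin n := ⟨![u, ψ a u, x, ψ a x], inj4 hu.symm h3.symm h5 h4.symm ((ψ a).injective.ne h3.symm) hx.symm⟩
  obtain ⟨g, hg⟩ := T.lf f (c3 0 1 2) (by decide +kernel)
  refine ⟨f, g, fun _ => rfl, hg, ?_⟩
  rw [Lf, map_mul, map_mul, map_mul, map_inv, map_inv, hg, conj_embP (g := f) (τ := swap (0 : Fin 4) 1 * swap (2 : Fin 4) 3), ← map_inv,
    ← map_mul]
  · exact congrArg (embP f) (by decide +kernel)
  · intro i
    rw [(by decide +kernel : ∀ i : Fin 4, (swap (0 : Fin 4) 1 * swap (2 : Fin 4) 3 : Perm (Fin 4)) i = ![1, 0, 3, 2] i)]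
    fin_cases i
    · rfl
    · exact app_app h2 u
    · rfl
    · exact app_app h2 x

omit [Finite Y] in
theorem big4 (hY : YL ρ ψ N) (h2 : a * a = 1) (hb : Big ψ a) : N ≤ 4 * cod ρ (Subgroup.zpowers a) := by
  obtain ⟨u, x, hu, hx, h3, h4⟩ := hb
  obtain ⟨f, g, -, -, hd⟩ := T.dtc h2 hu hx h3 h4
  obtain ⟨w, -, hw⟩ := Finset.exists_mem_notMem_of_card_lt_card (s := Finset.univ.map f) (t := Finset.univ)
    (by have := T.deg; simp only [_root_.Finset.card_map, _root_.Finset.card_univ, _root_.Fintype.card_fin, _root_.gt_iff_lt]; omega)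
  have h5 := T.good hY ((pow_two _).symm.trans (hd.pow T (by decide +kernel))) hd.big
    (hd.sup (S := Finset.univ) (by simp) w hw)
  have h6 := cod_zpowers_commutator_le (ρ := ρ) a g
  omega

omit [Finite Y] in
/-- `b` fixes five points, four of which are moved by `a` -/
theorem k2 {M : ℕ} (hX : XL ρ ψ N) (hY : YL ρ ψ M) (ha : a ∈ A) (hb : b ∈ A) (h1 : a * a = 1) (h2 : b * b = 1)
    {O : Finset (Fin n)} (hO : 5 ≤ O.card) (h3 : ∀ x ∈ O, ψ a x ≠ x ∧ ψ a x ∈ O ∧ ψ b x = x) (hu : ψ b u ≠ u) :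
    3 * N + 2 * M ≤ 8 * cod ρ A := by
  obtain ⟨y, hy⟩ := Finset.card_pos.1 (show 0 < O.card by omega)
  obtain ⟨x, hx, h4⟩ := Finset.exists_mem_notMem_of_card_lt_card (s := {y, ψ a y}) (t := O)
    (Finset.card_le_two.trans_lt (by omega))
  simp only [Finset.mem_insert, Finset.mem_singleton, not_or] at h4
  obtain ⟨f, g, hf, hg, hd⟩ := T.dtc h1 (h3 y hy).1 (h3 x hx).1 h4.1 h4.2
  have hfO : ∀ z ∈ Finset.univ.map f, z ∈ O := fun z hz => by
    obtain ⟨i, -, rfl⟩ := Finset.mem_map.1 hz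
    rw [hf]
    fin_cases i
    exacts [hy, (h3 y hy).2.1, hx, (h3 x hx).2.1]
  obtain ⟨w, hw, h5⟩ := Finset.exists_mem_notMem_of_card_lt_card (s := Finset.univ.map f) (t := O) (by simp; omega)
  have s1 := hd.sup (S := Finset.univ) (by simp)
  have s2 := hg.sup (S := Finset.univ) (by simp)
  have hdd := (pow_two _).symm.trans (hd.pow T (i := 2) (by decide +kernel))
  have h6 := T.good hY hdd hd.big (s1 w h5)
  have h7 := T.xfix hX h2 hu (h3 w hw).2.2
  have h8 := T.k1 (A := Subgroup.zpowers b ⊔ Subgroup.zpowers (a * g * a⁻¹ * g⁻¹)) hX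
    (Subgroup.mem_sup_right (Subgroup.mem_zpowers _)) (Subgroup.mem_sup_left (Subgroup.mem_zpowers _)) hdd h2
    (T.comm (s1.comm fun z hz => (h3 z (hfO z hz)).2.2)) hu (h3 w hw).2.2
    (s1 u fun hz => hu (h3 u (hfO u hz)).2.2) (s1 w h5)
  have h9 := sm (ρ := ρ) (Q := Subgroup.zpowers b ⊔ Subgroup.zpowers (a * g * a⁻¹ * g⁻¹)) (g := g)
    (Subgroup.zpowers_le.2 hb) (zp_comm (T.comm (s2.comm fun z hz => (h3 z (hfO z hz)).2.2)).symm)
    fun H e1 e2 => sup_le (Subgroup.zpowers_le.2 (e1 hb)) (Subgroup.zpowers_le.2 (by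
      have := mul_mem (e1 ha) (inv_mem (e2 a ha))
      rwa [show a * (g * a * g⁻¹)⁻¹ = a * g * a⁻¹ * g⁻¹ by group] at this))
  omega

end T2

end Cfsg.Agent.TwoF.Alt
end

-- part: TwoF/Alt/Odd1
section
/-!
# Alternating groups, odd characteristic: the steps (helper10)

`B` an elementary abelian subgroup of `K`, `u` a point, `B' = stb ψ B u`, `q` the length of the orbit of `u`.
Lower bounds for `codOn ρ (fx ρ B') B`: `Fr.alpha` (`q - 1`, if `B` has `q - 1` fixed points), `Fr.beta` (`(q - 2) / 3`),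
`Fr.beta_one`.
-/

set_option autoImplicit false

namespace Cfsg.Agent.TwoF.Alt

open Module Equiv Equiv.Perm Gen H189 H189.Cyc H189.Emb H189.FeitTits

section Pts

variable {Ω : Type} [Fintype Ω] [DecidableEq Ω]

omit [Fintype Ω] [DecidableEq Ω] in
theorem exists_emb_card (S : Finset Ω) : ∃ f : Fin S.card ↪ Ω, ∀ x, x ∈ S ↔ ∃ i, f i = x :=
  ⟨S.equivFin.symm.toEmbedding.trans (Function.Embedding.subtype _), fun x =>
    ⟨fun h => ⟨S.equivFin ⟨x, h⟩, congrArg Subtype.val (S.equivFin.symm_apply_apply ⟨x, h⟩)⟩,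
      fun ⟨i, h⟩ => h ▸ (S.equivFin.symm i).2⟩⟩

omit [Fintype Ω] [DecidableEq Ω] in
theorem exists_emb_mem {S : Finset Ω} {m : ℕ} (h : m ≤ S.card) : ∃ f : Fin m ↪ Ω, ∀ i, f i ∈ S := by
  obtain ⟨f, hf⟩ := exists_emb_card S
  exact ⟨(Fin.castLEEmb h).trans f, fun i => (hf _).2 ⟨_, rfl⟩⟩

theorem sup_embP {m : ℕ} (f : Fin m ↪ Ω) (σ : Perm (Fin m)) {S : Set Ω} (h : ∀ i, f i ∈ S) : Sup (embP f σ) S :=
  fun x hx => embP_other f σ fun i e => hx (e ▸ h i)

theorem embP_ne_one {m : ℕ} (f : Fin m ↪ Ω) {σ : Perm (Fin m)} (h : σ ≠ 1) : embP f σ ≠ 1 := fun e =>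
  h (Equiv.ext fun i => f.injective (by rw [← embP_apply, e]; rfl))

theorem embP_mem_of_full {m : ℕ} (f : Fin m ↪ Ω) {σ : Perm (Fin m)} (hσ : sign σ = 1) {Γ : Subgroup (Perm Ω)}
    {S : Set Ω} (hΓ : Full Γ S) (h : ∀ i, f i ∈ S) : embP f σ ∈ Γ :=
  mem_of_full hΓ (by rw [sign_embP, hσ]) fun x hx => by
    by_contra e
    exact hx (sup_embP f σ h x e)

end Pts

section Lin

variable {k : Type} [Field k] {Y : Type} [Group Y] {V : Type} [AddCommGroup V] [Module k V]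
  {ρ : Representation k Y V}

theorem mem_fx_of_comm {B : Subgroup Y} {g : Y} (h : ∀ b ∈ B, b * g = g * b) {v : V} (hv : v ∈ fx ρ B) :
    ρ g v ∈ fx ρ B := fun b hb => by rw [← rho_mul, h b hb, rho_mul, hv b hb]

theorem comm_inv_of {B : Subgroup Y} {g : Y} (h : ∀ b ∈ B, b * g = g * b) : ∀ b ∈ B, b * g⁻¹ = g⁻¹ * b :=
  fun b hb => (Commute.inv_right (h b hb)).eq

theorem map_fx_of_comm {B : Subgroup Y} {g : Y} (h : ∀ b ∈ B, b * g = g * b) : (fx ρ B).map (ρ g) = fx ρ B := by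
  refine le_antisymm ?_ fun v hv => ⟨ρ g⁻¹ v, mem_fx_of_comm (comm_inv_of h) hv, rho_apply_inv ρ g v⟩
  rintro _ ⟨v, hv, rfl⟩
  exact mem_fx_of_comm h hv

theorem codOn_cj {B : Subgroup Y} {g : Y} (h : ∀ b ∈ B, b * g = g * b) (A : Subgroup Y) :
    codOn ρ (fx ρ B) (A.map (MulAut.conj g).toMonoidHom) = codOn ρ (fx ρ B) A := by
  have := codOn_conj (ρ := ρ) g (fx ρ B) A
  rwa [map_fx_of_comm h] at this

theorem inv_zpowers_of_comm {B : Subgroup Y} {g : Y} (h : ∀ b ∈ B, b * g = g * b) :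
    Inv ρ (Subgroup.zpowers g) (fx ρ B) := by
  rintro _ ⟨i, rfl⟩ v hv
  exact mem_fx_of_comm (fun b hb => (Commute.zpow_right (h b hb) i).eq) hv

variable [FiniteDimensional k V]

/-- the theorem of Feit and Tits for the codimension of the fixed space -/
theorem ft_cod {p : ℕ} [Fact p.Prime] [CharP k p] [Finite Y] {r : ℕ} (hr : 9 ≤ r)
    (π : Y →* alternatingGroup (Fin r)) (hπ : Function.Surjective π) (τ : alternatingGroup (Fin r))
    (h : ∀ g, π g = τ → ∃ m, g ^ m = 1 ∧ ¬ p ∣ m ∧ ρ g ≠ 1) : bd r p ≤ cod ρ ⊤ := by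
  let Q : Representation k Y (V ⧸ fx ρ ⊤) :=
    ρ.quotient (fx ρ ⊤) fun g v hv => inv_fx_self ⊤ g trivial v hv
  rw [cod_eq_finrank_quotient]
  refine feit_tits p hr π hπ Q fun g hg => ?_
  haveI := alt_simple hr
  haveI : ((MonoidHom.ker Q).map π).Normal := Subgroup.Normal.map inferInstance π hπ
  rcases Subgroup.Normal.eq_bot_or_eq_top (H := (MonoidHom.ker Q).map π) inferInstance with e | e
  · exact (Subgroup.mem_bot).1 (e ▸ Subgroup.mem_map_of_mem π hg)
  · obtain ⟨x, hx, hxτ⟩ : τ ∈ (MonoidHom.ker Q).map π := e ▸ trivial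
    obtain ⟨m, h1, h2, h3⟩ := h x hxτ
    refine (h3 (LinearMap.ext fun v => eq_of_sub_one_sq h1 h2 ?_)).elim
    have h4 : Q x ((fx ρ ⊤).mkQ v) = (fx ρ ⊤).mkQ v := by rw [hx]; rfl
    have h5 : ρ x v - v ∈ fx ρ ⊤ := (Submodule.Quotient.eq _).1 h4
    exact h5 x trivial

end Lin

variable {p : ℕ} [Fact p.Prime] {Y : Type} [Group Y] [Finite Y] {V : Type} [AddCommGroup V] [Module (ZMod p) V]
  [Finite V] {K : Subgroup Y} {ρ : Representation (ZMod p) Y V} {n : ℕ} {ψ : Y →* Perm (Fin n)}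

/-- an element of order five in characteristic three -/
theorem four_le {V : Type} [AddCommGroup V] [Module (ZMod 3) V] [Finite V] {ρ : Representation (ZMod 3) Y V}
    {w : Y} (hw : w ^ 5 = 1) {W : Submodule (ZMod 3) V} (hW : Inv ρ (Subgroup.zpowers w) W)
    (h : ∃ v ∈ W, ρ w v ≠ v) : 4 ≤ codOn ρ W (Subgroup.zpowers w) := by
  haveI : Fact (Nat.Prime 5) := ⟨by norm_num⟩
  have hP : IsPGroup 5 (Subgroup.zpowers w) := elemAb_isPGroup (elemAb_zpowers hw)
  have h1 := pow_cod_modEq (ρ := resOn ρ hW) (s := 5) (by simp) (hP.to_subgroup ⊤)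
  rw [cod_resOn, ← MonoidHom.range_eq_map, Subgroup.range_subtype, Nat.card_zmod] at h1
  have h2 : codOn ρ W (Subgroup.zpowers w) ≠ 0 := fun e => by
    obtain ⟨v, hv, hne⟩ := h
    exact hne (codOn_eq_zero_iff.1 e hv w (Subgroup.mem_zpowers w))
  by_contra h3
  generalize codOn ρ W (Subgroup.zpowers w) = c at h1 h2 h3
  have h4 : c < 4 := by omega
  interval_cases c <;> simp_all only [Nat.ModEq, _root_.ne_eq, _root_.pow_zero, _root_.Nat.one_mod, _root_.not_true_eq_false, _root_.pow_one, _root_.Nat.reduceMod, _root_.OfNat.ofNat_ne_one, _root_.Nat.reducePow]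

namespace Fr

variable (F : Fr p K ρ ψ)
include F

omit [Finite V] in
/-- an element supported on the fixed points of `B` centralises `B` -/
theorem cen {B : Subgroup Y} (hB : IsElementaryAbelian p B) (hK : B ≤ K) {g : Y} (hg : Sup (ψ g) (fix ψ B)) :
    ∀ b ∈ B, b * g = g * b := fun b hb =>
  (F.comm (hK hb) (hg.comm fun x hx => mem_fix.1 hx b hb) (hB.2 b hb)).symm

omit [Finite V] [Finite Y] in
theorem le_K (hp : p ≠ 2) {B : Subgroup Y} (hB : IsElementaryAbelian p B) : B ≤ K := fun b hb => by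
  have h1 : b ^ p = 1 := hB.2 b hb
  have h2 : sign (ψ b) ^ p = 1 := by rw [← map_pow, ← map_pow, h1, map_one, map_one]
  rw [F.mem]
  rcases Int.units_eq_one_or (sign (ψ b)) with e | e
  · exact e
  · rw [e, ((Fact.out : p.Prime).odd_of_ne_two hp).neg_one_pow] at h2
    exact absurd h2 (by decide)

/-- **FT.** -/
theorem ft (hp : p ≠ 2) {B : Subgroup Y} (hB : IsElementaryAbelian p B) (hK : B ≤ K) {Γ : Subgroup Y}
    {S : Finset (Fin n)} (hΓ : Full (Γ.map ψ) S) (hS : S ⊆ fix ψ B) (hr : 9 ≤ S.card) :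
    bd S.card p ≤ codOn ρ (fx ρ B) Γ := by
  obtain ⟨f, hf⟩ := exists_emb_card S
  have hf' : ∀ i, f i ∈ S := fun i => (hf _).2 ⟨i, rfl⟩
  generalize S.card = r at f hr hf hf'
  let G : Subgroup (Y × alternatingGroup (Fin r)) :=
    { carrier := {x | x.1 ∈ Γ ∧ ψ x.1 = embP f x.2}
      mul_mem' := fun {a b} ha hb => ⟨mul_mem ha.1 hb.1, by
        rw [Prod.fst_mul, Prod.snd_mul, map_mul, Subgroup.coe_mul, map_mul, ha.2, hb.2]⟩
      one_mem' := ⟨one_mem _, by rw [Prod.fst_one, Prod.snd_one, map_one, Subgroup.coe_one, map_one]⟩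
      inv_mem' := fun {a} ha => ⟨inv_mem ha.1, by
        rw [Prod.fst_inv, Prod.snd_inv, map_inv, Subgroup.coe_inv, map_inv, ha.2]⟩ }
  have hc : ∀ g : G, ∀ b ∈ B, b * g.1.1 = g.1.1 * b := fun g =>
    F.cen hB hK (g.2.2 ▸ sup_embP f _ fun i => hS (hf' i))
  let j : G →* Y := (MonoidHom.fst _ _).comp G.subtype
  let σ : Representation (ZMod p) G (fx ρ B) :=
    Representation.subrepresentation (ρ.comp j) (fx ρ B) fun g v hv => mem_fx_of_comm (hc g) hv
  let π : G →* alternatingGroup (Fin r) := (MonoidHom.snd _ _).comp G.subtype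
  have hπ : Function.Surjective π := fun s => by
    obtain ⟨x, hx, e⟩ := embP_mem_of_full f (mem_alternatingGroup.1 s.2) hΓ hf'
    exact ⟨⟨(x, s), hx, e⟩, rfl⟩
  let e : Fin 4 ↪ Fin r := Fin.castLEEmb (by omega)
  have h1 := ft_cod (ρ := σ) (p := p) hr π hπ (emb e AltOddDim.Z1) fun g hg => by
    have h2 : (g.1.2 : Perm (Fin r)) ^ 2 = 1 := by
      have : g.1.2 = emb e AltOddDim.Z1 := hg
      rw [this, ← Subgroup.coe_pow, ← map_pow, show AltOddDim.Z1 ^ 2 = 1 by decide, map_one, Subgroup.coe_one]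
    have h3 : ψ g.1.1 ^ 2 = 1 := by rw [g.2.2, ← map_pow, h2, map_one]
    have h4 : ¬ p ∣ 2 := fun h => hp ((Nat.prime_dvd_prime_iff_eq Fact.out Nat.prime_two).1 h)
    refine ⟨2 * Nat.card ψ.ker, Subtype.ext (Prod.ext (pow_card h3) (Subtype.ext ?_)), F.not_dvd_mul h4, fun h5 => ?_⟩
    · show (g.1.2 : Perm (Fin r)) ^ (2 * Nat.card ψ.ker) = 1
      rw [pow_mul, h2, one_pow]
    · have h6 : g.1.1 ≠ 1 := fun h => by
        have h7 := g.2.2
        rw [h, map_one, show g.1.2 = emb e AltOddDim.Z1 from hg, coe_emb] at h7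
        exact embP_ne_one f (embP_ne_one e (by decide)) h7.symm
      obtain ⟨v, hv, hne⟩ := F.nt (elemAb_isPGroup hB) h3 h4 h6 (hc g)
      exact hne (congrArg Subtype.val (LinearMap.congr_fun h5 ⟨v, hv⟩))
  refine h1.trans ?_
  rw [cod_eq_codOn_range (ρ := ρ) (B := (⊤ : Subgroup G).map j) (fx ρ B).subtype (fx ρ B).injective_subtype
    (by rintro _ ⟨b, hb, rfl⟩; exact ⟨b, hb, fun _ => rfl⟩) (fun b hb => ⟨_, ⟨b, hb, rfl⟩, fun _ => rfl⟩),
    Submodule.range_subtype]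
  exact codOn_mono le_rfl (by rintro _ ⟨g, -, rfl⟩; exact g.2.1)

end Fr

/-- a lift of order five -/
theorem Fr.exists_five {K : Subgroup Y} (F : Fr p K ρ ψ) {x : Y} (h : ψ x ^ 5 = 1) :
    (x ^ 6) ^ 5 = 1 ∧ ψ (x ^ 6) = ψ x := by
  refine ⟨?_, by rw [map_pow, show 6 = 5 + 1 from rfl, pow_succ, h, one_mul]⟩
  obtain ⟨c, hc⟩ := F.six
  rw [← pow_mul, show 6 * 5 = 5 * Nat.card ψ.ker * c by rw [mul_assoc, ← hc, mul_comm], pow_mul, Fr.pow_card h, one_pow]

/-- five points in characteristic three -/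
theorem Fr.ft_five {V : Type} [AddCommGroup V] [Module (ZMod 3) V] [Finite V] {ρ : Representation (ZMod 3) Y V}
    (F : Fr 3 K ρ ψ) {B : Subgroup Y} (hB : IsElementaryAbelian 3 B) (hK : B ≤ K) {Γ : Subgroup Y}
    {S : Finset (Fin n)} (hΓ : Full (Γ.map ψ) S) (hS : S ⊆ fix ψ B) (hr : 5 ≤ S.card) :
    4 ≤ codOn ρ (fx ρ B) Γ := by
  obtain ⟨f, hf⟩ := exists_emb_mem hr
  obtain ⟨x, hx, e⟩ := embP_mem_of_full f (σ := finRotate 5) (by decide) hΓ hf
  have h1 : ψ x ^ 5 = 1 := by rw [e, ← map_pow, show finRotate 5 ^ 5 = 1 by decide, map_one]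
  obtain ⟨h2, h3⟩ := F.exists_five h1
  have hc := F.cen hB hK (g := x ^ 6) (by rw [h3, e]; exact sup_embP f _ fun i => hS (hf i))
  have h4 : x ^ 6 ≠ 1 := fun h => by
    rw [h, map_one, e] at h3
    exact embP_ne_one f (by decide) h3.symm
  refine (four_le h2 (inv_zpowers_of_comm hc) (F.nt (elemAb_isPGroup hB) (m := 5) (by rw [h3, h1]) (by norm_num)
    h4 hc)).trans (codOn_mono le_rfl ?_)
  exact Subgroup.zpowers_le.2 (pow_mem hx 6)

namespace Fr

variable (F : Fr p K ρ ψ) {B : Subgroup Y} (hB : IsElementaryAbelian p B) (hK : B ≤ K) (u : Fin n)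
include F hB hK

/-- **the step with many fixed points** -/
theorem alpha (hp : p ≠ 2) (hd : p ∣ (orb ψ B u).card) (hf : (orb ψ B u).card - 1 ≤ (fix ψ B).card) :
    (orb ψ B u).card - 1 ≤ codOn ρ (fx ρ (stb ψ B u)) B := by
  have hc : ∀ a ∈ B, ∀ b ∈ B, a * b = b * a := fun a ha b hb => elemAb_comm hB ha hb
  have hB' : IsElementaryAbelian p (stb ψ B u) := elemAb_of_le hB (stb_le B u)
  have hK' : stb ψ B u ≤ K := (stb_le B u).trans hK
  have hp3 : 3 ≤ p := by
    have := (Fact.out : p.Prime).two_le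
    omega
  have hq : 3 ≤ (orb ψ B u).card := hp3.trans (Nat.le_of_dvd (Finset.card_pos.2 ⟨u, self_mem_orb B u⟩) hd)
  obtain ⟨T, hT, hTc⟩ := Finset.exists_subset_card_eq hf
  set P := (orb ψ B u).erase u with hP
  have hPc : P.card = (orb ψ B u).card - 1 := Finset.card_erase_of_mem (self_mem_orb B u)
  have hd' : ∀ x ∈ P, x ∉ T := fun x hx h => not_mem_fix (by omega) (Finset.mem_of_mem_erase hx) (hT h)
  have huT : u ∉ T := fun h => not_mem_fix (by omega) (self_mem_orb B u) (hT h)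
  obtain ⟨σ, hσ, h1, h2⟩ := exists_move hd' (by omega) (by omega)
  obtain ⟨g, -, hg⟩ := F.lift σ hσ
  have hO := orb_subset_fix (ψ := ψ) hc u
  have hT' : T ⊆ fix ψ (stb ψ B u) := hT.trans (fix_anti (stb_le B u))
  have hgc := F.cen hB' hK' (g := g) (hg ▸ h1.mono (Finset.coe_subset.2
    (Finset.union_subset ((Finset.erase_subset _ _).trans hO) hT')))
  have hfull : Full ((B ⊔ B.map (MulAut.conj g).toMonoidHom).map ψ) (insert u (P ∪ P.image σ) : Finset (Fin n)) := by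
    refine gen_alpha (B := B.map ψ) (T := T) ?_ (fun x => ?_) ?_ huT hd' (Finset.card_pos.1 (by omega)) h1 h2
      (Subgroup.map_mono le_sup_left) ?_
    · rintro _ ⟨a, ha, rfl⟩ _ ⟨b, hb, rfl⟩
      rw [← map_mul, ← map_mul, hc a ha b hb]
    · rw [hP, Finset.mem_erase, mem_orb]
      exact and_congr_right fun _ => ⟨fun ⟨a, ha, e⟩ => ⟨_, ⟨a, ha, rfl⟩, e⟩, fun ⟨_, ⟨a, ha, rfl⟩, e⟩ => ⟨a, ha, e⟩⟩
    · rintro _ ⟨a, ha, rfl⟩ x hx
      exact mem_fix.1 (hT hx) a ha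
    · rintro _ ⟨a, ha, rfl⟩
      exact ⟨g * a * g⁻¹, Subgroup.mem_sup_right ⟨a, ha, rfl⟩, by rw [map_mul, map_mul, map_inv, hg]⟩
  have hS : (insert u (P ∪ P.image σ) : Finset (Fin n)) ⊆ fix ψ (stb ψ B u) := by
    refine Finset.insert_subset (hO (self_mem_orb B u)) (Finset.union_subset ((Finset.erase_subset _ _).trans hO) ?_)
    intro x hx
    obtain ⟨y, hy, rfl⟩ := Finset.mem_image.1 hx
    exact hT' (h2 y hy)
  have hSc : (insert u (P ∪ P.image σ) : Finset (Fin n)).card = 2 * (orb ψ B u).card - 1 := by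
    rw [Finset.card_insert_of_notMem, Finset.card_union_of_disjoint, Finset.card_image_of_injective _ σ.injective]
    · omega
    · rw [Finset.disjoint_left]
      intro x hx hx'
      obtain ⟨y, hy, rfl⟩ := Finset.mem_image.1 hx'
      exact hd' _ hx (h2 y hy)
    · rw [Finset.mem_union, not_or]
      refine ⟨Finset.notMem_erase _ _, fun h => ?_⟩
      obtain ⟨y, hy, e⟩ := Finset.mem_image.1 h
      exact huT (e ▸ h2 y hy)
  have hle := codOn_sup_le (ρ := ρ) (fx ρ (stb ψ B u)) B (B.map (MulAut.conj g).toMonoidHom)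
  rw [codOn_cj hgc] at hle
  by_cases h5 : 5 ≤ (orb ψ B u).card
  · have h6 := F.ft hp hB' hK' hfull hS (by omega)
    rw [hSc, bd, if_neg] at h6
    · omega
    · intro h
      have h7 : p ∣ 2 * (orb ψ B u).card - (2 * (orb ψ B u).card - 1) := Nat.dvd_sub (hd.mul_left 2) h
      rw [show 2 * (orb ψ B u).card - (2 * (orb ψ B u).card - 1) = 1 by (clear * - h5; omega)] at h7
      exact absurd (Nat.le_of_dvd one_pos h7) (by omega)
  · have h6 : p = 3 ∧ (orb ψ B u).card = 3 := by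
      have h7 := Nat.le_of_dvd (by omega) hd
      have h8 := (Fact.out : p.Prime).odd_of_ne_two hp
      have h9 : p ≠ 4 := fun e => by rw [e] at h8; exact absurd h8 (by decide)
      have h10 : p = 3 := by omega
      subst h10
      omega
    obtain ⟨rfl, h7⟩ := h6
    have h8 := F.ft_five hB' hK' hfull hS (by omega)
    omega

omit [Finite V] F hK in
theorem exists_moves (h : 2 ≤ (orb ψ B u).card) : ∃ b ∈ B, ψ b ^ p = 1 ∧ (∀ x ∈ orb ψ B u, ψ b x ∈ orb ψ B u) ∧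
    ∀ x ∈ orb ψ B u, ψ b x ≠ x := by
  have h1 := not_mem_fix h (self_mem_orb B u)
  rw [mem_fix] at h1
  push Not at h1
  obtain ⟨b, hb, hne⟩ := h1
  refine ⟨b, hb, ?_, fun x hx => orb_maps hx hb, fun x hx => move_orb (fun a ha b hb => elemAb_comm hB ha hb) hx hb hne⟩
  rw [← map_pow, show b ^ p = 1 from hB.2 b hb, map_one]

/-- **the step without fixed points** -/
theorem beta (hp : p ≠ 2) (hq : 9 ≤ (orb ψ B u).card) :
    (orb ψ B u).card - 2 ≤ 3 * codOn ρ (fx ρ (stb ψ B u)) B := by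
  have hc : ∀ a ∈ B, ∀ b ∈ B, a * b = b * a := fun a ha b hb => elemAb_comm hB ha hb
  have hB' : IsElementaryAbelian p (stb ψ B u) := elemAb_of_le hB (stb_le B u)
  have hK' : stb ψ B u ≤ K := (stb_le B u).trans hK
  have hO := orb_subset_fix (ψ := ψ) hc u
  obtain ⟨b, hb, b1, b2, b3⟩ := exists_moves (ψ := ψ) hB u (by omega)
  have hp' : 5 ≤ p ∨ (p = 3 ∧ 7 ≤ (orb ψ B u).card) := by
    have h7 := (Fact.out : p.Prime).two_le
    have h8 := (Fact.out : p.Prime).odd_of_ne_two hp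
    have h9 : p ≠ 4 := fun e => by rw [e] at h8; exact absurd h8 (by decide)
    omega
  obtain ⟨h, g, h1, h2, g1, g2, H⟩ := gen_beta Fact.out b1 b2 b3 hp' ⟨u, self_mem_orb B u⟩
  obtain ⟨h', -, hh⟩ := F.lift h h1
  obtain ⟨g', -, hg⟩ := F.lift g g1
  have ch := F.cen hB' hK' (g := h') (hh ▸ h2.mono (Finset.coe_subset.2 hO))
  have cg := F.cen hB' hK' (g := g') (hg ▸ g2.mono (Finset.coe_subset.2 hO))
  set Γ := (B ⊔ B.map (MulAut.conj h').toMonoidHom) ⊔ B.map (MulAut.conj g').toMonoidHom with hΓ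
  have m1 : ψ b ∈ Γ.map ψ := ⟨b, Subgroup.mem_sup_left (Subgroup.mem_sup_left hb), rfl⟩
  have m2 : h * ψ b * h⁻¹ ∈ Γ.map ψ := ⟨h' * b * h'⁻¹, Subgroup.mem_sup_left (Subgroup.mem_sup_right ⟨b, hb, rfl⟩),
    by rw [map_mul, map_mul, map_inv, hh]⟩
  have m3 : g * ψ b * g⁻¹ ∈ Γ.map ψ := ⟨g' * b * g'⁻¹, Subgroup.mem_sup_right ⟨b, hb, rfl⟩,
    by rw [map_mul, map_mul, map_inv, hg]⟩
  have hfull := H (Γ.map ψ) (fun γ hγ => mul_mem (mul_mem m1 hγ) (inv_mem m1))
    (fun γ hγ => mul_mem (mul_mem m3 hγ) (inv_mem m3)) (by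
      have := mul_mem m1 (inv_mem m2)
      rwa [show ψ b * (h * ψ b * h⁻¹)⁻¹ = ψ b * h * (ψ b)⁻¹ * h⁻¹ by group] at this)
  have h3 := F.ft hp hB' hK' hfull hO hq
  have h4 := le_bd (orb ψ B u).card p
  have h5 := codOn_sup_le (ρ := ρ) (fx ρ (stb ψ B u)) B (B.map (MulAut.conj h').toMonoidHom)
  have h6 := codOn_sup_le (ρ := ρ) (fx ρ (stb ψ B u)) (B ⊔ B.map (MulAut.conj h').toMonoidHom)
    (B.map (MulAut.conj g').toMonoidHom)
  rw [codOn_cj ch] at h5
  rw [codOn_cj cg, ← hΓ] at h6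
  omega

/-- the step is not trivial -/
theorem beta_one (hp : 5 ≤ p) (hq : 2 ≤ (orb ψ B u).card) : 1 ≤ codOn ρ (fx ρ (stb ψ B u)) B := by
  have hc : ∀ a ∈ B, ∀ b ∈ B, a * b = b * a := fun a ha b hb => elemAb_comm hB ha hb
  have hB' : IsElementaryAbelian p (stb ψ B u) := elemAb_of_le hB (stb_le B u)
  have hK' : stb ψ B u ≤ K := (stb_le B u).trans hK
  have hO := orb_subset_fix (ψ := ψ) hc u
  obtain ⟨b, hb, b1, b2, b3⟩ := exists_moves (ψ := ψ) hB u hq
  obtain ⟨h, h1, h2, z, z1, z2, e⟩ := exists_first Fact.out b1 b2 b3 (Or.inl hp) (self_mem_orb B u)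
  obtain ⟨h', -, hh⟩ := F.lift h h1
  have ch := F.cen hB' hK' (g := h') (hh ▸ h2.mono (Finset.coe_subset.2 hO))
  have e' : ψ (b * h' * b⁻¹ * h'⁻¹) = c3 u z (ψ b u) := by rw [map_mul, map_mul, map_mul, map_inv, map_inv, hh, e]
  have hu := (b3 u (self_mem_orb B u)).symm
  obtain ⟨v, hv, hne⟩ := F.nt (elemAb_isPGroup hB') (x := b * h' * b⁻¹ * h'⁻¹) (m := 3)
    (by rw [e', c3_pow_three z1.symm hu z2]) (fun h => absurd (Nat.le_of_dvd (by norm_num) h) (by omega))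
    (fun h => c3_ne_one z1.symm hu (by rw [← e', h, map_one])) fun a ha => by
      have c1 : Commute a b := hc a (stb_le B u ha) b hb
      have c2 : Commute a h' := ch a ha
      exact (((c1.mul_right c2).mul_right c1.inv_right).mul_right c2.inv_right).eq
  by_contra h0
  have h3 : fx ρ (stb ψ B u) ≤ fx ρ B := codOn_eq_zero_iff.1 (by omega)
  apply hne
  have h4 := mem_fx_of_comm (comm_inv_of ch) hv
  rw [rho_mul, rho_mul, rho_mul, h3 h4 _ (inv_mem hb), rho_apply_inv, h3 hv b hb]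

end Fr

end Cfsg.Agent.TwoF.Alt
end

-- part: TwoF/Alt/Odd2
section
/-!
# Alternating groups, odd characteristic: the natural module (helper10)

`pn_of_small`: if a double transposition negates only a small subspace, property `PN` holds; `nrel_of_pn`: `PN` gives a vector
with the relations of `e_1 - e_2`.  `Fr.deep_one`: trivial centre, characteristic three.
-/

set_option autoImplicit false

namespace Cfsg.Agent.TwoF.Alt

open Module Equiv Equiv.Perm Gen H189 H189.Cyc H189.Emb H189.NatMod H189.AltOdd H189.AltOddDim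

section Rel

variable {α : Type} [Fintype α] [DecidableEq α] {k : Type} [Field k] {V : Type} [AddCommGroup V] [Module k V]
  [FiniteDimensional k V] {R : alternatingGroup α →* End k V}

theorem pn_of_small (h2 : (2 : k) ≠ 0) (hn : 9 ≤ Fintype.card α)
    (H : ∀ f : Fin 4 ↪ α, finrank k (LinearMap.ker (R (emb f Z1) + 1)) ≤ 5) : PN R := by
  intro f7 v hv
  obtain ⟨j, hj⟩ : ∃ j, Fintype.card α = j + 4 := ⟨Fintype.card α - 4, by omega⟩
  have hLow := low_three.{0, 0} h2 j (by omega)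
  let f : Fin 4 ↪ α := (Fin.castLEEmb (by norm_num : 4 ≤ 7)).trans f7
  obtain ⟨h, hd, hcov⟩ := exists_compl f hj
  let Q : Representation k (alternatingGroup (Fin 4)) V := R.comp (emb f)
  let S := R.comp (emb h)
  have hcomm : ∀ x y v, Q x (S y v) = S y (Q x v) := fun x y v => by
    show R (emb f x) (R (emb h y) v) = R (emb h y) (R (emb f x) v)
    rw [← rho_mul R, emb_comm f h hd, rho_mul R]
  have hQ : ∀ x y v, Q (x * y) v = Q x (Q y v) := rho_mul Q
  have r2 : (Z2 : alternatingGroup (Fin 4)) * Z2 = 1 := by decide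
  have r3 : (Z1 : alternatingGroup (Fin 4)) * Z2 = Z2 * Z1 := by decide
  have i2' : ∀ v, Q Z2 (Q Z2 v) = v := fun v => by rw [← hQ, r2, rho_one]
  have c12 : ∀ v, Q Z1 (Q Z2 v) = Q Z2 (Q Z1 v) := fun v => by rw [← hQ, ← hQ, r3]
  obtain ⟨-, d1, d2⟩ := four_dim h2 Q
  have d3 := inv_split h2 (Q Z2) i2' (LinearMap.ker (Q Z1 + 1)) fun v hv => by
    rw [mem_km] at hv ⊢; rw [c12, hv, map_neg]
  have d4 : finrank k (LinearMap.ker (Q Z1 + 1)) ≤ 5 := H f
  have t2 := trivial_of_low hLow S (LinearMap.ker (Q Z1 + 1) ⊓ LinearMap.ker (Q Z2 - 1))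
    (fun g v hv => ⟨mem_km.2 (by rw [hcomm, mem_km.1 hv.1, map_neg]), mem_kp.2 (by rw [hcomm, mem_kp.1 hv.2])⟩)
    (by omega)
  have t3 := trivial_of_low hLow S (LinearMap.ker (Q Z1 + 1) ⊓ LinearMap.ker (Q Z2 + 1))
    (fun g v hv => ⟨mem_km.2 (by rw [hcomm, mem_km.1 hv.1, map_neg]),
      mem_km.2 (by rw [hcomm, mem_km.1 hv.2, map_neg])⟩) (by omega)
  have hv' : Q Z1 v = -v := by
    show R (emb f Z1) v = -v
    rw [emb_dt]; exact hv
  have fixed : ∀ g, S g v = v := fun g => by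
    have e1 := t2 g (v + Q Z2 v) ⟨mem_km.2 (by rw [map_add, c12, hv', map_neg]; abel),
      mem_kp.2 (by rw [map_add, i2']; abel)⟩
    have e2 := t3 g (v - Q Z2 v) ⟨mem_km.2 (by rw [map_sub, c12, hv', map_neg]; abel),
      mem_km.2 (by rw [map_sub, i2']; abel)⟩
    have e3 : (2 : k) • S g v = (2 : k) • v := by
      rw [two_smul, two_smul]
      calc S g v + S g v = S g (v + Q Z2 v) + S g (v - Q Z2 v) := by rw [map_add, map_sub]; abel
        _ = v + v := by rw [e1, e2]; abel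
    exact smul_right_injective V h2 e3
  obtain ⟨σ, hσ⟩ := exists_emb h (cc (f7 4) (f7 5) (f7 6) (f7.injective.ne (by decide)) (f7.injective.ne (by decide)))
    (by
      intro y hy
      have hr : ∀ i : Fin 7, (∀ x : Fin 4, i ≠ Fin.castLE (by norm_num) x) → ∃ x, h x = f7 i := fun i hi =>
        hcov _ fun x hx => hi x (f7.injective hx).symm
      obtain ⟨x4, h4⟩ := hr 4 (by decide)
      obtain ⟨x5, h5⟩ := hr 5 (by decide)
      obtain ⟨x6, h6⟩ := hr 6 (by decide)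
      exact c3_other (by rw [← h4]; exact (hy x4).symm) (by rw [← h5]; exact (hy x5).symm)
        (by rw [← h6]; exact (hy x6).symm))
  rw [← hσ]
  exact fixed σ

theorem nrel_of_pn (h2 : (2 : k) ≠ 0) (h : PN R) (f : Fin 8 ↪ α) (hf : Function.Injective R) :
    ∃ e, e ≠ 0 ∧ NRel R e (f 0) (f 1) (f 2) (f 3) (f 2) := by
  have ne : ∀ i j : Fin 8, i ≠ j → f i ≠ f j := fun i j h => f.injective.ne h
  set z1 : alternatingGroup (Fin 8) := dt 0 1 2 3 (by decide) (by decide) with hz1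
  set z2 : alternatingGroup (Fin 8) := dt 0 2 1 3 (by decide) (by decide) with hz2
  set z3 : alternatingGroup (Fin 8) := dt 0 3 1 2 (by decide) (by decide) with hz3
  set t : alternatingGroup (Fin 8) := cc 0 1 2 (by decide) (by decide) with ht
  set g : alternatingGroup (Fin 8) := dt 0 1 4 5 (by decide) (by decide) with hg
  set g' : alternatingGroup (Fin 8) := dt 2 3 4 5 (by decide) (by decide) with hg'
  have r3 : z1 * z2 = z3 := by decide
  have r4 : z3 * t = t * z1 := by decide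
  have r5 : z2 * t = t * z3 := by decide
  have r6 : z1 * t = t * z2 := by decide
  have r7 : t * t * t = 1 := by decide
  have r8 : g * g = 1 := by decide
  have r9 : g * z1 = z1 * g := by decide
  have r10 : z2 * g = g * z3 := by decide
  have r11 : g * t = t * t * g := by decide
  have r12 : g' = z1 * g := by decide
  let Q : Representation k (alternatingGroup (Fin 8)) V := R.comp (emb f)
  have hQ : ∀ x y v, Q (x * y) v = Q x (Q y v) := rho_mul Q
  have half : ∀ x : V, x = -x → x = 0 := fun x hx => by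
    have h3 : (2 : k) • x = 0 := by rw [two_smul]; nth_rewrite 2 [hx]; rw [add_neg_cancel]
    exact (smul_eq_zero.1 h3).resolve_left h2
  obtain ⟨w0, hw0, w01, w02⟩ : ∃ w0 : V, w0 ≠ 0 ∧ Q z1 w0 = w0 ∧ Q z2 w0 = -w0 := by
    let e : Fin 4 ↪ Fin 8 := Fin.castLEEmb (by omega)
    have e1 : emb e Z1 = z1 := emb_dt e _ _ _ _ _ _
    have e2 : emb e Z2 = z2 := emb_dt e _ _ _ _ _ _
    have hp := W1_pos h2 (Q.comp (emb e)) fun h => by
      have h3 : emb f (emb e Z1) = emb f 1 := hf (h.trans (by rw [map_one, map_one]))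
      rw [e1] at h3
      exact absurd (emb_injective f h3) (by decide)
    obtain ⟨v, hv, hv0⟩ := Submodule.exists_mem_ne_zero_of_ne_bot
      (p := LinearMap.ker ((Q.comp (emb e)) Z1 - 1) ⊓ LinearMap.ker ((Q.comp (emb e)) Z2 + 1)) fun h => by
        rw [h, finrank_bot] at hp
        omega
    exact ⟨v, hv0, e1 ▸ mem_kp.1 hv.1, e2 ▸ mem_km.1 hv.2⟩
  obtain ⟨w1, hw1, w11, w12, hgw⟩ : ∃ w1 : V, w1 ≠ 0 ∧ Q z1 w1 = w1 ∧ Q z2 w1 = -w1 ∧
      (Q g w1 = w1 ∨ Q g w1 = -w1) := by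
    by_cases hc : w0 + Q g w0 = 0
    · exact ⟨w0, hw0, w01, w02, Or.inr (neg_eq_of_add_eq_zero_right hc).symm⟩
    · refine ⟨w0 + Q g w0, hc, ?_, ?_, Or.inl ?_⟩
      · rw [map_add, ← hQ z1 g, ← r9, hQ, w01]
      · have e3 : Q z3 w0 = -w0 := by rw [← r3, hQ, w02, map_neg, w01]
        rw [map_add, ← hQ z2 g, r10, hQ, e3, w02, map_neg]; abel
      · rw [map_add, ← hQ, r8, rho_one, add_comm]
  have w13 : Q z3 w1 = -w1 := by rw [← r3, hQ, w12, map_neg, w11]
  have fz : ∀ (a b c d : Fin 8) (hab : a ≠ b) (hcd : c ≠ d), a ≠ c → a ≠ d → b ≠ c → b ≠ d → ∀ v,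
      Q (dt a b c d hab hcd) v = -v → Full (NatMod.stab R v) {x | x ≠ f a ∧ x ≠ f b ∧ x ≠ f c ∧ x ≠ f d} := by
    intro a b c d hab hcd hac had hbc hbd v hv
    refine full_of_PN h (ne _ _ hab) (ne _ _ hcd) (ne _ _ hac) (ne _ _ had) (ne _ _ hbc) (ne _ _ hbd) ?_
    rwa [← emb_dt]
  have un : ∀ {v : V} {S T : Set α}, Full (NatMod.stab R v) S → Full (NatMod.stab R v) T → f 6 ∈ S → f 7 ∈ S →
      f 6 ∈ T → f 7 ∈ T → Full (NatMod.stab R v) (S ∪ T) := fun h1 h2 => h1.union h2 (ne 6 7 (by decide))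
  have two : ∀ {v : V}, Full (NatMod.stab R v) {x | x ≠ f 0 ∧ x ≠ f 1 ∧ x ≠ f 2 ∧ x ≠ f 3} →
      Full (NatMod.stab R v) {x | x ≠ f 0 ∧ x ≠ f 1 ∧ x ≠ f 4 ∧ x ≠ f 5} →
      Full (NatMod.stab R v) {x | x ≠ f 0 ∧ x ≠ f 1} := fun F2 F1 => by
    refine (un F2 F1 ?_ ?_ ?_ ?_).mono ?_
    iterate 4 exact ⟨ne _ _ (by decide), ne _ _ (by decide), ne _ _ (by decide), ne _ _ (by decide)⟩
    rintro x ⟨h0, h1⟩
    by_cases h3 : x = f 2
    · exact Or.inr (h3 ▸ ⟨ne _ _ (by decide), ne _ _ (by decide), ne _ _ (by decide), ne _ _ (by decide)⟩)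
    by_cases h4 : x = f 3
    · exact Or.inr (h4 ▸ ⟨ne _ _ (by decide), ne _ _ (by decide), ne _ _ (by decide), ne _ _ (by decide)⟩)
    exact Or.inl ⟨h0, h1, h3, h4⟩
  rcases hgw with hgw | hgw
  · set w3 := Q t w1 with hw3
    set w2 := Q t w3 with hw2
    have tw2 : Q t w2 = w1 := by rw [hw2, hw3, ← hQ, ← hQ, r7, rho_one]
    have gw3 : Q g w3 = w2 := by rw [hw3, ← hQ, r11, hQ, hgw, hQ]
    have gw2 : Q g w2 = w3 := by rw [← gw3, ← hQ, r8, rho_one]
    have z1w3 : Q z1 w3 = -w3 := by rw [hw3, ← hQ, r6, hQ, w12, map_neg]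
    have z2w3 : Q z2 w3 = -w3 := by rw [hw3, ← hQ, r5, hQ, w13, map_neg]
    have z3w3 : Q z3 w3 = w3 := by rw [hw3, ← hQ, r4, hQ, w11]
    have z1w2 : Q z1 w2 = -w2 := by rw [hw2, ← hQ, r6, hQ, z2w3, map_neg]
    have z2w2 : Q z2 w2 = w2 := by rw [hw2, ← hQ, r5, hQ, z3w3]
    have ge : Q g (w2 - w3) = -(w2 - w3) := by rw [map_sub, gw2, gw3]; abel
    have z1e : Q z1 (w2 - w3) = -(w2 - w3) := by rw [map_sub, z1w2, z1w3]; abel
    refine ⟨w2 - w3, fun hcon => ?_, ne 0 1 (by decide), ne 2 3 (by decide), ne 0 2 (by decide), ne 0 3 (by decide),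
      ne 1 2 (by decide), ne 1 3 (by decide), ne 0 2 (by decide), ne 1 2 (by decide),
      two (fz 0 1 2 3 _ _ (by decide) (by decide) (by decide) (by decide) _ z1e)
        (fz 0 1 4 5 _ _ (by decide) (by decide) (by decide) (by decide) _ ge), ?_, ?_⟩
    · rw [sub_eq_zero.1 hcon, z2w3] at z2w2
      exact hw1 (rho_injective Q t ((half w3 z2w2.symm).trans (map_zero _).symm))
    · have : R (emb f z1) (w2 - w3) = -(w2 - w3) := z1e
      rwa [hz1, emb_dt] at this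
    · have h3 : w2 - w3 + Q t (w2 - w3) + Q t (Q t (w2 - w3)) = 0 := by
        rw [map_sub, tw2, ← hw2, map_sub, tw2, ← hw3]
        abel
      have h4 : Q t = R (cc (f 0) (f 1) (f 2) (ne 0 1 (by decide)) (ne 1 2 (by decide))) := by
        show R (emb f t) = _
        rw [ht, emb_cc]
      rwa [h4] at h3
  · exfalso
    have g'w : Q g' w1 = -w1 := by rw [r12, hQ, hgw, map_neg, w11]
    have F12 := two ((fz 0 2 1 3 _ _ (by decide) (by decide) (by decide) (by decide) _ w12).mono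
      fun x hx => ⟨hx.1, hx.2.2.1, hx.2.1, hx.2.2.2⟩)
      (fz 0 1 4 5 _ _ (by decide) (by decide) (by decide) (by decide) _ hgw)
    have F : Full (NatMod.stab R w1) Set.univ := by
      refine (un F12 (fz 2 3 4 5 _ _ (by decide) (by decide) (by decide) (by decide) _ g'w) ?_ ?_ ?_ ?_).mono ?_
      iterate 2 exact ⟨ne _ _ (by decide), ne _ _ (by decide)⟩
      iterate 2 exact ⟨ne _ _ (by decide), ne _ _ (by decide), ne _ _ (by decide), ne _ _ (by decide)⟩
      rintro x -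
      by_cases h3 : x = f 0
      · exact Or.inr (h3 ▸ ⟨ne _ _ (by decide), ne _ _ (by decide), ne _ _ (by decide), ne _ _ (by decide)⟩)
      by_cases h4 : x = f 1
      · exact Or.inr (h4 ▸ ⟨ne _ _ (by decide), ne _ _ (by decide), ne _ _ (by decide), ne _ _ (by decide)⟩)
      exact Or.inl ⟨h3, h4⟩
    have h5 : ((emb f z2 : alternatingGroup α) : Perm α) ∈ NatMod.stab R w1 :=
      mem_of_full F (mem_alternatingGroup.1 (emb f z2).2) fun _ _ => Set.mem_univ _
    rw [NatMod.mem_stab] at h5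
    exact hw1 (half w1 (h5.symm.trans w12))

end Rel

variable {Y : Type} [Group Y] {n : ℕ} {ψ : Y →* Perm (Fin n)}

/-- `b` has the orbit `f 0, f 1, f 2` and the fixed point `f 3` -/
def Tri (ψ : Y →* Perm (Fin n)) (b : Y) (f : Fin 4 ↪ Fin n) : Prop := ∀ i, ψ b (f i) = f (c3 0 1 2 i)

theorem Tri.conj {b : Y} {f : Fin 4 ↪ Fin n} (h : Tri ψ b f) (σ : Perm (Fin 4)) :
    ψ b * embP f σ * (ψ b)⁻¹ = embP f (c3 0 1 2 * σ * (c3 0 1 2)⁻¹) := by
  rw [mul_inv_eq_iff_eq_mul]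
  ext1 x
  by_cases hx : ∃ i, f i = x
  · obtain ⟨i, rfl⟩ := hx
    simp only [Perm.mul_apply, embP_apply, h _, inv_apply_self]
  · push Not at hx
    rw [Perm.mul_apply, Perm.mul_apply, embP_other f _ hx, embP_other f]
    intro i e
    exact hx ((c3 0 1 2)⁻¹ i) ((ψ b).injective (by rw [h, apply_inv_self, e]))

variable [Finite Y] {V : Type} [AddCommGroup V] [Module (ZMod 3) V] [Finite V] {K : Subgroup Y}
  {ρ : Representation (ZMod 3) Y V}

/-- **trivial centre**: a small commutator space of an element of order three forces the natural module -/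
theorem Fr.deep_one (F : Fr 3 K ρ ψ) (hn : 9 ≤ n) (hi : Function.Injective ψ) {b : Y} {f : Fin 4 ↪ Fin n}
    (h : Tri ψ b f) (hc : cod ρ (Subgroup.zpowers b) ≤ 5) : ∃ B, Off 3 ρ B ∧ Cub ρ B := by
  obtain ⟨ι, hι, -⟩ := F.iota hi
  have h2 : (2 : ZMod 3) ≠ 0 := by decide
  have key : ∀ (b : Y) (f : Fin 4 ↪ Fin n), Tri ψ b f →
      finrank (ZMod 3) (LinearMap.ker ((ρ.comp ι) (emb f Z1) + 1)) ≤ cod ρ (Subgroup.zpowers b) := by
    intro b f h
    refine finrank_le_cod (Submodule.eq_bot_iff _ |>.2 fun v hv => ?_)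
    have h1 : ρ (ι (emb f Z1)) v = -v := mem_km.1 hv.1
    have h3 : ρ b v = v := mem_fx_zpowers.1 hv.2
    have h4 : ∀ x y : alternatingGroup (Fin 4), c3 0 1 2 * (x : Perm (Fin 4)) * (c3 0 1 2 : Perm (Fin 4))⁻¹ = (y : Perm (Fin 4)) →
        ρ (ι (emb f x)) v = -v → ρ (ι (emb f y)) v = -v := fun x y e hx => by
      have e' : ι (emb f y) * b = b * ι (emb f x) := hi (by
        rw [map_mul, map_mul, hι, hι, coe_emb, coe_emb, ← e, ← h.conj, inv_mul_cancel_right])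
      rw [← h3, ← rho_mul, e', rho_mul, hx, map_neg]
    have h5 := h4 Z1 Z3 (by decide) h1
    have h6 := h4 Z3 Z2 (by decide) h5
    rw [show Z2 = Z1 * Z3 by decide, map_mul, map_mul, rho_mul, h5, map_neg, h1, neg_neg] at h6
    have h7 : (2 : ZMod 3) • v = 0 := by rw [two_smul]; nth_rewrite 2 [h6]; rw [add_neg_cancel]
    exact (smul_eq_zero.1 h7).resolve_left h2
  have hPN : PN (ρ.comp ι) := pn_of_small h2 (by simpa only [_root_.Fintype.card_fin] using hn) fun g => by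
    obtain ⟨σ, hσ⟩ := exists_even f g f.injective g.injective (by simp only [_root_.Nat.reduceAdd, _root_.Fintype.card_fin]; omega)
    refine (key (ι σ * b * (ι σ)⁻¹) g fun i => ?_).trans ((cod_zpowers_conj (ρ := ρ) (ι σ) b).le.trans hc)
    rw [map_mul, map_mul, map_inv, hι, Perm.mul_apply, Perm.mul_apply, ← hσ, inv_apply_self, h, hσ]
  have hinj : Function.Injective (ρ.comp ι) := F.faithful.comp fun x y e => Subtype.ext (by rw [← hι, e, hι])
  obtain ⟨e, he, hR⟩ := nrel_of_pn h2 hPN (Fin.castLEEmb (by omega)) hinj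
  have ne : ∀ i j : Fin 4, i ≠ j → f i ≠ f j := fun i j h => f.injective.ne h
  have h3 := (F.nat_cod hi hι he hR).1 (ne 0 1 (by decide)) (ne 0 2 (by decide)) (ne 1 2 (by decide))
  have h4 : orderOf (ι (cc (f 0) (f 1) (f 2) (ne 0 1 (by decide)) (ne 1 2 (by decide)))) = 3 :=
    orderOf_eq_prime (hi (by
      rw [map_pow, hι, map_one ψ]
      exact c3_pow_three (ne _ _ (by decide)) (ne _ _ (by decide)) (ne _ _ (by decide))))
      fun e => c3_ne_one (ne 0 1 (by decide)) (ne 0 2 (by decide)) ((hι _).symm.trans (by rw [e, map_one]))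
  have h5 := off_zpowers h4 h3
  exact ⟨_, h5, cub_of_cod_le_two (elemAb_isPGroup h5.1) h3⟩

end Cfsg.Agent.TwoF.Alt
end

-- part: TwoF/Alt/Odd3
section
/-!
# Alternating groups, characteristic three: the double cover (helper10)

`Fr.deep`: an element of order three with an orbit of length three and a fixed point has codimension at least five, unless
there is a cubic offender (natural module; the spin module of dimension eight).
-/

set_option autoImplicit false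

namespace Cfsg.Agent.TwoF.Alt

open Module Equiv Equiv.Perm Gen H189 H189.Cyc H189.Emb

section Lin

theorem triple_zero {R : Type*} [Ring R] {a b c : R} (hab : b * a = a * b) (hac : c * a = a * c) (hbc : c * b = b * c)
    (ha : a * a = 0) (hb : b * b = 0) (hc : c * c = 0) (h : a * (b * c) = 0) {x y z : R}
    (hx : x = a ∨ x = b ∨ x = c) (hy : y = a ∨ y = b ∨ y = c) (hz : z = a ∨ z = b ∨ z = c) : x * y * z = 0 := by
  have h1 : ∀ w, b * (a * w) = a * (b * w) := fun w => by rw [← mul_assoc, hab, mul_assoc]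
  have h2 : ∀ w, c * (a * w) = a * (c * w) := fun w => by rw [← mul_assoc, hac, mul_assoc]
  have h3 : ∀ w, c * (b * w) = b * (c * w) := fun w => by rw [← mul_assoc, hbc, mul_assoc]
  have h4 : ∀ w, a * (a * w) = 0 := fun w => by rw [← mul_assoc, ha, zero_mul]
  have h5 : ∀ w, b * (b * w) = 0 := fun w => by rw [← mul_assoc, hb, zero_mul]
  have h6 : ∀ w, c * (c * w) = 0 := fun w => by rw [← mul_assoc, hc, zero_mul]
  rcases hx with hx | hx | hx <;> rcases hy with hy | hy | hy <;> rcases hz with hz | hz | hz <;>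
    rw [hx, hy, hz] <;>
    simp only [mul_assoc, hab, hac, hbc, ha, hb, hc, h, h1, h2, h3, h4, h5, h6, mul_zero, zero_mul]

variable {k : Type} [Field k] {Y : Type} [Group Y] {V : Type} [AddCommGroup V] [Module k V]
  {ρ : Representation k Y V}

theorem elemAb_gen {p : ℕ} {s : Set Y} (hc : ∀ a ∈ s, ∀ b ∈ s, a * b = b * a) (hp : ∀ a ∈ s, a ^ p = 1) :
    IsElementaryAbelian p (Subgroup.closure s) := by
  have h := Subgroup.isMulCommutative_closure hc
  refine ⟨h, fun a ha => ?_⟩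
  induction ha using Subgroup.closure_induction with
  | mem x hx => exact hp x hx
  | one => exact one_pow p
  | mul x y hx hy h1 h2 =>
    have : Commute x y := congrArg Subtype.val (h.is_comm.comm ⟨x, hx⟩ ⟨y, hy⟩)
    rw [this.mul_pow, h1, h2, one_mul]
  | inv x _ h1 => rw [inv_pow, h1, inv_one]

/-- cubic action of a commutative group is checked on generators -/
theorem cub_gen {s : Set Y} (hc : ∀ a ∈ Subgroup.closure s, ∀ b ∈ Subgroup.closure s, a * b = b * a)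
    (h : ∀ a ∈ s, ∀ b ∈ s, ∀ c ∈ s, (ρ a - 1) * (ρ b - 1) * (ρ c - 1) = 0) : Cub ρ (Subgroup.closure s) := by
  have L : ∀ T : End k V, (∀ a ∈ s, (ρ a - 1) * T = 0) → ∀ a ∈ Subgroup.closure s, (ρ a - 1) * T = 0 :=
    fun T hT a ha => LinearMap.ext fun v => sub_eq_zero.2
      (mem_fx_closure.2 (fun b hb => sub_eq_zero.1 (LinearMap.congr_fun (hT b hb) v)) a ha)
  have C : ∀ a ∈ Subgroup.closure s, ∀ b ∈ Subgroup.closure s, (ρ a - 1) * (ρ b - 1) = (ρ b - 1) * (ρ a - 1) :=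
    fun a ha b hb => LinearMap.ext (sub_one_comm (hc a ha b hb))
  have m := @Subgroup.subset_closure Y _ s
  have h1 : ∀ b ∈ s, ∀ c ∈ s, ∀ a ∈ Subgroup.closure s, (ρ a - 1) * ((ρ b - 1) * (ρ c - 1)) = 0 :=
    fun b hb c hc => L _ fun a ha => by rw [← mul_assoc, h a ha b hb c hc]
  have h2 : ∀ c ∈ s, ∀ a ∈ Subgroup.closure s, ∀ b ∈ Subgroup.closure s,
      (ρ b - 1) * ((ρ a - 1) * (ρ c - 1)) = 0 := fun c hc a ha => L _ fun b hb => by
    rw [← mul_assoc, C b (m hb) a ha, mul_assoc, h1 b hb c hc a ha]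
  intro a ha b hb c hc
  rw [mul_assoc, C b hb c hc, ← mul_assoc, C a ha c hc, mul_assoc]
  refine L _ (fun c hc => ?_) c hc
  rw [← mul_assoc, C c (m hc) a ha, mul_assoc, C c (m hc) b hb, h2 c hc b hb a ha]

end Lin

variable {Y : Type} [Group Y] {n : ℕ} {ψ : Y →* Perm (Fin n)} {V : Type} [AddCommGroup V] [Module (ZMod 3) V]
  [Finite V] {K : Subgroup Y} {ρ : Representation (ZMod 3) Y V}

omit [Finite V] in
theorem eq_zero_of_neg {v : V} (h : v = -v) : v = 0 := by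
  have h7 : (2 : ZMod 3) • v = 0 := by rw [two_smul]; nth_rewrite 2 [h]; rw [add_neg_cancel]
  exact (smul_eq_zero.1 h7).resolve_left (by decide)

/-- a square root of `-1` -/
theorem two_le_of_sq {T : End (ZMod 3) V} (hT : ∀ v, T (T v) = -v) {W : Submodule (ZMod 3) V} (hW : ∀ v ∈ W, T v ∈ W)
    (h0 : W ≠ ⊥) : 2 ≤ finrank (ZMod 3) W := by
  by_contra h
  obtain ⟨v, hv, hne⟩ := Submodule.exists_mem_ne_zero_of_ne_bot h0
  have h1 : finrank (ZMod 3) W = 1 := by
    have : finrank (ZMod 3) W ≠ 0 := fun e => h0 (Submodule.finrank_eq_zero.1 e)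
    omega
  obtain ⟨t, ht⟩ := (finrank_eq_one_iff_of_nonzero' (⟨v, hv⟩ : W) fun e => hne (congrArg Subtype.val e)).1 h1
    ⟨T v, hW v hv⟩
  have h2 : t • v = T v := congrArg Subtype.val ht
  have h3 : (t * t + 1) • v = 0 := by
    rw [add_smul, mul_smul, h2, ← map_smul, h2, hT, one_smul, neg_add_cancel]
  exact hne ((smul_eq_zero.1 h3).resolve_left ((by decide : ∀ t : ZMod 3, ¬ t * t + 1 = 0) t))

/-- lifts of double transpositions have square `-1` -/
def Spin (ρ : Representation (ZMod 3) Y V) (ψ : Y →* Perm (Fin n)) : Prop :=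
  ∀ {m : ℕ} (f : Fin m ↪ Fin n) (a b c d : Fin m), a ≠ b ∧ a ≠ c ∧ a ≠ d ∧ b ≠ c ∧ b ≠ d ∧ c ≠ d →
    ∀ y, ψ y = embP f (swap a b * swap c d) → ∀ v, ρ y (ρ y v) = -v

omit [Finite V] in
theorem Fr.spin (F : Fr 3 K ρ ψ) (h : Nat.card ψ.ker = 2) : Spin ρ ψ := by
  obtain ⟨C, h1, h2⟩ := F.cover h
  rintro m f a b c d ⟨hab, hac, had, hbc, hbd, hcd⟩ y hy v
  rw [map_mul, embP_swap, embP_swap] at hy
  have hK : y ∈ K := F.mem_of_eq hy (mem_alternatingGroup.1 (dt_mem (f.injective.ne hab) (f.injective.ne hcd)))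
  have h3 := C.dbl _ _ _ _ (f.injective.ne hab) (f.injective.ne hac) (f.injective.ne had) (f.injective.ne hbc)
    (f.injective.ne hbd) (f.injective.ne hcd) ⟨y, hK⟩ ((h1 _).trans hy)
  rw [← rho_mul, show y * y = C.z from congrArg Subtype.val h3, h2]

/-- the step for an orbit of length three -/
theorem Spin.step (S : Spin ρ ψ) {b y : Y} {f : Fin 4 ↪ Fin n} (h : Tri ψ b f)
    (hy : ψ y = embP f (swap 0 1 * swap 2 3)) {W : Submodule (ZMod 3) V} (hW : W.map (ρ y) = W) :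
    finrank (ZMod 3) W ≤ 2 * codOn ρ W (Subgroup.zpowers b) := by
  have h1 : ψ (b * (y * b * y⁻¹)⁻¹) = embP f (swap 0 2 * swap 1 3) := by
    rw [show b * (y * b * y⁻¹)⁻¹ = b * y * b⁻¹ * y⁻¹ by group, map_mul, map_mul, map_mul, map_inv, map_inv, hy,
      h.conj, ← map_inv, ← map_mul]
    exact congrArg _ (by decide)
  have h2 := S f 0 2 1 3 (by decide) _ h1
  have h3 := codOn_sup_le (ρ := ρ) W (Subgroup.zpowers b) (Subgroup.zpowers (y * b * y⁻¹))
  have h4 := codOn_conj (ρ := ρ) y W (Subgroup.zpowers b)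
  rw [hW, ← zpowers_conj] at h4
  rw [codOn_of_inf_eq_bot, h4] at h3
  · omega
  · refine (Submodule.eq_bot_iff _).2 fun v hv => eq_zero_of_neg ?_
    have h5 := hv.2 _ (mul_mem (Subgroup.mem_sup_left (Subgroup.mem_zpowers b))
      (inv_mem (Subgroup.mem_sup_right (Subgroup.mem_zpowers (y * b * y⁻¹)))))
    rw [← h2, h5, h5]

variable [Finite Y]

/-- a subspace invariant under the lifts of the alternating group of five points -/
theorem Fr.four_le_finrank (F : Fr 3 K ρ ψ) (S : Spin ρ ψ) (f : Fin 5 ↪ Fin n) {W : Submodule (ZMod 3) V}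
    (hW : ∀ y σ, ψ y = embP f σ → ∀ v ∈ W, ρ y v ∈ W) (h0 : W ≠ ⊥) : 4 ≤ finrank (ZMod 3) W := by
  by_contra h
  have key : ∀ σ : Perm (Fin 5), sign σ = 1 → σ ^ 5 = 1 → ∃ w, ψ w = embP f σ ∧ ∀ v ∈ W, ρ w v = v := by
    intro σ h1 h2
    obtain ⟨x, -, hx⟩ := F.lift (embP f σ) (by rw [sign_embP, h1])
    obtain ⟨h3, h4⟩ := F.exists_five (x := x) (by rw [hx, ← map_pow, h2, map_one])
    refine ⟨x ^ 6, h4.trans hx, ?_⟩
    by_contra hc
    push Not at hc
    refine h ((four_le h3 ?_ hc).trans (codOn_le_finrank _ _))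
    rintro _ ⟨i, rfl⟩
    exact hW _ (σ ^ i) (by rw [map_zpow, map_zpow, h4, hx])
  obtain ⟨w1, a1, a2⟩ := key (finRotate 5) (by decide) (by decide)
  obtain ⟨w2, b1, b2⟩ := key ((finRotate 5)⁻¹ * (swap (0 : Fin 5) 2 * swap (1 : Fin 5) 3)) (by decide) (by decide +kernel)
  have h1 := S f 0 2 1 3 (by decide) (w1 * w2) (by rw [map_mul, a1, b1, ← map_mul, mul_inv_cancel_left])
  refine h0 ((Submodule.eq_bot_iff _).2 fun v hv => eq_zero_of_neg ?_)
  rw [← h1, rho_mul, rho_mul, b2 v hv, a2 v hv, b2 v hv, a2 v hv]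

/-- small dimension: elements of order three with five fixed points are quadratic -/
theorem Fr.quad (F : Fr 3 K ρ ψ) (S : Spin ρ ψ) (hD : finrank (ZMod 3) V ≤ 8) {c : Y} (hc : c ∈ K) (h3 : c ^ 3 = 1)
    (h1 : c ≠ 1) (f : Fin 5 ↪ Fin n) (hf : ∀ i, ψ c (f i) = f i) :
    finrank (ZMod 3) V = 8 ∧ finrank (ZMod 3) (fx ρ (Subgroup.zpowers c)) = 4 ∧
      ∀ v, (ρ c - 1) v ∈ fx ρ (Subgroup.zpowers c) := by
  have hP : IsPGroup 3 (Subgroup.zpowers c) := elemAb_isPGroup (elemAb_zpowers h3)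
  have hcm : ∀ y σ, ψ y = embP f σ → y * c = c * y := fun y σ hy => F.comm hc (by
    rw [hy]
    exact (sup_embP f σ (S := Set.range f) fun i => ⟨i, rfl⟩).comm (by rintro _ ⟨i, rfl⟩; exact hf i)) h3
  have hR : ∀ y, y * c = c * y → ∀ v ∈ LinearMap.range (ρ c - 1), ρ y v ∈ LinearMap.range (ρ c - 1) := by
    rintro y hy _ ⟨v, rfl⟩
    refine ⟨ρ y v, ?_⟩
    show ρ c (ρ y v) - ρ y v = ρ y (ρ c v - v)
    rw [map_sub, ← rho_mul, ← rho_mul, hy]
  have hne : LinearMap.range (ρ c - 1) ⊓ fx ρ (Subgroup.zpowers c) ≠ ⊥ := by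
    refine inf_fx_ne_bot hP ?_ fun e => h1 (F.faithful ?_)
    · rintro _ ⟨i, rfl⟩
      exact hR _ ((Commute.refl c).zpow_left i).eq
    · rw [map_one]
      exact sub_eq_zero.1 (LinearMap.range_eq_bot.1 e)
  have h4 := F.four_le_finrank S f (W := LinearMap.range (ρ c - 1) ⊓ fx ρ (Subgroup.zpowers c))
    (fun y σ hy v hv => ⟨hR y (hcm y σ hy) v hv.1,
    mem_fx_zpowers.2 (by rw [← rho_mul, ← hcm y σ hy, rho_mul, mem_fx_zpowers.1 hv.2])⟩) hne
  have h5 := Submodule.finrank_mono (inf_le_left : LinearMap.range (ρ c - 1) ⊓ fx ρ (Subgroup.zpowers c) ≤ _)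
  have h6 := Submodule.finrank_mono (inf_le_right : LinearMap.range (ρ c - 1) ⊓ fx ρ (Subgroup.zpowers c) ≤ _)
  have h7 := cod_add (ρ := ρ) (Subgroup.zpowers c)
  rw [cod_zpowers] at h7
  refine ⟨by omega, by omega, fun v => ?_⟩
  have h8 := Submodule.eq_of_le_of_finrank_le
    (inf_le_left : LinearMap.range (ρ c - 1) ⊓ fx ρ (Subgroup.zpowers c) ≤ _) (by omega)
  exact (h8.ge ⟨v, rfl⟩).2

omit [Finite V] in
/-- lifts of order three are unique -/
theorem Fr.eq_of_three (F : Fr 3 K ρ ψ) {a b : Y} (hb : b ∈ K) (h : ψ a = ψ b) (h1 : a ^ 3 = 1) (h2 : b ^ 3 = 1) :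
    a = b := by
  have h3 : Commute a b := F.comm hb (by rw [h]) h2
  exact mul_inv_eq_one.1 (F.eq_one' (by rw [h3.inv_right.mul_pow, h1, inv_pow, h2, inv_one, mul_one])
    (by rw [map_mul, map_inv, h, mul_inv_cancel]))

/-- the three 3-cycles -/
def t9 (i : Fin 3) : Perm (Fin 9) := ![c3 0 1 2, c3 3 4 5, c3 6 7 8] i

theorem t9_inj : Function.Injective fun x : Fin 3 × Fin 3 × Fin 3 => t9 0 ^ x.1.1 * t9 1 ^ x.2.1.1 * t9 2 ^ x.2.2.1 := by
  intro x y h
  have h0 := congrArg (fun σ : Perm (Fin 9) => (σ 0, σ 3, σ 6)) h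
  revert x y
  (set_option synthInstance.maxSize 9000 in open scoped Cfsg.Agent.Lib.FastPerm in decide +kernel)

/-- **the spin module of dimension eight** -/
theorem Fr.spin_eight (F : Fr 3 K ρ ψ) (hn : 9 ≤ n) (hk : Nat.card ψ.ker = 2) (hD : finrank (ZMod 3) V ≤ 8) :
    ∃ B, Off 3 ρ B ∧ Cub ρ B := by
  have S : Spin ρ ψ := F.spin hk
  let f : Fin 9 ↪ Fin n := Fin.castLEEmb hn
  have hc : ∀ i, ∃ c ∈ K, c ^ 3 = 1 ∧ ψ c = embP f (t9 i) := fun i => by
    obtain ⟨x, hx, e⟩ := F.lift (embP f (t9 i)) (by rw [sign_embP]; revert i; decide)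
    have h1 : ψ x ^ 3 = 1 := by rw [e, ← map_pow, (by decide +kernel : ∀ i, t9 i ^ 3 = 1) i, map_one]
    have h2 := Fr.pow_card h1
    rw [hk] at h2
    exact ⟨x ^ 4, pow_mem hx 4, by rw [← pow_mul, show 4 * 3 = 3 * 2 * 2 from rfl, pow_mul, h2, one_pow],
      by rw [map_pow, pow_succ, h1, one_mul, e]⟩
  choose c cK c3' cψ using hc
  have hcm : ∀ i j, c i * c j = c j * c i := fun i j => F.comm (cK j)
    (by rw [cψ, cψ, ← map_mul, ← map_mul]; exact congrArg _ (by revert i j; decide +kernel)) (c3' j)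
  have hq : ∀ i, finrank (ZMod 3) V = 8 ∧ finrank (ZMod 3) (fx ρ (Subgroup.zpowers (c i))) = 4 ∧
      ∀ v, (ρ (c i) - 1) v ∈ fx ρ (Subgroup.zpowers (c i)) := fun i => by
    obtain ⟨g, hg⟩ : ∃ g : Fin 5 ↪ Fin 9, ∀ j, t9 i (g j) = g j := by
      fin_cases i
      · exact ⟨⟨![3, 4, 5, 6, 7], by decide⟩, by decide⟩
      · exact ⟨⟨![0, 1, 2, 6, 7], by decide⟩, by decide⟩
      · exact ⟨⟨![0, 1, 2, 3, 4], by decide⟩, by decide⟩
    refine F.quad S hD (cK i) (c3' i) (fun e => ?_) (g.trans f) fun j => ?_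
    · exact embP_ne_one f ((by decide : ∀ i, t9 i ≠ 1) i) ((cψ i).symm.trans (by rw [e, map_one]))
    · rw [cψ, Function.Embedding.trans_apply, embP_apply, hg]
  set E := Subgroup.closure (Set.range c) with hE
  have hEa : IsElementaryAbelian 3 E := elemAb_gen (by rintro _ ⟨i, rfl⟩ _ ⟨j, rfl⟩; exact hcm i j)
    (by rintro _ ⟨i, rfl⟩; exact c3' i)
  have mE : ∀ i, c i ∈ E := fun i => Subgroup.subset_closure ⟨i, rfl⟩
  have hfx : ∀ v, v ∈ fx ρ E ↔ ∀ i, ρ (c i) v = v := fun v => by rw [hE, mem_fx_closure, Set.forall_mem_range]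
  -- the fixed space has dimension at least two
  have h2 : 2 ≤ finrank (ZMod 3) (fx ρ E) := by
    obtain ⟨y, hy, e⟩ := F.lift (embP f (swap 4 5 * swap 7 8)) (by rw [sign_embP]; decide)
    refine two_le_of_sq (S f 4 5 7 8 (by decide) y e) (fun v hv => (hfx _).2 fun i => ?_) fun h0 =>
      inf_fx_ne_bot (elemAb_isPGroup hEa) (inv_top E) (haveI := F.nontrivial; top_ne_bot)
        (by rw [h0, inf_bot_eq])
    have h1 : y⁻¹ * c i * y = c i ^ (if i = 0 then 1 else 2) := F.eq_of_three (pow_mem (cK i) _)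
      (by rw [map_mul, map_mul, map_inv, map_pow, e, cψ, ← map_inv, ← map_mul, ← map_mul, ← map_pow]
          exact congrArg _ (by revert i; decide +kernel))
      (by rw [show y⁻¹ * c i * y = y⁻¹ * c i * y⁻¹⁻¹ by rw [inv_inv], conj_pow, c3', mul_one, mul_inv_cancel])
      (by rw [← pow_mul, mul_comm, pow_mul, c3', one_pow])
    rw [← rho_mul, show c i * y = y * (y⁻¹ * c i * y) by group, rho_mul, h1, hv _ (pow_mem (mE i) _)]
  -- two fixed spaces meet in dimension at most two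
  have h3 : finrank (ZMod 3) ↥(fx ρ (Subgroup.zpowers (c 0)) ⊓ fx ρ (Subgroup.zpowers (c 1))) ≤ 2 := by
    let g : Fin 4 ↪ Fin 9 := ⟨![3, 4, 5, 6], by decide⟩
    obtain ⟨y, hy, e⟩ := F.lift (embP (g.trans f) (swap 0 1 * swap 2 3)) (by rw [sign_embP]; decide)
    have h4 : y * c 0 = c 0 * y := F.comm (cK 0) (by
      rw [e]
      refine (sup_embP _ _ (S := Set.range (g.trans f)) fun i => ⟨i, rfl⟩).comm ?_
      rintro _ ⟨i, rfl⟩
      rw [cψ, Function.Embedding.trans_apply, embP_apply]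
      exact congrArg _ (by revert i; decide)) (c3' 0)
    have h5 := S.step (b := c 1) (f := g.trans f) (fun i => by
      rw [cψ, Function.Embedding.trans_apply, Function.Embedding.trans_apply, embP_apply]
      exact congrArg _ (by revert i; decide)) e (W := fx ρ (Subgroup.zpowers (c 0))) (map_fx_of_comm (by
        rintro _ ⟨i, rfl⟩
        exact (Commute.zpow_left h4.symm i).eq))
    have h6 := codOn_add (ρ := ρ) (fx ρ (Subgroup.zpowers (c 0))) (Subgroup.zpowers (c 1))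
    have h7 := (hq 0).2.1
    omega
  have h4 : fx ρ E = fx ρ (Subgroup.zpowers (c 0)) ⊓ fx ρ (Subgroup.zpowers (c 1)) :=
    Submodule.eq_of_le_of_finrank_le (le_inf (fx_anti (Subgroup.zpowers_le.2 (mE 0)))
      (fx_anti (Subgroup.zpowers_le.2 (mE 1)))) (by omega)
  have hsq : ∀ i, (ρ (c i) - 1) * (ρ (c i) - 1) = 0 := fun i => LinearMap.ext fun v =>
    sub_eq_zero.2 (mem_fx_zpowers.1 ((hq i).2.2 v))
  have hu : ∀ i j, (ρ (c i) - 1) * (ρ (c j) - 1) = (ρ (c j) - 1) * (ρ (c i) - 1) := fun i j =>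
    LinearMap.ext (sub_one_comm (hcm i j))
  have htr : (ρ (c 2) - 1) * ((ρ (c 1) - 1) * (ρ (c 0) - 1)) = 0 := LinearMap.ext fun v => by
    have h5 : (ρ (c 1) - 1) ((ρ (c 0) - 1) v) ∈ fx ρ E := by
      rw [h4]
      exact ⟨sub_one_comm (ρ := ρ) (hcm 0 1) v ▸ (hq 0).2.2 _, (hq 1).2.2 _⟩
    exact sub_eq_zero.2 (h5 _ (mE 2))
  have hcard : 27 ≤ Nat.card E := by
    have := Nat.card_le_card_of_injective (fun x : Fin 3 × Fin 3 × Fin 3 =>
      (⟨c 0 ^ x.1.1 * c 1 ^ x.2.1.1 * c 2 ^ x.2.2.1,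
        mul_mem (mul_mem (pow_mem (mE 0) _) (pow_mem (mE 1) _)) (pow_mem (mE 2) _)⟩ : E)) fun x y h => by
      apply t9_inj
      have h5 := congrArg (fun a : E => ψ a) h
      simp only [map_mul, map_pow, cψ] at h5
      simp only [← map_pow, ← map_mul] at h5
      by_contra h6
      exact embP_ne_one f (fun e => h6 (mul_inv_eq_one.1 e)) (by rw [map_mul, map_inv, h5, mul_inv_cancel])
    simpa only [_root_.ge_iff_le, _root_.Nat.card_eq_fintype_card, _root_.Fintype.card_prod, _root_.Fintype.card_fin, _root_.Nat.reduceMul] using this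
  refine ⟨E, ⟨hEa, fun e => ?_, ?_⟩, cub_gen (fun a ha b hb => elemAb_comm hEa ha hb) ?_⟩
  · rw [e, Subgroup.card_bot] at hcard
    omega
  · have h5 := cod_add (ρ := ρ) E
    have h6 := (hq 0).1
    calc 3 ^ cod ρ E ≤ 3 ^ 6 := Nat.pow_le_pow_right (by norm_num) (by omega)
      _ = 27 ^ 2 := by norm_num
      _ ≤ _ := Nat.pow_le_pow_left hcard 2
  · have h5 : ∀ i, ρ (c i) - 1 = ρ (c 2) - 1 ∨ ρ (c i) - 1 = ρ (c 1) - 1 ∨ ρ (c i) - 1 = ρ (c 0) - 1 := fun i => by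
      fin_cases i
      · exact Or.inr (Or.inr rfl)
      · exact Or.inr (Or.inl rfl)
      · exact Or.inl rfl
    rintro _ ⟨i, rfl⟩ _ ⟨j, rfl⟩ _ ⟨l, rfl⟩
    exact triple_zero (hu 1 2) (hu 0 2) (hu 0 1) (hsq 2) (hsq 1) (hsq 0) htr (h5 i) (h5 j) (h5 l)

/-- **the deepest step** -/
theorem Fr.deep (F : Fr 3 K ρ ψ) (hn : 9 ≤ n) (hno : ¬ ∃ B, Off 3 ρ B ∧ Cub ρ B) {b : Y} {f : Fin 4 ↪ Fin n}
    (h : Tri ψ b f) : 5 ≤ cod ρ (Subgroup.zpowers b) := by
  by_contra hc
  have h1 := F.two (by omega)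
  have h2 : 0 < Nat.card ψ.ker := Nat.card_pos
  by_cases h3 : Nat.card ψ.ker = 1
  · exact hno (F.deep_one hn (Fr.inj_of_card h3) h (by omega))
  have h4 : Nat.card ψ.ker = 2 := by omega
  obtain ⟨y, -, e⟩ := F.lift (embP f (swap 0 1 * swap 2 3)) (by rw [sign_embP]; decide)
  have h5 := Spin.step (F.spin h4) h e (W := ⊤) ((inv_top ⊤).map_eq (Subgroup.mem_top y))
  rw [codOn_top, finrank_top] at h5
  exact hno (F.spin_eight hn h4 (by omega))

end Cfsg.Agent.TwoF.Alt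
end

-- part: TwoF/Alt/Odd
section
/-!
# Alternating groups, odd characteristic: the row (helper10)

`row_odd`: both goals for `A_n`, `n ≥ 5`, `p` odd.
-/

set_option autoImplicit false

namespace Cfsg.Agent.TwoF.Alt

open Module Equiv Equiv.Perm Gen H189 H189.Cyc H189.Emb

theorem lin_le_pow {a b c j₀ : ℕ} (h0 : a * j₀ + b ≤ c ^ j₀) (h1 : a ≤ 2 * c ^ j₀) (hc : 3 ≤ c) {p j : ℕ} (hp : c ≤ p)
    (hj : j₀ ≤ j) : a * j + b ≤ p ^ j := by
  refine le_trans ?_ (Nat.pow_le_pow_left hp j)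
  induction j, hj using Nat.le_induction with
  | base => exact h0
  | succ j hj ih =>
    have h2 : c ^ j₀ ≤ c ^ j := Nat.pow_le_pow_right (by omega) hj
    have h3 : 3 * c ^ j ≤ c ^ (j + 1) := by rw [pow_succ, mul_comm]; exact Nat.mul_le_mul_left _ hc
    rw [mul_add, mul_one]
    omega

theorem odd_cases {p : ℕ} [Fact p.Prime] (hp : p ≠ 2) : p = 3 ∨ 5 ≤ p := by
  have h7 := (Fact.out : p.Prime).two_le
  have h8 := (Fact.out : p.Prime).odd_of_ne_two hp
  have h9 : p ≠ 4 := fun e => by rw [e] at h8; exact absurd h8 (by decide)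
  omega

variable {p : ℕ} [Fact p.Prime] {Y : Type} [Group Y] [Finite Y] {V : Type} [AddCommGroup V] [Module (ZMod p) V]
  [Finite V] {K : Subgroup Y} {ρ : Representation (ZMod p) Y V} {n : ℕ} {ψ : Y →* Perm (Fin n)}

omit [Finite Y] in
theorem cod_chain (B : Subgroup Y) (u : Fin n) : cod ρ B = cod ρ (stb ψ B u) + codOn ρ (fx ρ (stb ψ B u)) B := by
  rw [← cod_sup_eq, sup_eq_right.2 (stb_le B u)]

omit [Finite V] in
theorem Fr.exists_orb (F : Fr p K ρ ψ) {B : Subgroup Y} (hB : IsElementaryAbelian p B) (h : B ≠ ⊥) :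
    ∃ u, 2 ≤ (orb ψ B u).card := by
  by_contra hc
  push Not at hc
  refine h ((Subgroup.eq_bot_iff_forall _).2 fun b hb => F.eq_one' (hB.2 b hb) (Equiv.ext fun u => ?_))
  exact mem_fix.1 (mem_fix_of_card (Nat.le_of_lt_succ (hc u))) b hb

/-- the deepest step in terms of orbits -/
theorem Fr.deep_orb {V : Type} [AddCommGroup V] [Module (ZMod 3) V] [Finite V] {ρ : Representation (ZMod 3) Y V}
    (F : Fr 3 K ρ ψ) (hn : 9 ≤ n) (hno : ¬ ∃ B, Off 3 ρ B ∧ Cub ρ B) {B : Subgroup Y} (hB : IsElementaryAbelian 3 B)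
    {u : Fin n} (hu : 2 ≤ (orb ψ B u).card) (hf : 1 ≤ (fix ψ B).card) : 5 ≤ cod ρ B := by
  obtain ⟨b, hb, b1, b2, b3⟩ := Fr.exists_moves (ψ := ψ) hB u hu
  obtain ⟨w, hw⟩ := Finset.card_pos.1 hf
  have m0 := self_mem_orb (ψ := ψ) B u
  have e3 : ψ b (ψ b (ψ b u)) = u := by
    have := congrArg (fun σ : Perm (Fin n) => σ u) b1
    simpa only [pow_succ, _root_.pow_zero, _root_.one_mul, _root_.Equiv.Perm.coe_mul, _root_.Function.comp_apply, _root_.Equiv.Perm.coe_one, _root_.id_eq] using this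
  have n1 := b3 u m0
  have n2 := b3 _ (b2 u m0)
  have n3 : ψ b (ψ b u) ≠ u := fun e => n1 (by rwa [e] at e3)
  have w0 : w ≠ u := fun e => not_mem_fix hu m0 (e ▸ hw)
  have w1 : w ≠ ψ b u := fun e => not_mem_fix hu (b2 u m0) (e ▸ hw)
  have w2 : w ≠ ψ b (ψ b u) := fun e => not_mem_fix hu (b2 _ (b2 u m0)) (e ▸ hw)
  refine (F.deep hn hno (b := b) (f := ⟨![u, ψ b u, ψ b (ψ b u), w],
    AltTwo.inj4 n1.symm n3.symm w0.symm n2.symm w1.symm w2.symm⟩) fun i => ?_).trans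
    (cod_mono (Subgroup.zpowers_le.2 hb))
  fin_cases i
  · rfl
  · rfl
  · exact e3
  · exact mem_fix.1 hw b hb

/-- **subgroups with many fixed points** -/
theorem Fr.mid (F : Fr p K ρ ψ) (hp : p ≠ 2) (hn : 9 ≤ n) (hno : ¬ ∃ B, Off p ρ B ∧ Cub ρ B) (r : ℕ) :
    ∀ B : Subgroup Y, IsElementaryAbelian p B → Nat.card B = p ^ r → 0 < r →
      (∀ u, (orb ψ B u).card ≤ (fix ψ B).card) → 2 * r + (small p + 1) ≤ cod ρ B := by
  induction r using Nat.strong_induction_on with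
  | _ r ih =>
    intro B hB hc hr hO
    have hp1 := (Fact.out : p.Prime).one_lt
    obtain ⟨u, hu⟩ := F.exists_orb hB fun e => by
      rw [e, Subgroup.card_bot] at hc
      exact absurd hc.symm (Nat.one_lt_pow hr.ne' hp1).ne'
    obtain ⟨j, hj, h1, h2⟩ := card_orb_pow (ψ := ψ) Fact.out hc u
    have hj0 : 0 < j := Nat.pos_of_ne_zero fun e => by rw [e, pow_zero] at h1; omega
    have h3 := F.alpha hB (F.le_K hp hB) u hp (h1 ▸ dvd_pow_self p hj0.ne') ((Nat.sub_le _ _).trans (hO u))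
    have h4 := cod_chain (ρ := ρ) (ψ := ψ) B u
    rw [h1] at h3
    by_cases hjr : j = r
    · rcases odd_cases hp with rfl | h5
      · rw [small_three]
        by_cases hj1 : j = 1
        · have := F.deep_orb hn hno hB hu (by have := hO u; omega)
          omega
        · have := lin_le_pow (a := 2) (b := 4) (c := 3) (j₀ := 2) (by norm_num) (by norm_num) le_rfl le_rfl
            (show 2 ≤ j by omega)
          omega
      · rw [small_of_ne hp (by omega)]
        have := lin_le_pow (a := 2) (b := 3) (c := 5) (j₀ := 1) (by norm_num) (by norm_num) (by norm_num) h5 hj0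
        omega
    · have h5 := ih (r - j) (by omega) _ (elemAb_of_le hB (stb_le B u)) h2 (by omega) fun x =>
        (Finset.card_le_card (orb_mono (stb_le B u) x)).trans ((hO x).trans
          (Finset.card_le_card (fix_anti (stb_le B u))))
      have := lin_le_pow (a := 2) (b := 1) (c := 3) (j₀ := 1) (by norm_num) (by norm_num) le_rfl
        (show 3 ≤ p by rcases odd_cases hp with h | h <;> omega) hj0
      omega

/-- **the goal of S3088 in degree at least nine** -/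
theorem Fr.g88_odd (F : Fr p K ρ ψ) (hp : p ≠ 2) (hn : 9 ≤ n) : G88 p ρ := by
  intro A hA
  by_contra hno
  have hp1 := (Fact.out : p.Prime).one_lt
  have hp3 : 3 ≤ p := by rcases odd_cases hp with h | h <;> omega
  obtain ⟨r, hr, hc, hcod⟩ := hA.exists_card
  have hr' : small p + 1 ≤ r :=
    (Nat.pow_dvd_pow_iff_le_right hp1).1 (hc ▸ hA.pow_dvd_of_not_cub fun h => hno ⟨A, hA, h⟩)
  have hs := one_le_small p
  obtain ⟨u₀, hu₀⟩ := F.exists_orb hA.1 hA.2.1
  obtain ⟨u, -, hu⟩ := Finset.exists_max_image Finset.univ (fun x => (orb ψ A x).card) ⟨u₀, Finset.mem_univ _⟩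
  have hu2 : 2 ≤ (orb ψ A u).card := hu₀.trans (hu u₀ (Finset.mem_univ _))
  obtain ⟨j, hj, h1, h2⟩ := card_orb_pow (ψ := ψ) Fact.out hc u
  have hj0 : 0 < j := Nat.pos_of_ne_zero fun e => by rw [e, pow_zero] at h1; omega
  have h4 := cod_chain (ρ := ρ) (ψ := ψ) A u
  have hK := F.le_K hp hA.1
  have hb : 2 ≤ j → p ^ j - 2 ≤ 3 * codOn ρ (fx ρ (stb ψ A u)) A := fun h => by
    rw [← h1]
    refine F.beta hA.1 hK u hp ?_
    have := lin_le_pow (a := 0) (b := 9) (c := 3) (j₀ := 2) (by norm_num) (by norm_num) le_rfl hp3 h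
    omega
  by_cases hjr : j = r
  · have h5 := hb (by omega)
    rcases odd_cases hp with rfl | h6
    · rw [small_three] at hr'
      have := lin_le_pow (a := 6) (b := 3) (c := 3) (j₀ := 3) (by norm_num) (by norm_num) le_rfl le_rfl
        (show 3 ≤ j by omega)
      omega
    · have := lin_le_pow (a := 6) (b := 3) (c := 5) (j₀ := 2) (by norm_num) (by norm_num) (by norm_num) h6
        (show 2 ≤ j by omega)
      omega
  have h5 := F.mid hp hn hno (r - j) _ (elemAb_of_le hA.1 (stb_le A u)) h2 (by omega) fun x =>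
    (Finset.card_le_card (orb_mono (stb_le A u) x)).trans ((hu x (Finset.mem_univ _)).trans
      (Finset.card_le_card (orb_subset_fix (fun a ha b hb => elemAb_comm hA.1 ha hb) u)))
  by_cases hj1 : j = 1
  · rcases odd_cases hp with rfl | h6
    · rw [small_three] at h5
      omega
    · have := F.beta_one hA.1 hK u h6 hu2
      omega
  · have h6 := hb (by omega)
    rcases odd_cases hp with rfl | h7
    · rw [small_three] at h5
      have := lin_le_pow (a := 4) (b := 1) (c := 3) (j₀ := 2) (by norm_num) (by norm_num) le_rfl le_rfl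
        (show 2 ≤ j by (clear * - hcod h4 h5; omega))
      by_cases hj2 : j = 2
      · omega
      · have := lin_le_pow (a := 6) (b := 3) (c := 3) (j₀ := 3) (by norm_num) (by norm_num) le_rfl le_rfl
          (show 3 ≤ j by omega)
        omega
    · have := lin_le_pow (a := 6) (b := 3) (c := 5) (j₀ := 2) (by norm_num) (by norm_num) (by norm_num) h7
        (show 2 ≤ j by omega)
      omega

theorem row89_odd (p : ℕ) [Fact p.Prime] (hp : p ≠ 2) (n : ℕ) (hn : 5 ≤ n) : Row89 p (alternatingGroup (Fin n)) :=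
  row89_of_sit fun _ _ _ _ _ _ _ _ _ _ φ H A hA _ _ _ hK => (hK fun a ha => by
    obtain ⟨x, hx⟩ := H570.AltBad.conj_of_odd hn ((Fact.out : p.Prime).odd_of_ne_two hp)
      (show φ a ^ p = 1 by rw [← map_pow, hA.1.2 a ha, map_one])
    exact H.mem_inn_iff.1 ⟨x, hx.symm⟩).elim

theorem row88_small (p : ℕ) [Fact p.Prime] (hp : p ≠ 2) (n : ℕ) (hn : 5 ≤ n) (h8 : n ≤ 8) :
    Row88 p (alternatingGroup (Fin n)) := row88_of_rank fun E hE => by
  have h1 : E ≤ Inn (alternatingGroup (Fin n)) := fun a ha => by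
    obtain ⟨x, hx⟩ := H570.AltBad.conj_of_odd hn ((Fact.out : p.Prime).odd_of_ne_two hp) (hE.2 a ha)
    exact ⟨x, hx.symm⟩
  have h2 : Nat.card E ∣ Nat.factorial 8 :=
    (Subgroup.card_dvd_of_le h1).trans ((Subgroup.card_range_dvd _).trans
      ((Dvd.intro_left 2 (H138.HT.card_alt n (by omega))).trans (Nat.factorial_dvd_factorial h8)))
  haveI : Finite E := Nat.finite_of_card_ne_zero fun e => by
    rw [e] at h2
    exact absurd h2 (by decide)
  obtain ⟨r, hr⟩ := (elemAb_isPGroup hE).exists_card_eq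
  rw [hr] at h2 ⊢
  refine Nat.pow_le_pow_right (Fact.out : p.Prime).pos (not_lt.1 fun h => ?_)
  have h3 := (pow_dvd_pow p h).trans h2
  rcases odd_cases hp with rfl | h5
  · rw [small_three] at h3
    exact absurd h3 (by decide)
  · have h6 : p ≤ 8 := ((Fact.out : p.Prime).dvd_factorial).1 ((dvd_pow_self p (Nat.succ_ne_zero _)).trans h3)
    rw [small_of_ne hp (by omega)] at h3
    have h7 : p.Prime := Fact.out
    interval_cases p
    · exact absurd h3 (by decide)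
    · exact absurd h7 (by decide)
    · exact absurd h3 (by decide)
    · exact absurd h7 (by decide)

/-- **the row of `A_n` in odd characteristic** -/
theorem row_odd (p : ℕ) [Fact p.Prime] (hp : p ≠ 2) (n : ℕ) (hn : 5 ≤ n) : Row p (alternatingGroup (Fin n)) := by
  refine ⟨?_, row89_odd p hp n hn⟩
  by_cases h8 : n ≤ 8
  · exact row88_small p hp n hn h8
  · exact row88_of_fr (by omega) fun _ _ _ _ _ _ _ _ _ _ F => F.g88_odd hp (by omega)

end Cfsg.Agent.TwoF.Alt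
end

private theorem dce_017eb121920e : _root_.True := by
  try have : _root_.True := by simp only [_root_.Cfsg.Agent.TwoF.Alt.Lf.eq_1]
  try have : _root_.True := by simp only [_root_.Cfsg.Agent.H189.AltTwo.P3.eq_1]
  try have : _root_.True := by simp only [_root_.Cfsg.Agent.H189.FeitTits.bd.eq_1]
  try have : _root_.True := by simp only [_root_.Cfsg.Agent.TwoF.Alt.s5.eq_1]
  exact _root_.True.intro
end

-- part: TwoF/XE/G23A
section
prune_inst 0x434307124152200000018059261003c46fe000192006b8001c9600f460ec2ff4320430f61fcf01f12013aa6e4603b8068111000190210000020008600411d00a084abf6e6827cbd0c350007c07806400000000000000000000000000000041004000000000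
set_option linter.all false
open scoped Cfsg.Agent.FastGrp

/-!
# TwoF / XE : subgroups that share an element (helper98)

`cod_share` : two subgroups that cover the same inner automorphism.  `lo_two`, `lo_three` : a group and its conjugates
under centralisers.  `lo_inn` : the subgroups that cover `Inn S`.
-/

set_option autoImplicit false

namespace Cfsg.Agent.TwoF.XE.G23

open Module Gen Subgroup
open scoped commutatorElement

variable {p : ℕ} [Fact p.Prime] {S : Type} [Group S]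

/-- the conjugate of a group of automorphisms under an element -/
abbrev cj (E : Subgroup (MulAut S)) (g : S) : Subgroup (MulAut S) := E.map (MulAut.conj (MulAut.conj g)).toMonoidHom

theorem mem_cj {E : Subgroup (MulAut S)} (g : S) {x : S} (h : MulAut.conj x ∈ E) :
    MulAut.conj (g * x * g⁻¹) ∈ cj E g := ⟨_, h, by rw [map_mul, map_mul, map_inv]; rfl⟩

theorem comm_cj {E : Subgroup (MulAut S)} (g : S) {α : MulAut S} (h : α ∈ E) :
    MulAut.conj (α g * g⁻¹) ∈ E ⊔ cj E g := by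
  have h1 : MulAut.conj g * α⁻¹ * (MulAut.conj g)⁻¹ ∈ cj E g := ⟨_, inv_mem h, rfl⟩
  have h2 := mul_mem (mem_sup_left h : α ∈ E ⊔ cj E g) (mem_sup_right h1)
  rw [map_mul, map_inv, conj_apply]
  simpa only [mul_assoc] using h2

section

variable {Y : Type} [Group Y] [Finite Y] {V : Type} [AddCommGroup V] [Module (ZMod p) V] [Finite V]
  {K : Subgroup Y} {ρ : Representation (ZMod p) Y V} {π : K →* S} {φ : Y →* MulAut S}

theorem cod_share {z m n : ℕ} (hz : Zc p S z) (H : Sit p K ρ π φ) (hc : m.Coprime z) {x : S} (hx : x ^ m = 1)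
    (h : Li p x n) {D D' : Subgroup Y} (h1 : MulAut.conj x ∈ D.map φ) (h2 : MulAut.conj x ∈ D'.map φ) :
    cod ρ (D ⊔ D') + n ≤ cod ρ D + cod ρ D' := by
  obtain ⟨y, hy, e⟩ := h1
  obtain ⟨y', hy', e'⟩ := h2
  obtain ⟨u, hu, a1, a2⟩ := hz.exists_lift H hc (y := y) (by rw [e, ← map_pow, hx, map_one])
  obtain ⟨u', hu', b1, b2⟩ := hz.exists_lift H hc (y := y') (by rw [e', ← map_pow, hx, map_one])
  obtain rfl : u = u' := hz.lift_unique H hc ⟨x, (a1.trans e).symm⟩ (by rw [a1, b1, e, e']) a2 b2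
  have h3 := h.elt H (a1.trans e)
  have h4 := XL.cod_le_of_mem (ρ := ρ) (mem_inf.2 ⟨zpowers_le.2 hy hu, zpowers_le.2 hy' hu'⟩)
  have h5 := cod_sup_add_inf (ρ := ρ) D D'
  omega

omit [Finite Y] [Finite V] in
theorem exists_cj (H : Sit p K ρ π φ) {E : Subgroup (MulAut S)} {D : Subgroup Y} (h : E ≤ D.map φ) (g : S) :
    ∃ D' : Subgroup Y, cod ρ D' = cod ρ D ∧ cj E g ≤ D'.map φ := by
  obtain ⟨u, rfl⟩ := H.surj g
  refine ⟨_, cod_conj (u : Y) D, ?_⟩
  rintro _ ⟨a, ha, rfl⟩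
  obtain ⟨y, hy, rfl⟩ := h ha
  refine ⟨_, ⟨y, hy, rfl⟩, ?_⟩
  show φ (u * y * (u : Y)⁻¹) = MulAut.conj (π u) * φ y * (MulAut.conj (π u))⁻¹
  rw [map_mul, map_mul, map_inv, H.toFrm.φ_coe]

end

variable {E : Subgroup (MulAut S)} {z m n N c : ℕ} {x x' g g' : S}

theorem lo_two (hz : Zc p S z) (hc : m.Coprime z) (hx : x ^ m = 1) (h : Li p x n) (hE : MulAut.conj x ∈ E)
    (hg : g * x * g⁻¹ = x) (hF : Lo p (E ⊔ cj E g) N) (hlt : 2 * (c - 1) < N + n) : Lo p E c :=
  fun Y _ _ V _ _ _ K ρ π φ H D hD => by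
    obtain ⟨D', e, h1⟩ := exists_cj H hD g
    have h2 := cod_share hz H hc hx h (hD hE) (h1 (hg ▸ mem_cj g hE))
    have h3 := hF Y V K ρ π φ H (D ⊔ D') (by rw [Subgroup.map_sup]; exact sup_le_sup hD h1)
    omega

theorem lo_three (hz : Zc p S z) (hc : m.Coprime z) (hx : x ^ m = 1) (h : Li p x n) (hE : MulAut.conj x ∈ E)
    (hg : g * x * g⁻¹ = x) (hx' : x' ^ m = 1) (h' : Li p x' n) (hE' : MulAut.conj x' ∈ E) (hg' : g' * x' * g'⁻¹ = x')
    (hF : Lo p (E ⊔ cj E g ⊔ cj E g') N) (hlt : 3 * (c - 1) < N + 2 * n) : Lo p E c :=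
  fun Y _ _ V _ _ _ K ρ π φ H D hD => by
    obtain ⟨D', e, h1⟩ := exists_cj H hD g
    obtain ⟨D'', e', h1'⟩ := exists_cj H hD g'
    have h2 := cod_share hz H hc hx h (hD hE) (h1 (hg ▸ mem_cj g hE))
    have h2' := cod_share hz H hc hx' h' (map_mono (le_sup_left : D ≤ D ⊔ D') (hD hE')) (h1' (hg' ▸ mem_cj g' hE'))
    have h3 := hF Y V K ρ π φ H (D ⊔ D' ⊔ D'') (by
      rw [Subgroup.map_sup, Subgroup.map_sup]; exact sup_le_sup (sup_le_sup hD h1) h1')
    omega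

theorem lo_inn (h : LB p S n) : Lo p (Inn S) n := fun Y _ _ V _ _ _ K ρ π φ H D hD => by
  have h1 : ∀ k ∈ K, ∃ a ∈ D, a ∈ K ∧ ∃ c ∈ centralizer (K : Set Y), k = a * c := fun k hk => by
    obtain ⟨a, ha, e⟩ := hD (H.toFrm.mem_inn_iff.2 hk)
    exact ⟨a, ha, H.toFrm.mem_inn_iff.1 (e ▸ H.toFrm.mem_inn_iff.2 hk), a⁻¹ * k,
      H.toFrm.φ_eq_one_iff.1 (by rw [map_mul, map_inv, e, inv_mul_cancel]), by group⟩
  have h2 : K ≤ D := by
    rw [← isPerfect_iff.1 H.toStp.perfect, commutator_le]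
    intro k hk k' hk'
    obtain ⟨a, ha, ha', c, hc, rfl⟩ := h1 k hk
    obtain ⟨b, hb, hb', d, hd, rfl⟩ := h1 k' hk'
    have e1 : c * (b * d) * c⁻¹ = b * d := by rw [← hc _ hk', mul_inv_cancel_right]
    have e2 : d * a⁻¹ * d⁻¹ = a⁻¹ := by rw [← hd _ (inv_mem ha'), mul_inv_cancel_right]
    rw [show ⁅a * c, b * d⁆ = a * (c * (b * d) * c⁻¹) * a⁻¹ * (b * d)⁻¹ by rw [commutatorElement_def]; group, e1,
      show a * (b * d) * a⁻¹ * (b * d)⁻¹ = a * b * (d * a⁻¹ * d⁻¹) * b⁻¹ by group, e2]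
    exact mul_mem (mul_mem (mul_mem ha hb) (inv_mem ha)) (inv_mem hb)
  rw [H.toStp.cod_of_le h2]
  exact h.le H

end Cfsg.Agent.TwoF.XE.G23
end

-- part: TwoF/XE/G23
section
prune_inst 0x414305120052200000000059271003c66de000192002b8001d9600b460e86ff4300020f60fc901b1001ea22a44039c028131000590200000020008600411d00a084abf2c6827cac04340007c0f887500000000000000000000000000000041004000000000
set_option linter.all false
open scoped Cfsg.Agent.FastGrp

/-!
# TwoF / XE : the row of `G₂(3)` (helper98)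

For `p = 2`: an involution inverts an element of order 13, so `c ≥ 6`.  The outer involutions of a Sylow 2-subgroup of
`Aut S` form the coset `B γ₁`; the group `A = ⟨B, γ₁⟩` of order 16 and two conjugates that share involutions with it
generate a group containing `Inn S`, so `c(A) ≥ 9`.
-/

set_option autoImplicit false
set_option maxRecDepth 100000

namespace Cfsg.Agent.TwoF.XE.G23

open Subgroup Gen Cfsg.Lie Cfsg.Agent.GTwoThree.Model Cfsg.Agent.H96.Rad2 Cfsg.Agent.H96.Rad2.G23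
open Cfsg.Agent.OddHalf.Small.G23Data Cfsg.Agent.OddHalf.Small.G23Check Cfsg.Agent.OddHalf.Small.G23

attribute [local irreducible] Cfsg.Agent.GTwoThree.Model.ev Cfsg.Agent.GTwoThree.Model.y b γ1 dotProduct

theorem finite_Gp : Finite ↥Gp := Nat.finite_of_card_ne_zero (by rw [card_G]; norm_num)

theorem card_A : Nat.card (MulAut ↥Gp) = 2 ^ 7 * 66339 := by
  have := finite_Gp
  rw [card_aut center_Gp, card_G, card_out]
  norm_num

theorem zc : Zc 2 ↥Gp 3 := zc_of_cyclic (S2101.result (F := ZMod 3) rfl)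

theorem lo_top : Lo 2 (Inn ↥Gp) 14 := by
  have := finite_Gp
  have : Nontrivial ↥Gp := Finite.one_lt_card_iff_nontrivial.1 (by rw [card_G]; norm_num)
  exact lo_inn (lb_of_ls H95.LSx.G23.ls_zmod Nat.prime_three (by norm_num))

theorem li_inv {t : ↥Gp} (h1 : t ≠ 1) (h2 : t ^ 2 = 1) : Li 2 t 6 := by
  obtain ⟨c, hc⟩ := OddHalf.Small.G23.exists_conj (orderOf_eq_prime h2 h1)
  have h3 : Li 2 (ev y uZ) 12 := Li.of_prime center_Gp (s := 13) (by norm_num) (by norm_num)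
    (fun e => by have := order_z; rw [e, orderOf_one] at this; omega) (order_z ▸ pow_orderOf_eq_one _)
    fun d _ _ => by interval_cases d <;> norm_num
  rw [eq_uZ] at h3
  have h4 : Li 2 (ev y wz) 6 := Le.comm _ h3 (by norm_num)
  exact Li.of_isConj (x := z) h4 (isConj_iff.2 ⟨c, hc⟩).symm

theorem li_b {i : ℕ} (hi : i < 8) (h : i ≠ 0) : Li 2 (b i) 6 := li_inv (b_ne hi h) (b_sq hi)

theorem le_out {i : ℕ} (hi : i < 8) : Le 2 (MulAut.conj (b i) * γ1) 3 := by
  obtain ⟨g, h1, h2⟩ := exists_comm hi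
  exact Le.comm g (li_inv h1 h2) (by norm_num)

variable {E : Subgroup (MulAut ↥Gp)}

theorem lo_nine {a : ℕ} (ha : a < 8) (h1 : MulAut.conj (b a) * γ1 ∈ E) (h2 : ∀ k < 8, MulAut.conj (b k) ∈ E) :
    Lo 2 E 9 := by
  have h3 : γ1 ∈ E := (mul_mem_cancel_left (h2 a ha)).1 h1
  obtain ⟨g, g', e1, e2, h⟩ := exists_gen
  refine lo_three zc (by norm_num) (b_sq (by norm_num)) (li_b (by norm_num) one_ne_zero) (h2 1 (by norm_num)) e1
    (b_sq (by norm_num)) (li_b (by norm_num) (by norm_num)) (h2 6 (by norm_num)) e2 (lo_top.mono ?_) (by norm_num)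
  have h4 := h ((E ⊔ cj E g ⊔ cj E g').comap MulAut.conj) (fun k hk => mem_sup_left (mem_sup_left (h2 k hk)))
    (fun k hk => mem_sup_left (mem_sup_right (mem_cj g (h2 k hk)))) (fun k hk => mem_sup_right (mem_cj g' (h2 k hk)))
    (mem_sup_left (comm_cj g h3))
    ((sup_le_sup_right le_sup_left _ : E ⊔ cj E g' ≤ E ⊔ cj E g ⊔ cj E g') (comm_cj g' h3))
  rintro _ ⟨x, rfl⟩
  exact h4.ge (mem_top x)

theorem mem_xor {i j : ℕ} (hi : i < 8) (hj : j < 8) (h1 : MulAut.conj (b i) ∈ E) (h2 : MulAut.conj (b j) ∈ E) :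
    MulAut.conj (b (i ^^^ j)) ∈ E := by
  rw [← b_mul hi hj, map_mul]
  exact mul_mem h1 h2

theorem lo_seven {a i j : ℕ} (ha : a < 8) (h1 : MulAut.conj (b a) * γ1 ∈ E) (hi : i < 8) (hj : j < 8) (hi0 : i ≠ 0)
    (hj0 : j ≠ 0) (hij : i ≠ j) (h2 : MulAut.conj (b i) ∈ E) (h3 : MulAut.conj (b j) ∈ E) : Lo 2 E 7 := by
  refine lo_two zc (by norm_num) (b_sq hi) (li_b hi hi0) h2 ((nw_conj hi hi).trans (congrArg b (pm_lt i hi).1))
    (lo_nine ha (mem_sup_left h1) fun k hk => ?_) (by norm_num)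
  have h4 := mem_cj (ev y (nw i)) h3
  rw [nw_conj hi hj] at h4
  have hm := (pm_lt i hi).2 j hj
  have a1 : MulAut.conj (b i) ∈ E ⊔ cj E (ev y (nw i)) := mem_sup_left h2
  have a2 : MulAut.conj (b j) ∈ E ⊔ cj E (ev y (nw i)) := mem_sup_left h3
  have a3 : MulAut.conj (b (pm i j)) ∈ E ⊔ cj E (ev y (nw i)) := mem_sup_right h4
  have h5 := ((pm_check i hi j hj k hk).resolve_right (by omega))
  simp only [List.mem_cons, List.not_mem_nil, or_false] at h5
  rcases h5 with e | e | e | e | e | e | e | e <;> rw [e]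
  exacts [mem_xor hi hi a1 a1, a1, a2, mem_xor hi hj a1 a2, a3, mem_xor hi hm a1 a3, mem_xor hj hm a2 a3,
    mem_xor (Nat.xor_lt_two_pow (n := 3) hi hj) hm (mem_xor hi hj a1 a2) a3]

/-- the Sylow 2-subgroup of `Aut S` -/
noncomputable abbrev PA : Subgroup (MulAut ↥Gp) := OutTwo.T (PS 5) γ1 (fun _ hs => γ1_mem hs) γ1_mul_self

theorem conj_inj : Function.Injective (MulAut.conj : ↥Gp →* MulAut ↥Gp) :=
  (injective_iff_map_eq_one _).2 fun _ => (conj_eq_one_iff center_Gp).1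

theorem out_sq (s : ↥Gp) : (MulAut.conj s * γ1) ^ 2 = MulAut.conj (s * γ1 s) := by
  simp_rw [pow_two, mul_assoc, ← mul_assoc γ1, OutTwo.mul_conj, mul_assoc _ γ1, γ1_mul_self, mul_one, map_mul]

theorem PA_two : IsPGroup 2 PA := by
  have h : ∀ s ∈ PS 5, MulAut.conj s ^ 2 ^ 3 = 1 := fun s hs => by
    obtain ⟨i, hi, rfl⟩ := exists_P hs
    rw [← map_pow, pe_pow hi, map_one]
  rintro ⟨_, s, hs, rfl | rfl⟩
  · exact ⟨3, Subtype.ext (h s hs)⟩
  · refine ⟨4, Subtype.ext ?_⟩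
    show (MulAut.conj s * γ1) ^ 2 ^ 4 = 1
    simp only [pow_succ' 2 3, pow_mul, out_sq, h _ (mul_mem hs (γ1_mem hs))]

theorem PA_index : ¬ 2 ∣ PA.index := fun e => by
  have : Finite (MulAut ↥Gp) := Nat.finite_of_card_ne_zero (by rw [card_A]; norm_num)
  obtain ⟨k, hk⟩ := PA_two.exists_card_eq
  have h1 : (PS 5).map MulAut.conj < PA := by
    refine lt_of_le_of_ne ?_ fun e => ?_
    · rintro _ ⟨s, hs, rfl⟩
      exact ⟨s, hs, Or.inl rfl⟩
    · obtain ⟨s, -, hs⟩ := e.ge (⟨1, one_mem _, Or.inr (by rw [map_one, one_mul])⟩ : γ1 ∈ PA)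
      exact γ1_outer s hs.symm
  have h2 : Nat.card ((PS 5).map MulAut.conj) < Nat.card PA :=
    lt_of_not_ge fun e => h1.ne (eq_of_le_of_card_ge h1.le e)
  rw [card_map_of_injective conj_inj, card_PS, hk, Nat.pow_lt_pow_iff_right one_lt_two] at h2
  have h3 : 2 ^ 7 * 2 ∣ Nat.card (MulAut ↥Gp) := by
    rw [← PA.card_mul_index, hk]
    exact mul_dvd_mul (pow_dvd_pow 2 h2) e
  rw [card_A] at h3
  exact absurd h3 (by norm_num)

theorem lo_PA (h1 : E ≤ PA) (h2 : IsElementaryAbelian 2 E) (h3 : ¬ E ≤ Inn ↥Gp) {r : ℕ} (hr : 0 < r)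
    (h4 : Nat.card E = 2 ^ r) : Lo 2 E (2 * r + 1) := by
  classical
  have h5 : ∀ s ∈ PS 5, MulAut.conj s * γ1 ∈ E → ∃ k < 8, s = b k := fun s hs h =>
    exists_b hs (conj_inj (by rw [← out_sq, h2.2 _ h, map_one]))
  obtain ⟨α, hα, h6⟩ := SetLike.not_le_iff_exists.1 h3
  obtain ⟨s, hs, rfl | rfl⟩ := h1 hα
  · exact absurd ⟨s, rfl⟩ h6
  obtain ⟨a, ha, rfl⟩ := h5 s hs hα
  obtain ⟨J, hJ⟩ : ∃ J : Finset ℕ, ∀ k, k ∈ J ↔ k < 8 ∧ MulAut.conj (b k) ∈ E :=
    ⟨(Finset.range 8).filter fun k => MulAut.conj (b k) ∈ E, fun k => by rw [Finset.mem_filter, Finset.mem_range]⟩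
  have h7 : ∀ k < 8, b k = b (k ^^^ a) * b a := fun k hk => by
    rw [b_mul (Nat.xor_lt_two_pow (n := 3) hk ha) ha, Nat.xor_xor_cancel_right]
  have h8 : (E : Set (MulAut ↥Gp)) ⊆ (J.image (fun k => MulAut.conj (b k)) ∪
      J.image (fun k => MulAut.conj (b k) * (MulAut.conj (b a) * γ1)) : Finset _) := fun β hβ => by
    simp only [Finset.mem_coe, Finset.mem_union, Finset.mem_image, Finset.mem_image]
    obtain ⟨t, ht, rfl | rfl⟩ := h1 hβ
    · obtain ⟨k, hk, e⟩ := h5 _ (mul_mem ht hs) (by rw [map_mul, mul_assoc]; exact mul_mem hβ hα)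
      rw [h7 k hk, mul_left_inj] at e
      exact Or.inl ⟨_, (hJ _).2 ⟨Nat.xor_lt_two_pow (n := 3) hk ha, e ▸ hβ⟩, by rw [e]⟩
    · obtain ⟨k, hk, rfl⟩ := h5 t ht hβ
      simp only [h7 k hk, map_mul, mul_assoc] at hβ ⊢
      exact Or.inr ⟨_, (hJ _).2 ⟨Nat.xor_lt_two_pow (n := 3) hk ha, (mul_mem_cancel_right hα).1 hβ⟩, rfl⟩
  have h9 : 2 ^ r ≤ J.card + J.card := by
    rw [← h4, ← SetLike.coe_sort_coe, Nat.card_coe_set_eq]
    refine (Set.ncard_le_ncard h8 (Finset.finite_toSet _)).trans ?_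
    rw [Set.ncard_coe_finset]
    exact (Finset.card_union_le _ _).trans (Nat.add_le_add Finset.card_image_le Finset.card_image_le)
  have h10 : J ⊆ Finset.range 8 := fun k hk => Finset.mem_range.2 ((hJ k).1 hk).1
  have h11 := Finset.card_le_card h10
  have h12 := Finset.pred_card_le_card_erase (s := J) (a := 0)
  rw [Finset.card_range] at h11
  have h13 : r ≤ 4 := (Nat.pow_le_pow_iff_right one_lt_two).1 (by omega)
  interval_cases r
  · exact (le_out ha).lo hα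
  · obtain ⟨i, hi⟩ := Finset.card_pos.1 (show 0 < (J.erase 0).card by omega)
    rw [Finset.mem_erase, hJ] at hi
    exact ((li_b hi.2.1 hi.1).lo hi.2.2).le (by norm_num)
  · obtain ⟨i, hi, j, hj, e⟩ := Finset.one_lt_card.1 (show 1 < (J.erase 0).card by omega)
    rw [Finset.mem_erase, hJ] at hi hj
    exact lo_seven ha hα hi.2.1 hj.2.1 hi.1 hj.1 e hi.2.2 hj.2.2
  · refine lo_nine ha hα fun k hk => ((hJ k).1 ?_).2
    rw [Finset.eq_of_subset_of_card_le h10 (by rw [Finset.card_range]; omega)]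
    exact Finset.mem_range.2 hk

theorem lo_out (h2 : IsElementaryAbelian 2 E) (h3 : ¬ E ≤ Inn ↥Gp) (r : ℕ) (hr : 0 < r) (h4 : Nat.card E = 2 ^ r) :
    Lo 2 E (2 * r + 1) :=
  haveI := finite_Gp
  lo_of_sylow PA_two PA_index h2 fun _ a1 a2 a3 a4 => lo_PA a1 a2 (a4 h3) hr (a3.trans h4)

theorem rank_le (B : Subgroup ↥Gp) (h : ∀ x ∈ B, x * x = 1) : Nat.card B ≤ 2 ^ 3 :=
  @Omega.TwoF.RowGTwo.card_le (ZMod 3) _ _ (by decide) B h

theorem row_two : Row 2 ↥Gp := by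
  refine ⟨row88_of_lo fun E hE r hr h => ?_, row89_of_lo fun E => lo_out⟩
  rw [small_two] at hr
  refine lo_out hE (fun e => ?_) r (by omega) h
  have h1 := rank_le (E.comap MulAut.conj) fun x hx => conj_inj (by rw [map_mul, ← pow_two, hE.2 _ hx, map_one])
  rw [← card_map_of_injective (K := E.comap MulAut.conj) conj_inj, map_comap_eq_self e, h,
    Nat.pow_le_pow_iff_right one_lt_two] at h1
  omega

theorem row_Gp (p : ℕ) [hp : Fact p.Prime] (h3 : p ≠ 3) : Row p ↥Gp := by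
  by_cases h2 : p = 2
  · subst h2
    exact row_two
  have := finite_Gp
  refine ⟨row88_of_not_dvd ?_, row89_of_not_dvd ?_⟩
  · rw [card_A, small_of_ne h2 h3]
    intro e
    have h4 : p ∣ 2 ^ 7 * 3 ^ 6 * 7 * 13 := (dvd_pow_self p two_ne_zero).trans e
    simp only [hp.out.dvd_mul, hp.out.prime.dvd_pow_iff_dvd, Nat.prime_dvd_prime_iff_eq hp.out, ne_eq,
      OfNat.ofNat_ne_zero, not_false_eq_true, Nat.prime_two, Nat.prime_three, Nat.prime_seven,
      show Nat.Prime 13 by norm_num] at h4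
    rcases h4 with ((rfl | rfl) | rfl) | rfl <;> simp_all
  · rw [card_out, Nat.prime_dvd_prime_iff_eq hp.out Nat.prime_two]
    exact h2

/-- **the row of `G₂(3)`** -/
theorem row (p : ℕ) [Fact p.Prime] (F : Type) [Field F] [Fintype F] (h : Fintype.card F = 3) (hp : p ≠ 3) :
    Row p (Lie.chevG2.group F) :=
  (row_Gp p hp).of_equiv (ChevalleyStructure.FieldIso.groupEquiv chevG2
    (FiniteField.ringEquivOfCardEq (K := ZMod 3) (K' := F) (by rw [h]; rfl))).symm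

end Cfsg.Agent.TwoF.XE.G23
end

-- part: TwoF/DC/TFG/CG_mg
section
prune_inst 0x410103524152200000018059041001c02b600009200488000804000440482f840200208610010090000b000400031002813000000420000000a000000000400000000840080480008200000000000400000000000000000000000000000041000000000000
set_option linter.all false
open scoped Cfsg.Agent.FastGrp

-- part: TwoF/DC/TFG/TabG
section
/-!
# TwoF, defining characteristic, type G2: tables (helper25, generated)

Positive roots: `0 = 3a+2b`, `1 = 3a+b`, `2 = 2a+b`, `3 = a+b`, `4 = b`, `5 = a`; node `0 = a` is short.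
-/

set_option autoImplicit false
set_option synthInstance.maxSize 4000
set_option linter.unusedVariables false

namespace Cfsg.Agent.TwoF.DC.TF

open Cfsg.Lie TE

/-- all structure constants -/
def okA (_ : ℕ) : Bool := true
/-- odd structure constants -/
def ok2 (r : ℕ) : Bool := !r.beq 1
/-- structure constants prime to `3` -/
def ok3 (r : ℕ) : Bool := !r.beq 2

/-- the positive roots -/
def cfG : List (List ℕ) :=
  [[3, 2], [3, 1], [2, 1], [1, 1], [0, 1], [1, 0]]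

/-- the positive coroots -/
def coG : List (List ℕ) :=
  [[1, 2], [1, 1], [2, 3], [1, 3], [0, 1], [1, 0]]

/-- the Cartan matrix -/
def cmG : List (List ℤ) :=
  [[p2, m3], [m1, p2]]

/-- the simple reflections on root codes -/
def prmG : List (List ℕ) :=
  [[0, 4, 3, 2, 1, 11, 6, 10, 9, 8, 7, 5], [1, 0, 2, 5, 10, 3, 7, 6, 8, 11, 4, 9]]

/-- all roots -/
def rlG : List (List ℤ) :=
  [[p3, p2], [p3, p1], [p2, p1], [p1, p1], [p0, p1], [p1, p0], [m3, m2], [m3, m1], [m2, m1], [m1, m1], [p0, m1],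
    [m1, p0]]

/-- the simple roots as weights -/
def colG : List (List ℤ) :=
  [[p2, m1], [m3, p2]]

/-- the numbers of the roots in the Chevalley datum -/
def ixG (b : Fin 6) : ℕ :=
  List.getD [11, 10, 9, 8, 6, 7] b 0

/-- the root combinatorics -/
def rcG : RC (Fin 2) (Fin 6) where
  zi := ![5, 4]
  cf b j := (cfG.getD b []).getD j 0
  co b j := (coG.getD b []).getD j 0
  C i j := gz (rg cmG i) j
  s i b := Fin.ofNat 6 ((prmG.getD i []).getD b 0)
  cf_zi := by decide +kernel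
  co_zi := by decide +kernel
  C_self := by decide +kernel
  C_inj c h := by
    have h0 := h 0
    have h1 := h 1
    simp only [Fin.sum_univ_succ, Fin.sum_univ_zero] at h0 h1
    change (2 : ℤ) * c 0 + ((-3 : ℤ) * c 1 + 0) = 0 at h0
    change (-1 : ℤ) * c 0 + ((2 : ℤ) * c 1 + 0) = 0 at h1
    funext i
    fin_cases i <;> simp <;> omega
  cf_inj := by decide +kernel
  red b i n h := by
    have h1 : ∀ (b : Fin 6) (i : Fin 2), (∀ j : Fin 2, j ≠ i → (cfG.getD b []).getD j 0 = 0) →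
        b = (![5, 4] : Fin 2 → Fin 6) i := by decide +kernel
    exact h1 b i fun j hj => (congrFun h j).trans (by simp [hj])
  cf_s := by decide +kernel
  co_s := by decide +kernel
  desc := by decide +kernel

theorem tbG : TB rcG rlG colG prmG where
  len := by decide +kernel
  hrl := by decide +kernel
  hcol := by decide +kernel
  hprm := by decide +kernel

theorem tabG : RD.Tab chevG2 2 rcG ixG where
  lt := by decide +kernel
  cf := by decide +kernel
  C := by decide +kernel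
  surj := by decide +kernel

/-- heights -/
def htG : RD.Hts chevG2 2 where
  c := ![4, 7]
  hw := ![1, 2]
  pos := by decide +kernel
  eq := by decide +kernel

/-- the masks for the enumeration -/
def eGA : List RE :=
  [([], [], 0, 0), ([], [], 1, 16), ([], [], 3, 40), ([], [], 5, 36), ([], [], 9, 34), ([], [], 14, 28)]

theorem eGA_ok : chkE 6 rlG okA eGA = true := by decide +kernel

/-- the masks for the enumeration -/
def eG2 : List RE :=
  [([], [], 0, 0), ([], [], 1, 16), ([], [], 3, 40), ([], [], 1, 4), ([], [], 9, 34), ([], [], 10, 20)]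

theorem eG2_ok : chkE 6 rlG ok2 eG2 = true := by decide +kernel

/-- the masks for the enumeration -/
def eG3 : List RE :=
  [([], [], 0, 0), ([], [], 1, 16), ([], [], 0, 0), ([], [], 4, 32), ([], [], 9, 34), ([], [], 12, 24)]

theorem eG3_ok : chkE 6 rlG ok3 eG3 = true := by decide +kernel

theorem gA11_top : chkTop 6 rlG okA 48 63 = true := by decide +kernel

/-- a weight table -/
def gA11 : List WE :=
  [(1, 1, [m1, m1], 63), (1, 1, [p1, m2], 2079), (0, 1, [m4, p1], 1071), (0, 1, [m5, p2], 1575),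
    (1, 1, [p4, m3], 2205), (1, 1, [p5, m3], 2457), (0, 1, [m5, p3], 1638), (0, 1, [m4, p3], 1890),
    (1, 1, [p5, m2], 2520), (1, 1, [p4, m1], 3024), (0, 0, [m1, p2], 2016), (0, 1000, [p1, p1], 4032)]

theorem gA11_ok : chkT 2 colG prmG [p1, p1] (63 <<< 6) gA11 = true := by decide +kernel

theorem gA11_en : enum (fun I n => n.beq 0 || (2 * n).blt (cnt I gA11)) eGA 0 0 0 = true := by decide +kernel

theorem gA01_top : chkTop 6 rlG okA 16 31 = true := by decide +kernel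

/-- a weight table -/
def gA01 : List WE :=
  [(1, 0, [p0, m1], 31), (0, 0, [m3, p1], 1063), (1, 0, [p3, m2], 2201), (0, 0, [m3, p2], 1634),
    (1, 0, [p3, m1], 2512), (0, 1000, [p0, p1], 1984)]

theorem gA01_ok : chkT 2 colG prmG [p0, p1] (31 <<< 6) gA01 = true := by decide +kernel

theorem gA01b_sec : chkSec 2 6 rlG okA 16 31 3 2 160 = true := by decide +kernel

theorem gA01b_clo : chkC 2 prmG [p1, p0] 232 [(1, 232)] 160 = true := by decide +kernel

/-- a weight table -/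
def gA01b : List WE :=
  [(0, 0, [m1, p0], 2563), (1, 0, [p1, m1], 305), (0, 0, [m2, p1], 1290), (1, 0, [p2, m1], 660),
    (0, 0, [m1, p1], 3140), (0, 1000, [p1, p0], 232)]

theorem gA01b_ok : chkT 2 colG prmG [p1, p0] 232 gA01b = true := by decide +kernel

theorem gA01_en : enum (fun I n => n.beq 0 || (2 * n).blt (cnt I gA01 + cnt I gA01b)) eGA 0 0 0 = true := by decide +kernel

theorem gA10_top : chkTop 6 rlG okA 32 47 = true := by decide +kernel

/-- a weight table -/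
def gA10 : List WE :=
  [(0, 0, [m1, p0], 47), (1, 0, [p1, m1], 2077), (0, 0, [m2, p1], 1574), (1, 0, [p2, m1], 2456),
    (0, 0, [m1, p1], 1888), (0, 1000, [p1, p0], 3008)]

theorem gA10_ok : chkT 2 colG prmG [p1, p0] (47 <<< 6) gA10 = true := by decide +kernel

theorem gA20b_sec : chkSec 2 6 rlG okA 32 47 5 16 1056 = true := by decide +kernel

theorem gA20b_clo : chkC 2 prmG [p0, p1] 3232 [(0, 3232)] 1056 = true := by decide +kernel

/-- a weight table -/
def gA20b : List WE :=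
  [(1, 0, [p0, m1], 2098), (0, 0, [m3, p1], 1545), (1, 0, [p3, m2], 389), (0, 0, [m3, p2], 326),
    (1, 0, [p3, m1], 600), (0, 1000, [p0, p1], 3232)]

theorem gA20b_ok : chkT 2 colG prmG [p0, p1] 3232 gA20b = true := by decide +kernel

theorem gA20_en : enum (fun I n => n.beq 0 || (2 * n).blt (cnt I gA10 + cnt I gA20b)) eGA 0 0 0 = true := by decide +kernel

theorem gA10s_top : chkTop 6 rlG okA 36 47 = true := by decide +kernel

/-- a weight table -/
def gA10s : List WE :=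
  [(0, 0, [m1, p0], 47), (1, 0, [p1, m1], 2077), (0, 0, [m2, p1], 1574), (1, 0, [p2, m1], 2456),
    (0, 0, [m1, p1], 1888), (0, 1000, [p1, p0], 3008)]

theorem gA10s_ok : chkT 2 colG prmG [p1, p0] (47 <<< 6) gA10s = true := by decide +kernel

theorem gA10b_sec : chkSec 2 6 rlG okA 36 47 2 0 44 = true := by decide +kernel

theorem gA10b_clo : chkC 2 prmG [p0, p0] 2860 [(0, 2092), (1, 2604), (0, 2860)] 44 = true := by decide +kernel

/-- a weight table -/
def gA10b : List WE :=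
  [(0, 1000, [p0, p0], 2860)]

theorem gA10b_ok : chkT 2 colG prmG [p0, p0] 2860 gA10b = true := by decide +kernel

theorem gA10_en : enum (fun I n => n.beq 0 || (1 * n).blt (cnt I gA10s + cnt I gA10b)) eGA 0 0 0 = true := by decide +kernel

theorem g311_top : chkTop 6 rlG ok3 48 63 = true := by decide +kernel

/-- a weight table -/
def g311 : List WE :=
  [(1, 1, [m1, m1], 63), (1, 1, [p1, m2], 2079), (0, 1, [m4, p1], 1071), (0, 1, [m5, p2], 1575),
    (1, 1, [p4, m3], 2205), (1, 1, [p5, m3], 2457), (0, 1, [m5, p3], 1638), (0, 1, [m4, p3], 1890),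
    (1, 1, [p5, m2], 2520), (1, 1, [p4, m1], 3024), (0, 0, [m1, p2], 2016), (0, 1000, [p1, p1], 4032)]

theorem g311_ok : chkT 2 colG prmG [p1, p1] (63 <<< 6) g311 = true := by decide +kernel

theorem g311_en : enum (fun I n => n.beq 0 || (2 * n).blt (cnt I g311)) eG3 0 0 0 = true := by decide +kernel

theorem g301_top : chkTop 6 rlG ok3 19 19 = true := by decide +kernel

/-- a weight table -/
def g301 : List WE :=
  [(1, 0, [p0, m1], 19), (0, 0, [m3, p1], 1027), (1, 0, [p3, m2], 145), (0, 0, [m3, p2], 1090),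
    (1, 0, [p3, m1], 208), (0, 1000, [p0, p1], 1216)]

theorem g301_ok : chkT 2 colG prmG [p0, p1] (19 <<< 6) g301 = true := by decide +kernel

theorem g310_top : chkTop 6 rlG ok3 36 47 = true := by decide +kernel

/-- a weight table -/
def g310 : List WE :=
  [(0, 0, [m1, p0], 47), (1, 0, [p1, m1], 2077), (0, 0, [m2, p1], 1574), (1, 0, [p2, m1], 2456),
    (0, 0, [m1, p1], 1888), (0, 1000, [p1, p0], 3008)]

theorem g310_ok : chkT 2 colG prmG [p1, p0] (47 <<< 6) g310 = true := by decide +kernel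

theorem g310b_sec : chkSec 2 6 rlG ok3 36 47 2 0 44 = true := by decide +kernel

theorem g310b_clo : chkC 2 prmG [p0, p0] 2860 [(0, 2092), (1, 2604), (0, 2860)] 44 = true := by decide +kernel

/-- a weight table -/
def g310b : List WE :=
  [(0, 1000, [p0, p0], 2860)]

theorem g310b_ok : chkT 2 colG prmG [p0, p0] 2860 g310b = true := by decide +kernel

theorem g310_en : enum (fun I n => n.beq 0 || (1 * n).blt (cnt I g310 + cnt I g310b)) eG3 0 0 0 = true := by decide +kernel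

theorem g3pair_en : enum (fun I n => n.beq 0 || (2 * n).blt (cnt I g310 + cnt I g310b + cnt I g301)) eG3 0 0 0 = true := by decide +kernel

theorem g320b_sec : chkSec 2 6 rlG ok3 36 47 5 19 1248 = true := by decide +kernel

theorem g320b_clo : chkC 2 prmG [p0, p1] 3296 [(0, 3296)] 1248 = true := by decide +kernel

/-- a weight table -/
def g320b : List WE :=
  [(1, 0, [p0, m1], 2099), (0, 0, [m3, p1], 1547), (1, 0, [p3, m2], 405), (0, 0, [m3, p2], 1350),
    (1, 0, [p3, m1], 728), (0, 1000, [p0, p1], 3296)]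

theorem g320b_ok : chkT 2 colG prmG [p0, p1] 3296 g320b = true := by decide +kernel

theorem g320c_sec : chkSec 2 6 rlG ok3 36 47 2 47 236 = true := by decide +kernel

theorem g320c_clo : chkC 2 prmG [p1, p0] 236 [] 236 = true := by decide +kernel

/-- a weight table -/
def g320c : List WE :=
  [(0, 0, [m1, p0], 2819), (1, 0, [p1, m1], 817), (0, 0, [m2, p1], 3338), (1, 0, [p2, m1], 692),
    (0, 0, [m1, p1], 3148), (0, 1000, [p1, p0], 236)]

theorem g320c_ok : chkT 2 colG prmG [p1, p0] 236 g320c = true := by decide +kernel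

theorem g320_en : enum (fun I n => n.beq 0 || (2 * n).blt (cnt I g310 + cnt I g320b + cnt I g320c)) eG3 0 0 0 = true := by decide +kernel

theorem g211_top : chkTop 6 rlG ok2 53 63 = true := by decide +kernel

/-- a weight table -/
def g211 : List WE :=
  [(1, 1, [m1, m1], 63), (1, 1, [p1, m2], 2079), (0, 1, [m4, p1], 1071), (0, 1, [m5, p2], 1575),
    (1, 1, [p4, m3], 2205), (1, 1, [p5, m3], 2457), (0, 1, [m5, p3], 1638), (0, 1, [m4, p3], 1890),
    (1, 1, [p5, m2], 2520), (1, 1, [p4, m1], 3024), (0, 0, [m1, p2], 2016), (0, 1000, [p1, p1], 4032)]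

theorem g211_ok : chkT 2 colG prmG [p1, p1] (63 <<< 6) g211 = true := by decide +kernel

theorem g211_en : enum (fun I n => n.beq 0 || (2 * n).blt (cnt I g211)) eG2 0 0 0 = true := by decide +kernel

theorem g210_top : chkTop 6 rlG ok2 43 43 = true := by decide +kernel

/-- a weight table -/
def g210 : List WE :=
  [(0, 0, [m1, p0], 43), (1, 0, [p1, m1], 2069), (0, 0, [m2, p1], 1542), (1, 0, [p2, m1], 408),
    (0, 0, [m1, p1], 1376), (0, 1000, [p1, p0], 2752)]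

theorem g210_ok : chkT 2 colG prmG [p1, p0] (43 <<< 6) g210 = true := by decide +kernel

theorem g210_en : enum (fun I n => n.beq 0 || (1 * n).ble (cnt I g210)) eG2 0 0 0 = true := by decide +kernel

theorem g201_top : chkTop 6 rlG ok2 30 31 = true := by decide +kernel

/-- a weight table -/
def g201 : List WE :=
  [(1, 0, [p0, m1], 31), (0, 0, [m3, p1], 1063), (1, 0, [p3, m2], 2201), (0, 0, [m3, p2], 1634),
    (1, 0, [p3, m1], 2512), (0, 1000, [p0, p1], 1984)]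

theorem g201_ok : chkT 2 colG prmG [p0, p1] (31 <<< 6) g201 = true := by decide +kernel

theorem g201b_sec : chkSec 2 6 rlG ok2 30 31 3 43 232 = true := by decide +kernel

theorem g201b_clo : chkC 2 prmG [p1, p0] 232 [] 232 = true := by decide +kernel

/-- a weight table -/
def g201b : List WE :=
  [(0, 0, [m1, p0], 2563), (1, 0, [p1, m1], 305), (0, 0, [m2, p1], 1290), (1, 0, [p2, m1], 660),
    (0, 0, [m1, p1], 3140), (0, 1000, [p1, p0], 232)]

theorem g201b_ok : chkT 2 colG prmG [p1, p0] 232 g201b = true := by decide +kernel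

theorem g201c_sec : chkSec 2 6 rlG ok2 30 31 0 0 30 = true := by decide +kernel

theorem g201c_clo : chkC 2 prmG [p0, p0] 4095 [(1, 1087), (0, 3263), (1, 3839), (0, 4095)] 30 = true := by decide +kernel

/-- a weight table -/
def g201c : List WE :=
  [(0, 1000, [p0, p0], 4095)]

theorem g201c_ok : chkT 2 colG prmG [p0, p0] 4095 g201c = true := by decide +kernel

theorem g201_en : enum (fun I n => n.beq 0 || (2 * n).blt (cnt I g201 + cnt I g201b + cnt I g201c)) eG2 0 0 0 = true := by decide +kernel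

end Cfsg.Agent.TwoF.DC.TF
end

-- part: TwoF/DC/TFG/CG
section
/-!
# TwoF, defining characteristic, type G2: the combinatorial statements (helper25)
-/

set_option autoImplicit false
set_option linter.unusedSectionVars false
set_option linter.unusedVariables false

namespace Cfsg.Agent.TwoF.DC.TF

open Module TE

/-! ### wrappers -/

/-- only the values at `0, 1, 2` matter -/
def lo (ok : ℕ → Bool) (r : ℕ) : Bool := r.ble 2 && ok r

theorem nzb_lo (rl : List (List ℤ)) (ok : ℕ → Bool) : nzb rl (lo ok) = nzb rl ok := rfl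

theorem hok_lo {p : ℕ} {ok : ℕ → Bool} (h : ∀ r ≤ 2, ok r = true → ¬ p ∣ r + 1) (r : ℕ) (hr : lo ok r = true) :
    ¬ p ∣ r + 1 := by
  rw [lo, Bool.and_eq_true, Nat.ble_eq] at hr
  exact h r hr.1 hr.2

/-- the counts of a table are lower bounds -/
def Ob {l N : ℕ} {R : RC (Fin l) (Fin N)} {p : ℕ} {k L : Type} [Field k] [AddCommGroup L] [Module k L] (H : HW R p k L)
    (ν : Fin l → ℤ) (W : List WE) : Prop := ∀ S I, Msk S I → Orb H S ν (cnt I W)

/-- modules with a short and a long node are large -/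
def Mix {ι Φ : Type} [Fintype ι] [DecidableEq ι] [DecidableEq Φ] (R : RC ι Φ) (p : ℕ) (k : Type) [Field k] (sh : ι → Bool)
    (m : ℕ) : Prop :=
  ∀ (L L' : Type) [AddCommGroup L] [Module k L] [AddCommGroup L'] [Module k L'] (H : HW R p k L) (H' : HW R p k L'),
    (∃ i, sh i = true ∧ H.lam i ≠ 0) → (∃ i, sh i = false ∧ H'.lam i ≠ 0) → ∀ S : Finset Φ, S.Nonempty → R.Ab p S →
      R.Idl p S → 2 * S.card + m ≤ H.cL S + H'.cL S ∧ ((∃ i, sh i = false ∧ H.lam i ≠ 0) → 2 * S.card + m ≤ H.cL S)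

namespace TB

variable {l N : ℕ} [NeZero N] {R : RC (Fin l) (Fin N)} {rl cols : List (List ℤ)} {prm : List (List ℕ)}
  (h : TB R rl cols prm) {p : ℕ} {ok : ℕ → Bool} (hok : ∀ r ≤ 2, ok r = true → ¬ p ∣ r + 1)
include h hok

theorem ideal' {F : List RE} (hF : chkE N rl ok F = true) {P : ℕ → ℕ → Bool} (hP : enum P F 0 0 0 = true)
    {S : Finset (Fin N)} (hA : R.Ab p S) (hI : R.Idl p S) : ∃ I, Msk S I ∧ P I S.card = true :=
  h.ideal (hok_lo hok) (by simpa only [chkE, nzb_lo] using hF) hP hA hI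

theorem en {F : List RE} (hF : chkE N rl ok F = true) {c : ℕ → ℕ} {m : ℕ}
    (hP : enum (fun I n => n.beq 0 || (m * n).blt (c I)) F 0 0 0 = true) {S : Finset (Fin N)} (hS : S.Nonempty)
    (hA : R.Ab p S) (hI : R.Idl p S) : ∃ I, Msk S I ∧ m * S.card < c I :=
  (h.ideal' hok hF hP hA hI).imp fun _ h1 => ⟨h1.1, of_en hS.card_pos h1.2⟩

variable {k L : Type} [Field k] [AddCommGroup L] [Module k L] [CharP k p] {H : HW R p k L} {ν ν' : Fin l → ℤ}
  (hl : H.lz = ν) {G M β G' M' M'' : ℕ} {μ : List ℤ} {W : List WE} {r : List (ℕ × ℕ)}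
include hl

theorem oT (h1 : chkTop N rl ok G M = true) (h2 : chkT l cols prm μ (M <<< N) W = true) (hμ : μ.length = l)
    (h0 : ∀ i, 0 ≤ tv l μ i ∧ tv l μ i ≤ ν i) (hG : ∀ a : Fin N, G.testBit a = true → ¬ (p : ℤ) ∣ R.pair ν (true, a)) :
    Ob H ν W := by
  subst hl
  exact fun S I hI => h.orb hμ h0 (h.top (hok_lo hok) (by simpa only [chkTop, nzb_lo] using h1) hG μ) h2 hI

theorem oS (h1 : chkTop N rl ok G M = true) (h2 : chkSec l N rl ok G M β G' M' = true) (h3 : chkC l prm μ M'' r M' = true)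
    (h4 : chkT l cols prm μ M'' W = true) (hμ : μ.length = l) (hβ : β < N) (hν : ν - R.wt (true, ⟨β, hβ⟩) = ν')
    (h0 : ∀ i, 0 ≤ tv l μ i ∧ tv l μ i ≤ ν' i) (hG : ∀ a : Fin N, G.testBit a = true → ¬ (p : ℤ) ∣ R.pair ν (true, a))
    (hG' : ∀ a : Fin N, G'.testBit a = true → ¬ (p : ℤ) ∣ R.pair ν' (true, a)) : Ob H ν' W := by
  subst hl hν
  exact fun S I hI => h.orb hμ h0 (h.clo h3 (h.sec (β := ⟨β, hβ⟩) (hok_lo hok)
    (by simpa only [chkTop, nzb_lo] using h1) (by simpa only [chkSec, nzb_lo] using h2) hG hG' μ)) h4 hI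

end TB

theorem Ob.base {l N : ℕ} [NeZero N] {R : RC (Fin l) (Fin N)} {p : ℕ} {k L : Type} [Field k] [AddCommGroup L] [Module k L]
    {H : HW R p k L} {ν : Fin l → ℤ} {W : List WE} (h : Ob H ν W)
    (h1 : 5 ≤ cnt (2 ^ N - 1) W ∧ ∀ b : Fin N, 0 < cnt (2 ^ (b : ℕ)) W) : 6 ≤ H.d ∧ ∀ b, H.E (true, b) 1 ≠ 0 :=
  ⟨by have := d_of_orb h; omega, ne_of_orb h h1.2⟩

theorem nd_of_lt {p a : ℕ} (h0 : a ≠ 0) (h : a < p) : ¬ (p : ℤ) ∣ (a : ℤ) := by
  rw [Int.natCast_dvd_natCast]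
  exact Nat.not_dvd_of_pos_of_lt (Nat.pos_of_ne_zero h0) h

/-! ### type G2 -/

/-- the short roots -/
def shG (b : Fin 6) : Prop := Nat.testBit 44 b = true

instance decShG : DecidablePred shG := fun b => inferInstanceAs (Decidable (Nat.testBit 44 b = true))

theorem qmG : QM rcG shG 2 ![1, 0] where
  wt := by decide +kernel
  hσ := by decide
  sh_s := by decide +kernel
  dom c h := by
    have e0 : ((fun i => ((![1, 0] : Fin 2 → ℕ) i : ℤ)) - rcG.toWt fun j => c j) 0 = 1 - (2 * c 0 + (-3 * c 1 + 0)) := rfl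
    have e1 : ((fun i => ((![1, 0] : Fin 2 → ℕ) i : ℤ)) - rcG.toWt fun j => c j) 1 = 0 - (-1 * c 0 + (2 * c 1 + 0)) := rfl
    have h0 := h 0
    have h1 := h 1
    rw [Fin.forall_fin_two, funext_iff, Fin.forall_fin_two, e0, e1, Pi.zero_apply, Pi.zero_apply]
    rw [e0] at h0
    rw [e1] at h1
    omega

theorem pairG (x y : ℤ) (a : Fin 6) : rcG.pair ![x, y] (true, a) = rcG.co a 0 * x + rcG.co a 1 * y := by
  simp [RC.pair, RC.cov, Fin.sum_univ_two]

theorem tv2 {u v x y : ℤ} (h : 0 ≤ u ∧ 0 ≤ v) (h1 : u ≤ x) (h2 : v ≤ y) (i : Fin 2) :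
    0 ≤ tv 2 [u, v] i ∧ tv 2 [u, v] i ≤ ![x, y] i := by
  fin_cases i
  exacts [⟨h.1, h1⟩, ⟨h.2, h2⟩]

theorem dom2 {x y : ℤ} (h1 : 0 ≤ x) (h2 : 0 ≤ y) : Dom ![x, y] := Fin.forall_fin_two.2 ⟨h1, h2⟩

variable {p : ℕ} {k L : Type} [Field k] [AddCommGroup L] [Module k L] [CharP k p]

theorem lz2 (H : HW rcG p k L) : ∃ a b : ℕ, a < p ∧ b < p ∧ H.lam = ![a, b] ∧ H.lz = ![(a : ℤ), b] ∧ (a ≠ 0 ∨ b ≠ 0) := by
  refine ⟨H.lam 0, H.lam 1, H.lam_lt 0, H.lam_lt 1, ?_, ?_, ?_⟩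
  · funext i; fin_cases i <;> rfl
  · funext i; fin_cases i <;> rfl
  · by_contra h
    exact H.lam_ne (funext (Fin.forall_fin_two.2 ⟨by simp at h; exact h.1, by simp at h; exact h.2⟩))

theorem hG48 {a b : ℕ} (ha : a < p) (hb : b < p) {G : ℕ}
    (h : ∀ x : Fin 6, G.testBit x = true → x = 4 ∧ G.testBit 4 = true ∨ x = 5 ∧ G.testBit 5 = true)
    (h1 : G.testBit 5 = true → a ≠ 0) (h2 : G.testBit 4 = true → b ≠ 0) (x : Fin 6) (hx : G.testBit x = true) :
    ¬ (p : ℤ) ∣ rcG.pair ![(a : ℤ), b] (true, x) := by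
  rw [pairG]
  rcases h x hx with ⟨rfl, h3⟩ | ⟨rfl, h3⟩
  · rw [show rcG.co 4 0 = 0 from rfl, show rcG.co 4 1 = 1 from rfl]
    simpa using nd_of_lt (h2 h3) hb
  · rw [show rcG.co 5 0 = 1 from rfl, show rcG.co 5 1 = 0 from rfl]
    simpa using nd_of_lt (h1 h3) ha

theorem dichG5 (hp : 5 ≤ p) : Dich rcG p k (fun _ => True) ![1, 0] 1 := by
  intro L _ _ H _
  have hok : ∀ r ≤ 2, okA r = true → ¬ p ∣ r + 1 := fun r hr _ => Nat.not_dvd_of_pos_of_lt (by omega) (by omega)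
  obtain ⟨a, b, ha, hb, hm, hl, h0⟩ := lz2 H
  rw [← and_assoc]
  by_cases h1 : a = 0
  · subst h1
    have h2 : b ≠ 0 := by omega
    have hG := hG48 (G := 16) ha hb (by decide) (by decide) fun _ => h2
    have h3 := tbG.oT hok hl gA01_top gA01_ok rfl (tv2 (by decide) le_rfl (by show (1 : ℤ) ≤ _; omega)) hG
    have h4 := tbG.oS (ν' := ![1, (b : ℤ) - 1]) hok hl gA01_top gA01b_sec gA01b_clo gA01b_ok rfl (by decide)
      (by funext i; fin_cases i <;> rfl) (tv2 (by decide) le_rfl (by show (0 : ℤ) ≤ _; omega)) hG fun x hx => by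
        obtain rfl : x = 1 := by revert x; decide
        rw [pairG, show rcG.co 1 0 = 1 from rfl, show rcG.co 1 1 = 1 from rfl]
        simpa using nd_of_lt h2 hb
    refine ⟨h3.base (by decide +kernel), fun S hS hA hI => Or.inl ?_⟩
    obtain ⟨I, h5, h6⟩ := tbG.en hok eGA_ok gA01_en hS hA hI
    exact h6.trans_le ((h3 S I h5).le2 (h4 S I h5) (dom2 (by omega) (by omega)) (dom2 (by omega) (by omega))
      fun h => by simpa using congrFun h 0)
  by_cases h2 : b = 0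
  swap
  · have h3 := tbG.oT hok hl gA11_top gA11_ok rfl (tv2 (by decide) (by show (1 : ℤ) ≤ _; omega)
      (by show (1 : ℤ) ≤ _; omega)) (hG48 ha hb (by decide) (fun _ => h1) fun _ => h2)
    refine ⟨h3.base (by decide +kernel), fun S hS hA hI => Or.inl ?_⟩
    obtain ⟨I, h5, h6⟩ := tbG.en hok eGA_ok gA11_en hS hA hI
    exact h6.trans_le (h3 S I h5).le1
  subst h2
  have hG := hG48 (G := 32) ha hb (by decide) (fun _ => h1) (by decide)
  have h3 := tbG.oT hok hl gA10_top gA10_ok rfl (tv2 (by decide) (by show (1 : ℤ) ≤ _; omega) le_rfl) hG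
  refine ⟨h3.base (by decide +kernel), fun S hS hA hI => ?_⟩
  by_cases h4 : a = 1
  · subst h4
    have hG : ∀ x : Fin 6, Nat.testBit 36 x = true → ¬ (p : ℤ) ∣ rcG.pair ![((1 : ℕ) : ℤ), (0 : ℕ)] (true, x) := fun x hx => by
      have h4 : rcG.pair ![((1 : ℕ) : ℤ), (0 : ℕ)] (true, x) = (1 : ℕ) ∨
        rcG.pair ![((1 : ℕ) : ℤ), (0 : ℕ)] (true, x) = (2 : ℕ) := by revert x; decide +kernel
      rcases h4 with h4 | h4 <;> rw [h4] <;> exact nd_of_lt (by omega) (by omega)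
    have h4 := tbG.oT hok hl gA10s_top gA10s_ok rfl (by decide) hG
    have h5 := tbG.oS (ν' := 0) hok hl gA10s_top gA10b_sec gA10b_clo gA10b_ok rfl (by decide) (by decide +kernel)
      (by decide) hG fun x hx => by simp at hx
    obtain ⟨I, h6, h7⟩ := tbG.en hok eGA_ok gA10_en hS hA hI
    have := (h4 S I h6).le2 (h5 S I h6) (dom2 (by omega) (by omega)) (fun _ => le_rfl) (by decide)
    exact Or.inr ⟨hm, by omega⟩
  · have h5 := tbG.oS (ν' := ![(a : ℤ) - 2, 1]) hok hl gA10_top gA20b_sec gA20b_clo gA20b_ok rfl (by decide)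
      (by funext i; fin_cases i <;> rfl) (tv2 (by decide) (by show (0 : ℤ) ≤ _; omega) le_rfl) hG fun x hx => by
        obtain rfl : x = 4 := by revert x; decide
        rw [pairG, show rcG.co 4 0 = 0 from rfl, show rcG.co 4 1 = 1 from rfl]
        simpa using nd_of_lt (p := p) one_ne_zero (by omega)
    obtain ⟨I, h6, h7⟩ := tbG.en hok eGA_ok gA20_en hS hA hI
    exact Or.inl (h7.trans_le ((h3 S I h6).le2 (h5 S I h6) (dom2 (by omega) (by omega)) (dom2 (by omega) (by omega))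
      fun h => by simpa using congrFun h 1))

theorem dichG2 [CharP k 2] : Dich rcG 2 k (fun _ => True) ![1, 0] 0 := by
  intro L _ _ H _
  have hok : ∀ r ≤ 2, ok2 r = true → ¬ 2 ∣ r + 1 := by decide
  obtain ⟨a, b, ha, hb, hm, hl, h0⟩ := lz2 H
  rw [← and_assoc]
  obtain ⟨rfl, rfl⟩ | ⟨rfl, rfl⟩ | ⟨rfl, rfl⟩ : a = 1 ∧ b = 1 ∨ a = 1 ∧ b = 0 ∨ a = 0 ∧ b = 1 := by omega
  · have h3 := tbG.oT hok hl g211_top g211_ok rfl (by decide) (by decide +kernel)
    refine ⟨h3.base (by decide +kernel), fun S hS hA hI => Or.inl ?_⟩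
    obtain ⟨I, h5, h6⟩ := tbG.en hok eG2_ok g211_en hS hA hI
    exact h6.trans_le (h3 S I h5).le1
  · have h3 := tbG.oT hok hl g210_top g210_ok rfl (by decide) (by decide +kernel)
    refine ⟨h3.base (by decide +kernel), fun S hS hA hI => Or.inr ⟨hm, ?_⟩⟩
    obtain ⟨I, h5, h6⟩ := tbG.ideal' hok eG2_ok g210_en hA hI
    have := (h3 S I h5).le1
    have := hS.card_pos
    rw [Bool.or_eq_true, Nat.beq_eq, Nat.ble_eq] at h6
    omega
  · have h3 := tbG.oT hok hl g201_top g201_ok rfl (by decide) (by decide +kernel)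
    have h4 := tbG.oS (ν' := ![1, 0]) hok hl g201_top g201b_sec g201b_clo g201b_ok rfl (by decide) (by decide +kernel)
      (by decide) (by decide +kernel) (by decide +kernel)
    have h5 := tbG.oS (ν' := ![0, 0]) hok hl g201_top g201c_sec g201c_clo g201c_ok rfl (by decide) (by decide +kernel)
      (by decide) (by decide +kernel) (by decide +kernel)
    refine ⟨⟨(h3.base ⟨by decide +kernel, by decide +kernel⟩).1, ne_of_orb h5 (by decide +kernel)⟩,
      fun S hS hA hI => Or.inl ?_⟩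
    obtain ⟨I, h6, h7⟩ := tbG.en hok eG2_ok g201_en hS hA hI
    exact h7.trans_le ((h3 S I h6).le3 (h4 S I h6) (h5 S I h6) (dom2 (by omega) (by omega)) (dom2 (by omega) (by omega))
      (dom2 (by omega) (by omega)) (by decide) (by decide) (by decide))

section three

variable [CharP k 3] {H : HW rcG 3 k L}

theorem hok3 : ∀ r ≤ 2, ok3 r = true → ¬ 3 ∣ r + 1 := by decide

theorem le10 (hl : H.lz = ![((1 : ℕ) : ℤ), (0 : ℕ)]) {S : Finset (Fin 6)} {I : ℕ} (h : Msk S I) :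
    cnt I g310 + cnt I g310b ≤ H.cL S :=
  (tbG.oT hok3 hl g310_top g310_ok rfl (by decide) (by decide +kernel) S I h).le2
    (tbG.oS (ν' := ![0, 0]) hok3 hl g310_top g310b_sec g310b_clo g310b_ok rfl (by decide) (by decide +kernel)
      (by decide) (by decide +kernel) (by decide +kernel) S I h)
    (dom2 (by omega) (by omega)) (dom2 (by omega) (by omega)) (by decide)

theorem big20 (hl : H.lz = ![((2 : ℕ) : ℤ), (0 : ℕ)]) {S : Finset (Fin 6)} (hS : S.Nonempty) (hA : rcG.Ab 3 S)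
    (hI : rcG.Idl 3 S) : 2 * S.card < H.cL S := by
  obtain ⟨I, h, h1⟩ := tbG.en hok3 eG3_ok g320_en hS hA hI
  exact h1.trans_le ((tbG.oT hok3 hl g310_top g310_ok rfl (by decide) (by decide +kernel) S I h).le3
    (tbG.oS (ν' := ![0, 1]) hok3 hl g310_top g320b_sec g320b_clo g320b_ok rfl (by decide) (by decide +kernel)
      (by decide) (by decide +kernel) (by decide +kernel) S I h)
    (tbG.oS (ν' := ![1, 0]) hok3 hl g310_top g320c_sec g320c_clo g320c_ok rfl (by decide) (by decide +kernel)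
      (by decide) (by decide +kernel) (by decide +kernel) S I h)
    (dom2 (by omega) (by omega)) (dom2 (by omega) (by omega)) (dom2 (by omega) (by omega)) (by decide) (by decide)
    (by decide))

theorem big11 (h0 : H.lam 0 ≠ 0) (h1 : H.lam 1 ≠ 0) {S : Finset (Fin 6)} (hS : S.Nonempty) (hA : rcG.Ab 3 S)
    (hI : rcG.Idl 3 S) : 2 * S.card < H.cL S := by
  obtain ⟨a, b, ha, hb, hm, hl, -⟩ := lz2 H
  rw [hm] at h0 h1
  change a ≠ 0 at h0
  change b ≠ 0 at h1
  obtain ⟨I, h, h2⟩ := tbG.en hok3 eG3_ok g311_en hS hA hI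
  exact h2.trans_le (tbG.oT hok3 hl g311_top g311_ok rfl (tv2 (by decide) (by show (1 : ℤ) ≤ _; omega)
    (by show (1 : ℤ) ≤ _; omega)) (hG48 ha hb (by decide) (fun _ => h0) fun _ => h1) S I h).le1

end three

/-- the short node -/
def sG (i : Fin 2) : Bool := i == 0

theorem dichG3 [CharP k 3] : Dich rcG 3 k (fun l => ∀ i, sG i = false → l i = 0) ![1, 0] 1 := by
  intro L _ _ H hH
  obtain ⟨a, b, ha, hb, hm, hl, h0⟩ := lz2 H
  have h1 := hH 1 rfl
  rw [hm] at h1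
  change b = 0 at h1
  subst h1
  rw [← and_assoc]
  obtain rfl | rfl : a = 1 ∨ a = 2 := by omega
  · refine ⟨(tbG.oT hok3 hl g310_top g310_ok rfl (by decide) (by decide +kernel)).base (by decide +kernel),
      fun S hS hA hI => Or.inr ⟨hm, ?_⟩⟩
    obtain ⟨I, h, h1⟩ := tbG.en hok3 eG3_ok g310_en hS hA hI
    have := le10 hl h
    omega
  · exact ⟨(tbG.oT hok3 hl g310_top g310_ok rfl (by decide) (by decide +kernel)).base (by decide +kernel),
      fun S hS hA hI => Or.inl (big20 hl hS hA hI)⟩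

theorem mixG3 [CharP k 3] : Mix rcG 3 k sG 1 := by
  intro L L' _ _ _ _ H H' ⟨i, h1, h2⟩ ⟨i', h3, h4⟩ S hS hA hI
  have e0 : ∀ i, sG i = true → i = 0 := by decide
  have e1 : ∀ i, sG i = false → i = 1 := by decide
  obtain rfl := e0 i h1
  obtain rfl := e1 i' h3
  refine ⟨?_, fun ⟨i, h5, h6⟩ => big11 h2 (by rwa [← e1 i h5]) hS hA hI⟩
  by_cases h5 : H.lam 1 = 0
  swap
  · exact le_add_right (big11 h2 h5 hS hA hI)
  by_cases h6 : H'.lam 0 = 0
  swap
  · exact le_add_left (big11 h6 h4 hS hA hI)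
  obtain ⟨a, b, ha, hb, hm, hl, -⟩ := lz2 H
  obtain ⟨a', b', ha', hb', hm', hl', -⟩ := lz2 H'
  rw [hm] at h2 h5
  rw [hm'] at h4 h6
  change a ≠ 0 at h2
  change b = 0 at h5
  change b' ≠ 0 at h4
  change a' = 0 at h6
  subst h5 h6
  obtain rfl | rfl : a = 1 ∨ a = 2 := by omega
  · obtain ⟨I, h, h7⟩ := tbG.en hok3 eG3_ok g3pair_en hS hA hI
    have h8 : cnt I g301 ≤ H'.cL S := by
      obtain rfl | rfl : b' = 1 ∨ b' = 2 := by omega
      all_goals exact (tbG.oT hok3 hl' g301_top g301_ok rfl (by decide) (by decide +kernel) S I h).le1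
    have := le10 hl h
    omega
  · exact le_add_right (big20 hl hS hA hI)

variable {G : Type} [Group G] {D : RDat p (Fin 2) (Fin 6) k G}

theorem gdG1 (hR : D.R = rcG) : Gd D ![1, 0] 1 := by
  intro σ F hF S hS _ _ _ hJ
  have Q : QM D.R shG 2 ![1, 0] := hR ▸ qmG
  have h1 : Fintype.card F.J ≤ 1 := by
    by_contra h
    have := Nat.mul_le_mul_right (S.card + 1) (show 2 ≤ Fintype.card F.J by omega)
    omega
  refine good_fix F (fun j => (hF j).2) (S := {0}) (Finset.singleton_nonempty _) (fun b hb b' hb' => ?_) (fun j => ?_)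
    (c := 2) (fun j => ?_) (by rw [Finset.card_singleton]; omega)
  · refine comm_of_hv D (h := ![0, 1]) (t := 2) (by omega) ?_ ?_ ?_ <;> rw [hR]
    · decide +kernel
    · revert b; decide +kernel
    · revert b'; decide +kernel
  · refine (Q.cubic (hF j).1 (h := ![0, 1]) (t := 2) (by decide) ?_ ?_ ?_).1 <;> rw [hR] <;> decide +kernel
  · refine Q.cG_le' (hF j).1 _ (Or.inr (by decide)) {(false, 2), (false, 3)} ?_
    rw [hR]; decide +kernel

theorem gdG0 (hp : p = 2) (hR : D.R = rcG) : Gd D ![1, 0] 0 := by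
  intro σ F hF S hS _ _ _ hJ
  have Q : QM D.R shG 2 ![1, 0] := hR ▸ qmG
  have h1 : Fintype.card F.J ≤ 2 := Nat.le_of_mul_le_mul_right hJ hS.card_pos
  refine good_fix F (fun j => (hF j).2) (S := {0, 1, 2}) (Finset.insert_nonempty _ _) (fun b hb b' hb' => ?_) (fun j => ?_)
    (c := 3) (fun j => ?_) (by rw [show ({0, 1, 2} : Finset (Fin 6)).card = 3 from rfl]; omega)
  · refine comm_of_hv D (h := ![1, 0]) (t := 2) (by omega) ?_ ?_ ?_ <;> rw [hR]
    · decide +kernel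
    · revert b; decide +kernel
    · revert b'; decide +kernel
  · refine (Q.cubic (hF j).1 (h := ![1, 0]) (t := 2) (by decide) ?_ ?_ ?_).1 <;> rw [hR] <;> decide +kernel
  · refine Q.cG_le' (hF j).1 _ (Or.inl (Q.not_wt_zero (hF j).1 hp (i := 0) ?_)) {(false, 2), (false, 3), (false, 5)} ?_ <;>
      rw [hR] <;> decide +kernel

end Cfsg.Agent.TwoF.DC.TF
end

-- part: TwoF/XL/Lin
section
/-!
# TwoF / XL: transvections and linear automorphisms of `PSL_n(q)`, `n ≥ 3` (helper1)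
-/

set_option autoImplicit false

namespace Cfsg.Agent.TwoF.XL

open Module Gen XE Subgroup Matrix
open Cfsg.Agent.ClassicalGeometry.AutPSL.Root Cfsg.Agent.ClassicalGeometry.AutPSL.Auto
open Cfsg.Agent.H199.PslAut (Psi Psi_pr)

variable {F : Type} [Field F] {n : ℕ}

theorem tr_congr {a φ b ψ : Fin n → F} {h : φ ⬝ᵥ a = 0} (h' : ψ ⬝ᵥ b = 0) (e : vecMulVec a φ = vecMulVec b ψ) :
    tr a φ h = tr b ψ h' := tr_eq_iff.2 e

theorem sl_one_mulVec (x : Fin n → F) : (1 : SLn n F).1 *ᵥ x = x := one_mulVec x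

theorem tr_zero (φ : Fin n → F) (h : φ ⬝ᵥ 0 = 0) : tr 0 φ h = 1 :=
  sl_ext fun x => by rw [tr_mulVec, smul_zero, add_zero, sl_one_mulVec]

theorem tr_inv (a φ : Fin n → F) (h : φ ⬝ᵥ a = 0) : (tr a φ h)⁻¹ = tr (-a) φ (by rw [dotProduct_neg, h, neg_zero]) := by
  rw [inv_eq_iff_mul_eq_one, tr_mul_same_axis]
  exact (tr_congr (dotProduct_zero φ) (by rw [add_neg_cancel])).trans (tr_zero _ _)

theorem tr_pow (a φ : Fin n → F) (h : φ ⬝ᵥ a = 0) (j : ℕ) :
    tr a φ h ^ j = tr ((j : F) • a) φ (by rw [dotProduct_smul, h, smul_zero]) := by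
  induction j with
  | zero => exact (pow_zero _).trans ((tr_congr (dotProduct_zero φ) (by rw [Nat.cast_zero, zero_smul])).trans
      (tr_zero _ _)).symm
  | succ j ih =>
    rw [pow_succ, ih, tr_mul_same_axis]
    exact tr_congr _ (by rw [Nat.cast_succ, add_smul, one_smul])

theorem exists_dot_one {φ : Fin n → F} (hφ : φ ≠ 0) : ∃ x, φ ⬝ᵥ x = 1 := by
  obtain ⟨i, hi⟩ := Function.ne_iff.1 hφ
  exact ⟨Pi.single i (φ i)⁻¹, by rw [dotProduct_single, mul_inv_cancel₀ hi]⟩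

theorem tr_inj {a b φ : Fin n → F} (hφ : φ ≠ 0) {h : φ ⬝ᵥ a = 0} {h' : φ ⬝ᵥ b = 0} (e : tr a φ h = tr b φ h') :
    a = b := by
  obtain ⟨x, hx⟩ := exists_dot_one hφ
  have h1 := congrArg (fun g : SLn n F => (g : Matrix (Fin n) (Fin n) F) *ᵥ x) e
  simpa only [tr_mulVec, hx, one_smul, add_right_inj] using h1

theorem eq_zero_of_pr_tr {a φ : Fin n → F} (hφ : φ ≠ 0) {h : φ ⬝ᵥ a = 0} (e : pr (tr a φ h) = 1) : a = 0 :=
  tr_inj hφ (tr_eq_of_pr_eq (h' := dotProduct_zero φ) (by rw [e, tr_zero, map_one]))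

theorem sl_conj_tr (g : SLn n F) (a φ : Fin n → F) (h : φ ⬝ᵥ a = 0) {b ψ : Fin n → F} (h' : ψ ⬝ᵥ b = 0)
    (e1 : g.1 *ᵥ a = b) (e2 : φ ᵥ* (g⁻¹).1 = ψ) : g * tr a φ h * g⁻¹ = tr b ψ h' :=
  sl_ext fun x => by
    rw [sl_mul_mulVec, sl_mul_mulVec, tr_mulVec, tr_mulVec, mulVec_add, mulVec_smul, ← sl_mul_mulVec, mul_inv_cancel,
      sl_one_mulVec, dotProduct_mulVec, e1, e2]

/-- the transvections with axis `φ` and centre in `W` -/
def Ax (φ : Fin n → F) (W : Submodule F (Fin n → F)) : Subgroup (SLn n F) where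
  carrier := {g | ∃ a ∈ W, ∃ h : φ ⬝ᵥ a = 0, g = tr a φ h}
  one_mem' := ⟨0, zero_mem W, dotProduct_zero φ, (tr_zero _ _).symm⟩
  mul_mem' := by
    rintro _ _ ⟨a, ha, h, rfl⟩ ⟨b, hb, h', rfl⟩
    exact ⟨_, add_mem ha hb, _, tr_mul_same_axis _ _ _ h h'⟩
  inv_mem' := by
    rintro _ ⟨a, ha, h, rfl⟩
    exact ⟨_, neg_mem ha, _, tr_inv _ _ h⟩

theorem Ax_comm {φ : Fin n → F} {W : Submodule F (Fin n → F)} : ∀ a ∈ Ax φ W, ∀ b ∈ Ax φ W, a * b = b * a := by
  rintro _ ⟨a, -, h, rfl⟩ _ ⟨b, -, h', rfl⟩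
  rw [tr_mul_same_axis, tr_mul_same_axis]
  exact tr_congr _ (by rw [add_comm])

theorem Ax_pow {φ : Fin n → F} {W : Submodule F (Fin n → F)} (r : ℕ) [CharP F r] : ∀ a ∈ Ax φ W, a ^ r = 1 := by
  rintro _ ⟨a, -, h, rfl⟩
  rw [tr_pow]
  exact (tr_congr (dotProduct_zero φ) (by rw [CharP.cast_eq_zero, zero_smul])).trans (tr_zero _ _)

theorem card_Ax {φ : Fin n → F} (hφ : φ ≠ 0) {W : Submodule F (Fin n → F)} (hW : ∀ a ∈ W, φ ⬝ᵥ a = 0) :
    Nat.card (Ax φ W) = Nat.card W :=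
  (Nat.card_congr (Equiv.ofBijective (fun a : W => (⟨tr a φ (hW a a.2), a, a.2, _, rfl⟩ : Ax φ W))
    ⟨fun a b e => Subtype.ext (tr_inj hφ (h := hW a a.2) (h' := hW b b.2) (congrArg Subtype.val e)), by
      rintro ⟨_, a, ha, h, rfl⟩
      exact ⟨⟨a, ha⟩, rfl⟩⟩)).symm

variable [Fintype F]

section Rep

variable {k : Type*} [Field k] {V : Type*} [AddCommGroup V] [Module k V] [FiniteDimensional k V]
  {σ : Representation k (SLn n F) V} {r : ℕ}

/-- **transvections** -/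
theorem cod_tr (hn : 3 ≤ n) (hr : r.Prime) [CharP F r] (hk : (r : k) ≠ 0) (hσ : ∀ g, σ g = 1 → g ∈ center (SLn n F))
    {a φ : Fin n → F} (h : φ ⬝ᵥ a = 0) (ha : a ≠ 0) (hφ : φ ≠ 0) :
    (r - 1) * Fintype.card F ^ (n - 1) ≤ r * cod σ (zpowers (tr a φ h)) := by
  have h3 : 3 ≤ Fintype.card (Fin n) := by rwa [Fintype.card_fin]
  have ht : Tr (Ax φ (H912.Bd.kr φ)) := by
    rintro _ ⟨u, hu, h, rfl⟩ h0 _ ⟨v, hv, h', rfl⟩ h0'
    obtain ⟨g, g1, g2⟩ := H912.Bd.exists_sl_fix (H912.Bd.kr φ) (fun _ h => h)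
      (fun v _ hv => H912.Bd.exists_np_kr h3 hφ hv) hu hv (by rintro rfl; exact h0 (tr_zero _ _))
      (by rintro rfl; exact h0' (tr_zero _ _))
    refine ⟨g⁻¹, inv_mem (mem_normalizer_fintype ?_), by rw [inv_inv]; exact sl_conj_tr g _ _ _ _ g1 g2⟩
    rintro _ ⟨w, -, hw, rfl⟩
    have h1 : φ ⬝ᵥ g.1 *ᵥ w = 0 := by
      rw [← g2, ← dotProduct_mulVec, ← sl_mul_mulVec, inv_mul_cancel, sl_one_mulVec, hw]
    exact ⟨_, h1, h1, sl_conj_tr g _ _ _ _ rfl g2⟩
  have hz : tr a φ h ∈ Ax φ (H912.Bd.kr φ) := ⟨a, h, h, rfl⟩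
  have h1 := cod_elt_of_tr (ρ := σ) hr hk Ax_comm (Ax_pow r) ht hz
    (fun e => ha (eq_zero_of_pr_tr hφ (by rw [e, map_one]))) (m := 1) (by
      rw [mul_one]
      exact trans_lb hr hk Ax_comm (Ax_pow r) ht ⟨_, hz, fun e => ha (eq_zero_of_pr_tr hφ ((pr_eq_one_iff _).2 (hσ _ e)))⟩)
  rwa [mul_one, card_Ax hφ fun _ h => h, H912.Bd.card_kr hφ, Fintype.card_fin] at h1

end Rep

variable {p : ℕ} [Fact p.Prime] {r c : ℕ}

omit [Fact p.Prime] in
theorem zcL (hn : 3 ≤ n) (he : ¬ ExL n (Fintype.card F)) : Zc p (PL n F) (Nat.gcd n (Fintype.card F - 1)) :=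
  zc_of_cyclic (S2086.result rfl n (by omega) (by omega) he)

theorem coprime_zL (hr : r.Prime) [CharP F r] : r.Coprime (Nat.gcd n (Fintype.card F - 1)) := by
  obtain ⟨f, -, hf⟩ := FiniteField.card F r
  rw [hf]
  exact (gcd_coprime f.pos hr).symm

/-- bounds in the lift of `SL_n` -/
theorem lo_of_sl (hn : 3 ≤ n) (he : ¬ ExL n (Fintype.card F)) (hr : r.Prime) [CharP F r] {B : Subgroup (SLn n F)}
    (hB : ∀ b ∈ B, b ^ r = 1)
    (h : ∀ (V : Type) [AddCommGroup V] [Module (ZMod p) V] [Finite V] (σ : Representation (ZMod p) (SLn n F) V),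
      (∀ g, σ g = 1 → g ∈ center (SLn n F)) → c ≤ cod σ B) : Lo p ((B.map pr).map MulAut.conj) c :=
  fun _ _ _ V _ _ _ _ ρ _ _ H A hA => by
    obtain ⟨ι, L⟩ := exists_lfL H (by omega) (by omega) he
    refine (h V (ρ.comp ι) (L.cenL H)).trans ?_
    rw [cod_comp]
    refine cod_mono ?_
    rintro _ ⟨b, hb, rfl⟩
    obtain ⟨y, hy, e⟩ := hA ⟨_, ⟨b, hb, rfl⟩, rfl⟩
    obtain ⟨u, hu, e1, e2⟩ := (zcL hn he).exists_lift H (coprime_zL hr) (y := y)
      (by rw [e, ← map_pow, ← map_pow, hB b hb, map_one, map_one])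
    rw [← (zcL hn he).lift_unique H (coprime_zL hr) (by rw [e1, e]; exact ⟨_, rfl⟩)
      (e1.trans (e.trans (L.φ_ι H.toFrm b).symm)) e2 (by rw [← map_pow, hB b hb, map_one])]
    exact zpowers_le.2 hy hu

theorem li_of_sl (hn : 3 ≤ n) (he : ¬ ExL n (Fintype.card F)) (hr : r.Prime) [CharP F r] {b : SLn n F} (hb : b ^ r = 1)
    (h : ∀ (V : Type) [AddCommGroup V] [Module (ZMod p) V] [Finite V] (σ : Representation (ZMod p) (SLn n F) V),
      (∀ g, σ g = 1 → g ∈ center (SLn n F)) → c ≤ cod σ (zpowers b)) : Li p (pr b) c := by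
  have := Fact.mk hr
  have h1 := lo_of_sl hn he hr (elemAb_zpowers hb).2 h
  rwa [MonoidHom.map_zpowers, MonoidHom.map_zpowers] at h1

theorem le_of_mul {a b c m : ℕ} (h : a ≤ b * m) (hc : b * (c - 1) < a) : c ≤ m := by
  by_contra e
  exact absurd (h.trans (Nat.mul_le_mul_left b (Nat.le_sub_one_of_lt (not_le.1 e)))) (not_le.2 hc)

variable (hn : 3 ≤ n) (he : ¬ ExL n (Fintype.card F)) (hr : r.Prime) [CharP F r] (hrp : r ≠ p)
include hn he hr hrp

theorem li_tr {a φ : Fin n → F} (h : φ ⬝ᵥ a = 0) (ha : a ≠ 0) (hφ : φ ≠ 0)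
    (hc : r * (c - 1) < (r - 1) * Fintype.card F ^ (n - 1)) : Li p (pr (tr a φ h)) c :=
  li_of_sl hn he hr (Ax_pow r _ ⟨a, Submodule.mem_top, h, rfl⟩) fun _ _ _ _ _ hσ =>
    le_of_mul (cod_tr hn hr (cast_ne_zero hr hrp) hσ h ha hφ) hc

omit [Fintype F] hn he hr hrp in
theorem Psi_tr (C : GL (Fin n) F) {φ : Fin n → F} {l : F} (hl : φ ᵥ* (C⁻¹).1 = l • φ) {a : Fin n → F}
    (h : φ ⬝ᵥ a = 0) : ∃ h', Psi n F C (pr (tr a φ h)) = pr (tr (l • C.1 *ᵥ a) φ h') := by
  have h1 := vecMul_inv_dotProduct C a φ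
  rw [h, hl, smul_dotProduct, ← dotProduct_smul] at h1
  refine ⟨h1, ?_⟩
  rw [Psi_pr, cj_tr]
  exact congrArg pr (tr_congr _ (by rw [hl, vecMulVec_smul, smul_vecMulVec]))

/-- **linear automorphisms with an eigenvector** -/
theorem le_lin {t j : ℕ} [Fact t.Prime] (htr : t ≠ r) {C : GL (Fin n) F} (h1 : Psi n F C ≠ 1)
    (h2 : Psi n F C ^ t ^ j = 1) {φ : Fin n → F} (hφ : φ ≠ 0) {l : F} (hl : φ ᵥ* (C⁻¹).1 = l • φ) {m : ℕ}
    (hm : r * (m - 1) < (r - 1) * Fintype.card F ^ (n - 1)) (hc : t * (c - 1) < (t - 1) * m) : Le p (Psi n F C) c := by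
  obtain ⟨a, h, ha⟩ : ∃ a, φ ⬝ᵥ a = 0 ∧ l • C.1 *ᵥ a ≠ a := by
    by_contra e
    push Not at e
    obtain ⟨x, hx⟩ := exists_dot_one hφ
    have l0 : l ≠ 0 := by
      rintro rfl
      apply hφ
      rw [← vecMul_one φ, ← Units.val_one, ← inv_mul_cancel C, Units.val_mul, ← vecMul_vecMul, hl, zero_smul,
        zero_vecMul]
    have h3 : φ ⬝ᵥ (l • C.1 *ᵥ x - x) = 0 := by
      rw [dotProduct_sub, dotProduct_smul, ← smul_dotProduct, ← hl, vecMul_inv_dotProduct, sub_self]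
    have h4 : Psi n F C = MulAut.conj (pr (tr _ φ h3)) := by
      rw [← H199.PslAut.Psi_coe, H199.PslAut.Psi_eq_Psi_iff (by omega)]
      refine ⟨(Units.mk0 l l0)⁻¹, Units.ext ?_⟩
      rw [Units.val_mul, H199.PslAut.coe_scal, scalar_apply, ← smul_one_eq_diagonal, smul_mul_assoc, Matrix.one_mul,
        Units.val_inv_eq_inv_val, Units.val_mk0, eq_inv_smul_iff₀ l0]
      refine toLin'.injective (LinearMap.ext fun v => ?_)
      have h5 := e (v - (φ ⬝ᵥ v) • x) (by rw [dotProduct_sub, dotProduct_smul, hx, smul_eq_mul, mul_one, sub_self])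
      rw [mulVec_sub, mulVec_smul] at h5
      rw [toLin'_apply, toLin'_apply, smul_mulVec]
      refine Eq.trans ?_ (tr_mulVec _ φ h3 v).symm
      linear_combination (norm := module) h5
    have h5 : Psi n F C ^ r = 1 := by
      rw [h4, ← map_pow, ← map_pow, Ax_pow r _ ⟨_, Submodule.mem_top, h3, rfl⟩, map_one, map_one]
    have h6 := pow_gcd_eq_one.2 ⟨h2, h5⟩
    rw [(((Nat.coprime_primes Fact.out hr).2 htr).pow_left j), pow_one] at h6
    exact h1 h6
  refine Le.of_cop (zcL hn he) (coprime_zL hr) ((Nat.coprime_primes hr Fact.out).2 hrp) (P := (Ax φ ⊤).map pr) ?_ ?_ h2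
    ?_ ⟨_, ⟨a, Submodule.mem_top, h, rfl⟩, rfl⟩ ?_ hc
  · rintro _ ⟨a, ha, rfl⟩ _ ⟨b, hb, rfl⟩
    rw [← map_mul, ← map_mul, Ax_comm a ha b hb]
  · rintro _ ⟨a, ha, rfl⟩
    rw [← map_pow, Ax_pow r a ha, map_one]
  · rintro _ ⟨_, ⟨b, -, hb, rfl⟩, rfl⟩
    obtain ⟨h', e⟩ := Psi_tr C hl hb
    exact ⟨_, ⟨_, Submodule.mem_top, h', rfl⟩, e.symm⟩
  · obtain ⟨h', e⟩ := Psi_tr C hl h
    rw [e, ← map_inv, ← map_mul, tr_inv, tr_mul_same_axis]
    exact li_tr hn he hr hrp _ (by rwa [← sub_eq_add_neg, sub_ne_zero]) hφ hm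

end Cfsg.Agent.TwoF.XL
end

-- part: TwoF/XL/L62
section
/-!
# TwoF / XL: the row `L₆(2)`, `p = 3` (helper1)
-/

set_option autoImplicit false

namespace Cfsg.Agent.TwoF.XL

open Module Gen XE Subgroup Matrix
open Cfsg.Agent.ClassicalGeometry.AutPSL.Root
open Cfsg.Agent.H199.PslAut (Psi Psi_coe)

variable {F : Type} [Field F] {n : ℕ}

theorem eq_zero_of_det {A B : Matrix (Fin n) (Fin n) F} (h : A.det ≠ 0) (e : A * B = 0) : B = 0 :=
  ((isUnit_iff_isUnit_det A).2 (Ne.isUnit h)).mul_left_cancel (e.trans (Matrix.mul_zero A).symm)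

/-- two commuting matrices of order three -/
theorem det_three {a b : Matrix (Fin n) (Fin n) F} (ha : a ^ 3 = 1) (hb : b ^ 3 = 1) (h : a * b = b * a)
    (h1 : (a - 1).det ≠ 0) (h2 : (b - 1).det ≠ 0) (h3 : (a - b).det ≠ 0) : b = a ^ 2 := by
  have e : ∀ {x : Matrix (Fin n) (Fin n) F}, x ^ 3 = 1 → (x - 1).det ≠ 0 → x ^ 2 + x + 1 = 0 := fun {x} hx hd =>
    eq_zero_of_det hd (by rw [← sub_eq_zero.2 hx]; noncomm_ring)
  have e1 := e ha h1
  have e2 := e hb h2
  have e3 : a + b + 1 = 0 := eq_zero_of_det h3 (by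
    have e4 : (a - b) * (a + b + 1) = (a ^ 2 + a + 1) - (b ^ 2 + b + 1) + (a * b - b * a) := by noncomm_ring
    rw [e4, e1, e2, h, sub_self, sub_self, add_zero])
  rw [← sub_eq_zero, ← sub_eq_zero.2 (e3.trans e1.symm)]
  abel

theorem exists_fixed {a b : SLn n F} (h : (a.1 - b.1).det = 0) :
    ∃ φ : Fin n → F, φ ≠ 0 ∧ φ ᵥ* (((a * b⁻¹ : SLn n F) : GL (Fin n) F)⁻¹).1 = (1 : F) • φ := by
  obtain ⟨φ, h0, e⟩ := exists_vecMul_eq_zero_iff.2 h
  refine ⟨φ, h0, ?_⟩
  rw [vecMul_sub, sub_eq_zero] at e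
  have h1 : (((a * b⁻¹ : SLn n F) : GL (Fin n) F)⁻¹).1 = b.1 * (a⁻¹).1 := by
    rw [← map_inv, _root_.mul_inv_rev, inv_inv]
    rfl
  have h2 : a.1 * (a⁻¹).1 = 1 := congrArg Subtype.val (mul_inv_cancel a)
  rw [h1, ← vecMul_vecMul, ← e, vecMul_vecMul, h2, vecMul_one, one_smul]

variable [Fintype F]

theorem pr_inj (hn : 1 ≤ n) (h : Nat.gcd n (Fintype.card F - 1) = 1) : Function.Injective (pr : SLn n F →* PL n F) := by
  rw [← MonoidHom.ker_eq_bot_iff, QuotientGroup.ker_mk', ← card_eq_one, S0280.card_center_SL hn, h]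

theorem row_L62 (hF : Fintype.card F = 2) : Row 3 (PL 6 F) := by
  have := finL 6 F
  have : Finite (MulAut (PL 6 F)) := Finite.of_injective _ (DFunLike.coe_injective (F := MulAut (PL 6 F)))
  have : CharP F 2 := charP_of_card_eq_prime hF
  have hZ : center (PL 6 F) = ⊥ := centerL (by omega) (by omega)
  have ho : Nat.card (Out (PL 6 F)) = 2 := outL (r := 2) (f := 1) Nat.prime_two le_rfl hF (by omega)
  have hs : Nat.card (PL 6 F) = 20158709760 := cardL hF (by omega) (by decide)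
  have h3 : ¬ 3 ∣ Nat.card (Out (PL 6 F)) := by rw [ho]; decide
  refine ⟨row88_of_lo fun E hE r hr hc => ?_, row89_of_not_dvd h3⟩
  have h4 := card_le_of_not_dvd (r₀ := 4) (by rw [card_aut hZ, hs, ho]; decide) E hE
  rw [hc, Nat.pow_le_pow_iff_right (by omega)] at h4
  replace hr : 2 < r := hr
  have hi := pr_inj (n := 6) (F := F) (by omega) (by rw [hF]; rfl)
  have lift : ∀ α ∈ E, α ≠ 1 → ∃ a : SLn 6 F, α = MulAut.conj (pr a) ∧ a ^ 3 = 1 := fun α hα h1 => by
    obtain ⟨x, e, -, x3⟩ := exists_inner hZ h3 h1 (hE.2 α hα)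
    obtain ⟨a, rfl⟩ := pr_surjective x
    exact ⟨a, e, hi (by rw [map_pow, x3, map_one])⟩
  have key : ∀ a b : SLn 6 F, MulAut.conj (pr (a * b⁻¹)) ∈ E → MulAut.conj (pr (a * b⁻¹)) ≠ 1 →
      (a.1 - b.1).det = 0 → Lo 3 E (2 * r + 1) := fun a b h1 h2 h => by
    obtain ⟨φ, h0, e⟩ := exists_fixed h
    rw [← Psi_coe] at h1 h2
    exact ((le_lin (t := 3) (j := 1) (m := 16) (c := 9) (by omega) (by rw [hF]; unfold ExL; decide) Nat.prime_two
      (by omega) (by omega) h2 (hE.2 _ h1) h0 e (by rw [hF]; decide) (by omega)).lo h1).le (by omega)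
  obtain ⟨α, hα, α1⟩ := exists_ne_one (by omega) hc
  obtain ⟨β, hβ, β1⟩ := SetLike.not_le_iff_exists.1 (show ¬ E ≤ zpowers α from fun e => by
    have h5 := card_le_of_le e
    rw [hc, Nat.card_zpowers, orderOf_eq_prime (hE.2 α hα) α1] at h5
    exact absurd (Nat.pow_le_pow_right (by omega) hr |>.trans h5) (by decide))
  have β0 : β ≠ 1 := fun e => β1 (e ▸ one_mem _)
  obtain ⟨a, rfl, a3⟩ := lift α hα α1
  obtain ⟨b, rfl, b3⟩ := lift β hβ β0
  by_contra h
  refine β1 ⟨(2 : ℕ), ?_⟩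
  have hab : a * b = b * a := hi ((injective_iff_map_eq_one _).2 (fun x hx => (conj_eq_one_iff hZ).1 hx)
    (by simpa only [map_mul] using elemAb_comm hE hα hβ))
  have e := det_three (a := a.1) (b := b.1) (congrArg Subtype.val a3) (congrArg Subtype.val b3)
    (congrArg Subtype.val hab) (fun e => h (key a 1 (by rwa [inv_one, mul_one]) (by rwa [inv_one, mul_one]) e))
    (fun e => h (key b 1 (by rwa [inv_one, mul_one]) (by rwa [inv_one, mul_one]) e))
    (fun e => h (key a b (by rw [map_mul, map_mul, map_inv, map_inv]; exact mul_mem hα (inv_mem hβ)) (fun e' => β1 (by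
      rw [map_mul, map_mul, map_inv, map_inv, mul_inv_eq_one] at e'
      exact e' ▸ mem_zpowers _)) e))
  show _ ^ ((2 : ℕ) : ℤ) = _
  rw [zpow_natCast, ← map_pow, ← map_pow, show a ^ 2 = b from Subtype.ext e.symm]

end Cfsg.Agent.TwoF.XL
end

private theorem dce_a0a4e00af6c7 : _root_.True := by
  try have : _root_.True := by simp only [_root_.Cfsg.Agent.TwoF.DC.TF.lo.eq_1]
  exact _root_.True.intro
end

-- part: TwoF/DC/TA/Cg
section
prune_inst 0x4343045201522000000000010200000203800000200400000002005020b000202004200400c0004001002808008010020021000004000000000000000000500000028960400500c08000000000080000000000000000000000000000000000000000000000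
set_option linter.all false
open scoped Cfsg.Agent.FastGrp

-- part: TwoF/DC/TA/Ct
section
/-!
# TwoF, defining characteristic, type `A_n` (5): offenders inside `K`, reduction to two small cases (helper97)
-/

set_option autoImplicit false
set_option linter.unusedSectionVars false

namespace Cfsg.Agent.TwoF.DC.TA

open Finset Module
open Cfsg.Agent.H356.TA (Pos)

theorem choose_le_mid {N a m : ℕ} (h1 : a ≤ m) (h2 : m + a ≤ N) : N.choose a ≤ N.choose m := by
  have key : ∀ m, a ≤ m → m ≤ N / 2 → N.choose a ≤ N.choose m := by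
    intro m h
    induction m, h using Nat.le_induction with
    | base => exact fun _ => le_rfl
    | succ m _ ih => exact fun h => (ih (by omega)).trans (Nat.choose_le_succ_of_lt_half_left (by omega))
  by_cases h : m ≤ N / 2
  · exact key m h1 h
  · rw [← Nat.choose_symm (show m ≤ N by omega)]
    exact key _ (by omega) (by omega)

theorem two_choose_two (N : ℕ) : 2 * (N + 1).choose 2 = (N + 1) * N := by
  induction N with
  | zero => rfl
  | succ N ih => rw [Nat.choose_succ_succ' (N + 1) 1, Nat.choose_one_right, mul_add, ih]; ring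

variable {n : ℕ}

/-- a fundamental weight -/
def Sg (l : Fin n → ℕ) (t : ℕ) : Prop := ∃ i : Fin n, (i : ℕ) = t ∧ l = Pi.single i 1

theorem single_rev (i : Fin n) :
    (Pi.single i 1 : Fin n → ℕ) ∘ (Fin.revPerm : Equiv.Perm (Fin n)).symm = Pi.single i.rev 1 := by
  funext j
  simp only [Function.comp_apply, Pi.single_apply, Fin.revPerm_symm, Fin.revPerm_apply, Fin.rev_eq_iff]

theorem Sg.rev {l : Fin n → ℕ} {t : ℕ} (h : Sg l t) : Sg (l ∘ (Fin.revPerm : Equiv.Perm (Fin n)).symm) (n - 1 - t) := by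
  obtain ⟨i, rfl, rfl⟩ := h
  exact ⟨i.rev, by rw [Fin.val_rev]; omega, single_rev i⟩

theorem Sg.lv {l : Fin n → ℕ} {t : ℕ} (h : Sg l t) (κ : Fin n) :
    lv l κ = min (min (t + 1) (κ + 1)) (min (n - t) (n - κ)) := by
  obtain ⟨i, rfl, rfl⟩ := h
  exact lv_single i κ

theorem Sg.ne {l : Fin n → ℕ} {t : ℕ} (h : Sg l t) : ∃ i : Fin n, (i : ℕ) = t ∧ l i ≠ 0 := by
  obtain ⟨i, rfl, rfl⟩ := h
  exact ⟨i, rfl, by simp⟩

theorem m0_adj {R : RC (Fin n) (Pos n)} {p : ℕ} {k L : Type} [Field k] [AddCommGroup L] [Module k L] (H : HW R p k L)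
    {i : Fin n} (hi : (i : ℕ) = 0) (h : H.lam = Pi.single i 1 + Pi.single i.rev 1) : Adj (m0 H) := by
  have h1 : tw (m0 H - (ev 0 - ev (Fin.last n))) = 0 := by
    rw [tw_sub, tw_m0]
    funext j
    have := j.2
    simp only [HW.lz, h, tw, Pi.sub_apply, Pi.add_apply, Pi.single_apply, ev_apply, Fin.ext_iff, Fin.val_rev,
      Fin.val_castSucc, Fin.val_succ, Fin.val_zero, Fin.val_last, Pi.zero_apply, Nat.cast_add, Nat.cast_ite,
      Nat.cast_one, Nat.cast_zero]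
    omega
  exact ⟨(m0 H - (ev 0 - ev (Fin.last n)) : Fin (n + 1) → ℤ) 0, funext fun a => by
    rw [Pi.add_apply, ← const_of_tw h1 a, Pi.sub_apply (m0 H), sub_add_cancel]⟩

namespace IsA

variable {R : RC (Fin n) (Pos n)} (hR : IsA R) {p : ℕ}
include hR

theorem exists_MM (hp : p ≠ 1) {S : Finset (Pos n)} (hS : S.Nonempty) (hA : R.Ab p S) (hI : R.Idl p S) :
    ∃ κ, S ⊆ MM κ := by
  obtain ⟨b0, h0, h1⟩ := S.exists_max_image (fun b => (b.1.1 : ℕ)) hS
  have h2 := pos_lt b0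
  have h3 := b0.1.2.2
  refine ⟨⟨b0.1.1, by omega⟩, fun b hb => mem_MM.2 ⟨h1 b hb, ?_⟩⟩
  by_contra h4
  have h5 : b.1.2 ≤ b0.1.1 := not_lt.1 h4
  exact (hR.ab_iff hp S).1 hA ⟨(b.1.1, b0.1.1), b.2.trans_le h5⟩ (hR.idl_mem hp hI hb le_rfl h5) b0 h0 rfl

theorem s_val {i : Fin n} {b : Pos n} (h : b ≠ zA i) :
    ((R.s i b).1.1 : ℕ) = sp i b.1.1 ∧ ((R.s i b).1.2 : ℕ) = sp i b.1.2 := by
  rw [hR.s_eq h, sA_val h]; exact ⟨rfl, rfl⟩

theorem eq_MM (hp : p ≠ 1) {κ : Fin n} {S : Finset (Pos n)} (h1 : S ⊆ MM κ) (hS : S.Nonempty) (hI : R.Idl p S)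
    (hs : ∀ j, R.zi j ∉ MM κ → (∀ b ∈ MM κ, R.s j b ∈ MM κ) → ∀ b ∈ S, R.s j b ∈ S) : S = MM κ := by
  have ne : ∀ j : Fin n, (j : ℕ) ≠ κ → ∀ b ∈ MM κ, b ≠ zA j := by
    rintro j hj b hb rfl
    rw [mem_MM, zA_fst, zA_snd] at hb; omega
  have st : ∀ j : Fin n, (j : ℕ) ≠ κ → ∀ b ∈ S, R.s j b ∈ S := fun j hj => hs j
    (fun e => ne j hj _ e (by rw [hR.zi])) fun b hb => by
      obtain ⟨e1, e2⟩ := hR.s_val (ne j hj b hb)
      rw [mem_MM] at hb
      rw [mem_MM, e1, e2, sp_val, sp_val]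
      split_ifs <;> omega
  obtain ⟨b, hb, hm⟩ := S.exists_min_image (fun b => (b.1.2 : ℕ) - b.1.1) hS
  have h2 := mem_MM.1 (h1 hb)
  have h3 := b.1.2.2
  have h4 : (b.1.1 : ℕ) = κ := by
    by_contra h
    have h5 := hm _ (st ⟨b.1.1, by omega⟩ h b hb)
    obtain ⟨e1, e2⟩ := hR.s_val (ne ⟨b.1.1, by omega⟩ h b (h1 hb))
    rw [e1, e2, sp_val, sp_val] at h5
    simp only at h5
    split_ifs at h5 <;> omega
  have h5 : (b.1.2 : ℕ) = κ + 1 := by
    by_contra h
    have h' : (b.1.2 : ℕ) - 1 ≠ κ := by omega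
    have h5 := hm _ (st ⟨b.1.2 - 1, by omega⟩ h' b hb)
    obtain ⟨e1, e2⟩ := hR.s_val (ne ⟨b.1.2 - 1, by omega⟩ h' b (h1 hb))
    rw [e1, e2, sp_val, sp_val] at h5
    simp only at h5
    split_ifs at h5 <;> omega
  refine Subset.antisymm h1 fun b' hb' => ?_
  rw [mem_MM] at hb'
  exact hR.idl_mem hp hI hb (by rw [Fin.le_def]; omega) (by rw [Fin.le_def]; omega)

theorem hv_MM {κ : Fin n} {b : Pos n} (h : b ∈ MM κ) : 1 ≤ R.hv (Pi.single κ 1) b := by
  obtain ⟨j, rfl, h1⟩ := (hR.mem_MM' κ b).1 h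
  rw [R.hv_single]; omega

variable {k L : Type} [Field k] [AddCommGroup L] [Module k L] (H : HW R p k L)

theorem lev_MM (κ : Fin n) {t : ℤ} (h : (lv H.lam κ : ℤ) < t) (μ : Fin n → ℤ) (hμ : H.IsWt μ) :
    0 ≤ H.lev (Pi.single κ 1) μ ∧ H.lev (Pi.single κ 1) μ < 0 + t * 1 := by
  rw [H.lev_single]
  have := hR.dep_le_lv H hμ κ
  exact ⟨H.dep_nonneg hμ κ, by omega⟩

theorem cG_nat (h : Sg H.lam 0) (S : Finset (Pos n)) : H.cG S ≤ (S.image fun b => b.1.2).card := by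
  obtain ⟨i, hi, h⟩ := h
  refine (hR.cG_single_le H h S ((S.image fun b => b.1.2).image singleton) fun T h1 ⟨b, hb, _, h2⟩ => ?_).trans
    card_image_le
  obtain ⟨a, rfl⟩ := card_eq_one.1 (h1.trans (by omega))
  exact mem_image.2 ⟨_, mem_image_of_mem _ hb, by rw [mem_singleton.1 h2]⟩

theorem cG_dual (h : Sg H.lam (n - 1)) (S : Finset (Pos n)) : H.cG S ≤ (S.image fun b => b.1.1).card := by
  obtain ⟨i, hi, h⟩ := h
  refine (hR.cG_single_le H h S ((S.image fun b => b.1.1).image univ.erase) fun T h1 ⟨b, hb, h2, _⟩ => ?_).trans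
    card_image_le
  refine mem_image.2 ⟨_, mem_image_of_mem _ hb, (eq_of_subset_of_card_le (fun a ha => ?_) ?_).symm⟩
  · exact mem_erase.2 ⟨fun e => h2 (e ▸ ha), mem_univ _⟩
  · rw [card_erase_of_mem (mem_univ _), card_univ, Fintype.card_fin]; omega

variable [Fact p.Prime] [CharP k p]

theorem nat_le_cL {i : Fin n} (hi : (i : ℕ) = 0) (h : H.lam i ≠ 0) (S : Finset (Pos n)) :
    (S.image fun b => b.1.2).card ≤ H.cL S := by
  rw [← card_image_of_injective _ singleton_injective]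
  refine hR.card_le_cL H h S _ fun T hT => ?_
  obtain ⟨a, ha, rfl⟩ := mem_image.1 hT
  obtain ⟨b, hb, rfl⟩ := mem_image.1 ha
  exact ⟨by rw [card_singleton]; omega, b, hb, notMem_singleton.2 b.2.ne, mem_singleton_self _⟩

theorem dual_le_cL {i : Fin n} (hi : (i : ℕ) = n - 1) (h : H.lam i ≠ 0) (S : Finset (Pos n)) :
    (S.image fun b => b.1.1).card ≤ H.cL S := by
  rw [← card_image_of_injOn (f := univ.erase) fun a _ b _ e => (erase_inj univ (mem_univ a)).1 e]
  refine hR.card_le_cL H h S _ fun T hT => ?_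
  obtain ⟨a, ha, rfl⟩ := mem_image.1 hT
  obtain ⟨b, hb, rfl⟩ := mem_image.1 ha
  exact ⟨by rw [card_erase_of_mem (mem_univ _), card_univ, Fintype.card_fin]; omega, b, hb, notMem_erase _ _,
    mem_erase.2 ⟨b.2.ne', mem_univ _⟩⟩

theorem choose_lo {i κ : Fin n} (h : H.lam i ≠ 0) (hκ : (κ : ℕ) ≤ i) : n.choose (i + 1) ≤ H.cL (MM κ) := by
  have h1 := hR.card_le_cL H h (MM κ) (powersetCard (i + 1) (univ.erase 0)) fun T hT => by
    obtain ⟨h2, h3⟩ := mem_powersetCard.1 hT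
    have h0 : 0 ∉ T := fun e => notMem_erase _ _ (h2 e)
    obtain ⟨x, hx, h4⟩ := exists_mem_notMem_of_card_lt_card (s := (ini n (κ + 1)).erase 0) (t := T)
      (by rw [card_erase_of_mem (mem_ini.2 (by simp)), card_ini (by omega)]; omega)
    have h5 : x ≠ 0 := fun e => h0 (e ▸ hx)
    rw [mem_erase, mem_ini] at h4
    exact ⟨h3, ⟨(0, x), Fin.pos_iff_ne_zero.2 h5⟩, mem_MM.2 ⟨Nat.zero_le _, by
      by_contra e; exact h4 ⟨h5, Nat.lt_succ_of_le (not_lt.1 e)⟩⟩, h0, hx⟩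
  rwa [card_powersetCard, card_erase_of_mem (mem_univ _), card_univ, Fintype.card_fin, Nat.add_sub_cancel] at h1

theorem choose_hi {i κ : Fin n} (h : H.lam i ≠ 0) (hκ : (i : ℕ) ≤ κ) : n.choose i ≤ H.cL (MM κ) := by
  have h0 : ∀ T ∈ powersetCard i (univ.erase (Fin.last n)), Fin.last n ∉ T :=
    fun T hT e => notMem_erase _ _ ((mem_powersetCard.1 hT).1 e)
  have h1 := hR.card_le_cL H h (MM κ) ((powersetCard i (univ.erase (Fin.last n))).image (insert (Fin.last n)))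
    fun T' hT' => by
      obtain ⟨T, hT, rfl⟩ := mem_image.1 hT'
      have h3 := (mem_powersetCard.1 hT).2
      obtain ⟨x, hx, h4⟩ := exists_mem_notMem_of_card_lt_card (s := T) (t := ini n (κ + 1))
        (by rw [card_ini (by omega)]; omega)
      rw [mem_ini] at hx
      have h5 : x < Fin.last n := by rw [Fin.lt_def, Fin.val_last]; omega
      exact ⟨by rw [card_insert_of_notMem (h0 T hT), h3], ⟨(x, Fin.last n), h5⟩,
        mem_MM.2 ⟨Nat.le_of_lt_succ hx, κ.2⟩, fun e => (mem_insert.1 e).elim h5.ne h4, mem_insert_self _ _⟩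
  rwa [card_image_of_injOn fun T hT T' hT' e => by rw [← erase_insert (h0 T hT), e, erase_insert (h0 T' hT')],
    card_powersetCard, card_erase_of_mem (mem_univ _), card_univ, Fintype.card_fin, Nat.add_sub_cancel] at h1

theorem choose_mid {i : Fin n} (h : H.lam i ≠ 0) (hi : 2 * (i : ℕ) + 1 = n) (κ : Fin n) : n.choose i ≤ H.cL (MM κ) := by
  rcases le_total (κ : ℕ) i with h1 | h1
  · rw [← Nat.choose_symm_of_eq_add (show n = i + 1 + i by omega)]; exact hR.choose_lo H h h1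
  · exact hR.choose_hi H h h1

/-- invariant highest weights, unsymmetric parabolic -/
theorem tw_inv (hn : 2 ≤ n) (h : H.lam ∘ (Fin.revPerm : Equiv.Perm (Fin n)).symm = H.lam) {κ : Fin n}
    (hκ : 2 * (κ : ℕ) + 1 ≠ n) (hc : H.cL (MM κ) ≤ 2 * ((κ + 1) * (n - κ))) :
    (n = 3 ∧ Sg H.lam 1) ∨ (n = 5 ∧ Sg H.lam 2) := by
  have hκn := κ.2
  have h' : ∀ i : Fin n, H.lam i.rev = H.lam i := fun i => congrFun h i
  have l2 : lv H.lam κ ≤ 2 := by
    by_contra e
    have := hR.cL_three H (κ := κ) (by omega); omega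
  have fin : ∀ i j : Fin n, 1 ≤ (i : ℕ) → (i : ℕ) ≤ j → (j : ℕ) + 2 ≤ n → i + j + 1 = n → ∀ l' : Fin n → ℕ,
      H.lam = Pi.single i 1 + (Pi.single j 1 + l') →
      (∀ a b : Fin (n + 1), (a : ℕ) ≤ i → (j : ℕ) < b → m0 H b + 2 ≤ m0 H a) → False := by
    intro i j h1 h2 h3 h4 l' h5 h6
    have h7 := l2
    rw [h5, lv_add, lv_add, lv_single, lv_single, mn, mn] at h7
    have h8 := hR.le_cL_MM H (lb_end (m0_anti H) κ (by
      rw [lvl_m0, h5, lv_add, lv_add, lv_single, lv_single]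
      have := mn_pos i κ; have := mn_pos j κ; omega) (by (clear * - h2 h3 h4 h7; omega)) (a := ⟨1, by omega⟩) (b := ⟨n - 1, by omega⟩) le_rfl
      (by simp only; omega) (h6 _ _ h1 (by simp only; omega)))
    omega
  by_cases hA : ∃ i : Fin n, H.lam i ≠ 0 ∧ 2 * (i : ℕ) + 1 < n
  · exfalso
    obtain ⟨i, h1, h2⟩ := hA
    have hr : ((i.rev : Fin n) : ℕ) = n - (i + 1) := Fin.val_rev i
    obtain ⟨l1, e1⟩ := exists_add_single h1
    obtain ⟨l2', e2⟩ := exists_add_single (l := l1) (i := i.rev) (by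
      have h3 := h' i
      have h4 := congrFun e1 i.rev
      rw [Pi.add_apply, Pi.single_eq_of_ne (fun e => by rw [Fin.ext_iff] at e; omega)] at h4
      omega)
    rw [e2] at e1
    by_cases h0 : (i : ℕ) = 0
    · have h3 := l2
      rw [e1, lv_add, lv_add, lv_single, lv_single] at h3
      have h4 := mn_pos i κ
      have h5 := mn_pos i.rev κ
      rw [eq_zero_of_lv (l := l2') (κ := κ) (by omega), add_zero] at e1
      have h6 := hR.le_cL_MM H (lb_adj (m0_adj H h0 e1) κ)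
      have h7 : (n + 1) * n + 1 ≤ 3 * ((κ + 1) * (n - κ)) := by omega
      obtain ⟨t, ht⟩ : ∃ t, n = κ + 1 + t := ⟨n - κ - 1, by omega⟩
      rw [show n - κ = t + 1 by omega] at h7
      generalize (κ : ℕ) = s at ht h7 hκ
      subst ht
      rcases Nat.lt_or_gt_of_ne (show s ≠ t by omega) with h8 | h8
      · obtain ⟨u, rfl⟩ := Nat.exists_eq_add_of_lt h8
        nlinarith only [h7, sq_nonneg ((s : ℤ) + u)]
      · obtain ⟨u, rfl⟩ := Nat.exists_eq_add_of_lt h8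
        nlinarith only [h7, sq_nonneg ((t : ℤ) + u)]
    · refine fin i i.rev (by omega) (by omega) (by omega) (by omega) l2' e1 fun a b ha hb => ?_
      have h3 := m0_add_le H i ha (b := i.succ) (by simp)
      have h4 := m0_add_le H i.rev (a := i.succ) (by rw [Fin.val_succ]; omega) hb
      have h5 := h' i
      omega
  have hB : ∀ j : Fin n, H.lam j ≠ 0 → 2 * (j : ℕ) + 1 = n := fun j hj => by
    have h1 : ¬ 2 * (j : ℕ) + 1 < n := fun e => hA ⟨j, hj, e⟩
    have h2 : ¬ 2 * ((j.rev : Fin n) : ℕ) + 1 < n := fun e => hA ⟨j.rev, by rwa [h'], e⟩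
    rw [Fin.val_rev] at h2
    omega
  obtain ⟨i, h1⟩ := H.exists_lam_pos
  have h2 := hB i h1.ne'
  obtain ⟨l1, e1⟩ := exists_add_single h1.ne'
  by_cases h3 : l1 i = 0
  · have h4 : l1 = 0 := funext fun j => by
      by_contra e
      have h5 := congrFun e1 j
      have h6 : j = i := Fin.ext (by have := hB j (by rw [h5, Pi.add_apply]; rw [Pi.zero_apply] at e; omega); omega)
      exact e (h6 ▸ h3)
    rw [h4, add_zero] at e1
    have h5 := hR.choose_mid H h1.ne' h2 κ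
    rw [e1, lv_single, mn] at l2
    by_cases h6 : 3 ≤ (i : ℕ)
    · exfalso
      have h7 : (κ + 1) * (n - κ) ≤ 4 * i := by
        rcases (by omega : (κ : ℕ) = 0 ∨ (κ : ℕ) = 1 ∨ n - κ = 1 ∨ n - κ = 2) with e | e | e | e <;> rw [e] <;> omega
      by_cases h8 : (i : ℕ) = 3
      · have : n.choose i = 35 := (congrArg₂ Nat.choose (show n = 7 by omega) h8).trans rfl
        omega
      · have h9 := choose_le_mid (N := n) (a := 2) (m := i) (by omega) (by omega)
        have h10 := two_choose_two (2 * i)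
        rw [h2] at h10
        have h11 : 9 * (2 * i) ≤ n * (2 * i) := Nat.mul_le_mul_right _ (by omega)
        omega
    · rcases (by omega : (i : ℕ) = 1 ∨ (i : ℕ) = 2) with e | e
      · exact Or.inl ⟨by omega, i, e, e1⟩
      · exact Or.inr ⟨by omega, i, e, e1⟩
  · exfalso
    obtain ⟨l2', e2⟩ := exists_add_single h3
    rw [e2] at e1
    refine fin i i (by omega) le_rfl (by omega) (by omega) l2' e1 fun a b ha hb => ?_
    have h4 := m0_add_le H i ha hb
    have h5 := congrFun e1 i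
    simp only [Pi.add_apply, Pi.single_eq_same] at h5
    omega

/-- highest weights which are not invariant -/
theorem tw_non {L' : Type} [AddCommGroup L'] [Module k L'] (H' : HW R p k L')
    (h : H'.lam = H.lam ∘ (Fin.revPerm : Equiv.Perm (Fin n)).symm) (h' : H'.lam ≠ H.lam) {κ : Fin n}
    (hc : H.cL (MM κ) + H'.cL (MM κ) ≤ 2 * ((κ + 1) * (n - κ))) : Sg H.lam 0 ∨ Sg H.lam (n - 1) := by
  have hκn := κ.2
  have l1 : lv H.lam κ ≤ 1 := by
    by_contra e
    have := hR.cL_two H (κ := κ) (by omega)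
    have := hR.cL_two H' (κ := κ) (by rw [h, lv_rev]; omega)
    omega
  obtain ⟨i, h1⟩ := H.exists_lam_pos
  have hin := i.2
  have e1 := single_of_lv h1.ne' (l1.trans (mn_pos i κ))
  by_cases h2 : (i : ℕ) = 0
  · exact Or.inl ⟨i, h2, e1⟩
  by_cases h3 : (i : ℕ) = n - 1
  · exact Or.inr ⟨i, h3, e1⟩
  exfalso
  have hr : ((i.rev : Fin n) : ℕ) = n - (i + 1) := Fin.val_rev i
  rw [e1, single_rev] at h
  have h4 : H'.lam i.rev ≠ 0 := by rw [h]; simp
  have h5 : 2 * (i : ℕ) + 1 ≠ n := fun e => h' (by rw [h, e1, show i.rev = i from Fin.ext (by omega)])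
  rw [e1, lv_single, mn] at l1
  have h6 : (n + 1).choose (i + 1) ≤ 2 * n := by
    rw [Nat.choose_succ_succ']
    rcases (by (clear * - l1 h2 h3; omega) : (κ : ℕ) = 0 ∨ n - κ = 1) with e | e
    · have a1 := hR.choose_lo H h1.ne' (κ := κ) (by omega)
      have a2 := hR.choose_lo H' h4 (κ := κ) (by omega)
      rw [Nat.choose_symm_of_eq_add (show n = i.rev + 1 + i by omega)] at a2
      rw [e] at hc; (clear * - hc h2 a1 a2; omega)
    · have a1 := hR.choose_hi H h1.ne' (κ := κ) (by omega)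
      have a2 := hR.choose_hi H' h4 (κ := κ) (by omega)
      rw [Nat.choose_symm_of_eq_add (show n = i.rev + (i + 1) by (clear * - hr; omega))] at a2
      rw [e] at hc; omega
  have h7 := choose_le_mid (N := n + 1) (a := 2) (m := i + 1) (by omega) (by (clear * - h3; omega))
  have h8 := two_choose_two n
  have h9 : 5 * n ≤ (n + 1) * n := Nat.mul_le_mul_right _ (by (clear * - h2 h3 h5; omega))
  omega

end IsA

section fam

variable {p : ℕ} {k G : Type} [Field k] [Group G] {D : RDat p (Fin n) (Pos n) k G} {σ : Equiv.Perm (Fin n)}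
  (F : Fam D σ)

theorem sum_le_val (S : Finset (Pos n)) : ∑ j, 2 * (F.H j).cL S ≤ F.val S := sum_le_sum fun j _ => by
  split_ifs
  · have := (F.H j).cL_lt_d S
    rw [mul_comm]; exact Nat.mul_le_mul_left _ (by omega)
  · exact le_rfl

theorem dbl_le_val (S : Finset (Pos n)) {j : F.J} (h : F.dbl j = true) :
    (F.H j).cL S * ((F.H j).cL S + 2) ≤ F.val S := by
  have h1 := single_le_sum (f := fun j => if F.dbl j then (F.H j).cL S * (2 * (F.H j).d - (F.H j).cL S) else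
    2 * (F.H j).cL S) (fun _ _ => Nat.zero_le _) (mem_univ j)
  have := (F.H j).cL_lt_d S
  rw [if_pos h] at h1
  exact (Nat.mul_le_mul_left _ (by omega)).trans h1

variable (hR : IsA D.R)
include hR

theorem commute_MM {κ : Fin n} {b b' : Pos n} (hb : b ∈ MM κ) (hb' : b' ∈ MM κ) (s t : k) :
    Commute (D.z b s) (D.z b' t) := by
  have h := D.cm b b' s t
  rw [show {g | ∃ a u, (∃ m n : ℕ, 0 < m ∧ 0 < n ∧ D.R.cf a = m • D.R.cf b + n • D.R.cf b') ∧ g = D.z a u} = ∅ from ?_,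
    Subgroup.closure_empty, Subgroup.mem_bot, mul_inv_eq_one, mul_inv_eq_iff_eq_mul] at h
  · exact h
  refine Set.eq_empty_of_forall_notMem ?_
  rintro g ⟨a, u, ⟨m, m', h1, h2, h3⟩, -⟩
  have h4 := congrFun h3 κ
  rw [mem_MM] at hb hb'
  simp only [hR.cf, Pi.add_apply, Pi.smul_apply, smul_eq_mul, cfA, if_pos hb, if_pos hb'] at h4
  split_ifs at h4 <;> omega

theorem good_of {σ' : Equiv.Perm (Pos n)} {κ : Fin n} {S : Finset (Pos n)} (h1 : S ⊆ MM κ) (h2 : S.Nonempty)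
    (h3 : ∀ b ∈ S, σ' b ∈ S) (h4 : ∀ j, lv (F.H j).lam κ ≤ 2) (h5 : ∀ j, F.dbl j = true → lv (F.H j).lam κ ≤ 1)
    (h6 : F.valG S ≤ 4 * S.card) : F.Good σ' :=
  ⟨S, h2, h3, fun _ hb _ hb' => commute_MM hR (h1 hb) (h1 hb'),
    fun j _ => (F.H j).cubic_of_lev S _ (fun _ hb => hR.hv_MM (h1 hb))
      (hR.lev_MM (F.H j) κ (by have := h4 j; omega)),
    fun j hj => (F.H j).quad_of_lev S _ (fun _ hb => hR.hv_MM (h1 hb))
      (hR.lev_MM (F.H j) κ (by have := h5 j hj; omega)), h6⟩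

theorem valG_MM (κ : Fin n) : F.valG (MM κ) = F.val (MM κ) :=
  sum_congr rfl fun j _ => by rw [(F.H j).cG_smith (hR.mem_MM' κ)]

omit hR in
theorem MM_nonempty (κ : Fin n) : (MM κ).Nonempty := ⟨zA κ, mem_MM.2 ⟨le_rfl, Nat.lt_succ_self _⟩⟩

variable [Fact p.Prime] [CharP k p]

theorem good_MM {σ' : Equiv.Perm (Pos n)} {κ : Fin n} (h3 : ∀ b ∈ MM κ, σ' b ∈ MM κ)
    (h : F.val (MM κ) ≤ 4 * (MM κ).card) : F.Good σ' := by
  refine good_of F hR subset_rfl (MM_nonempty κ) h3 (fun j => ?_) (fun j hj => ?_) (by rwa [valG_MM F hR])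
  · by_contra e
    have h1 := hR.cL_three (F.H j) (κ := κ) (by omega)
    have h2 := (single_le_sum (f := fun j => 2 * (F.H j).cL (MM κ)) (fun _ _ => Nat.zero_le _) (mem_univ j)).trans
      (sum_le_val F _)
    rw [card_MM] at h; omega
  · by_contra e
    have h1 := hR.cL_two (F.H j) (κ := κ) (by omega)
    have h2 := dbl_le_val F (MM κ) hj
    rw [card_MM] at h
    have h4 := Nat.mul_le_mul h1 (Nat.add_le_add_right h1 2)
    nlinarith only [h, h1, h2]

theorem exists_val (hT : F.Top) {S : Finset (Pos n)} (hS : S.Nonempty) (hA : D.R.Ab p S) (hI : D.R.Idl p S)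
    (h : F.val S ≤ 4 * S.card) : ∃ κ, F.val (MM κ) ≤ 4 * (MM κ).card := by
  have hp := (Fact.out : p.Prime).ne_one
  obtain ⟨κ, h1⟩ := hR.exists_MM hp hS hA hI
  obtain ⟨S', a1, a2, a3, a4, a5⟩ := hT (MM κ) (hR.up_MM κ) ⟨S, h1, hS, h⟩
  exact ⟨κ, hR.eq_MM hp a1 a2 a3 a5 ▸ a4⟩

/-- only natural modules -/
theorem good_nat (hn : 1 ≤ n) (hd : ∀ j, F.dbl j = false) (h : ∀ j, Sg (F.H j).lam 0 ∨ Sg (F.H j).lam (n - 1))
    (hJ : Fintype.card F.J ≤ n) : F.Good (fl n) := by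
  let S : Finset (Pos n) := univ.filter fun b => (b.1.1 : ℕ) < (n + 1) / 2 ∧ n + 1 - (n + 1) / 2 ≤ (b.1.2 : ℕ)
  have hS : ∀ b, b ∈ S ↔ (b.1.1 : ℕ) < (n + 1) / 2 ∧ n + 1 - (n + 1) / 2 ≤ (b.1.2 : ℕ) := fun b => by simp only [S, _root_.tsub_le_iff_right, _root_.Order.add_one_le_iff, _root_.Finset.mem_filter, _root_.Finset.mem_univ, _root_.true_and]
  have hc : S.card = (n + 1) / 2 * ((n + 1) / 2) := by
    rw [card_box (by omega) (by omega) hS]; congr 1; omega
  refine good_of F hR (κ := ⟨(n + 1) / 2 - 1, by omega⟩) (S := S) (fun b hb => ?_)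
    ⟨hi hn, (hS _).2 ⟨by show 0 < _; omega, by show _ ≤ n; omega⟩⟩ (fun b hb => ?_) (fun j => ?_)
    (fun j hj => by rw [hd j] at hj; cases hj) ?_
  · rw [hS] at hb; rw [mem_MM]; simp only; omega
  · rw [hS] at hb ⊢; rw [fl_fst, fl_snd]; omega
  · rcases h j with e | e <;> rw [e.lv] <;> omega
  · have h1 : ∀ j, (F.H j).cG S ≤ (n + 1) / 2 := fun j => by
      rcases h j with e | e
      · refine (hR.cG_nat _ e S).trans ((card_le_card (t := fns n (n + 1 - (n + 1) / 2)) fun a ha => ?_).trans ?_)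
        · obtain ⟨b, hb, rfl⟩ := mem_image.1 ha
          exact mem_fns.2 ((hS b).1 hb).2
        · rw [card_fns (by omega)]; omega
      · refine (hR.cG_dual _ e S).trans ((card_le_card (t := ini n ((n + 1) / 2)) fun a ha => ?_).trans ?_)
        · obtain ⟨b, hb, rfl⟩ := mem_image.1 ha
          exact mem_ini.2 ((hS b).1 hb).1
        · rw [card_ini (by omega)]
    refine (sum_le_card_nsmul _ _ (2 * ((n + 1) / 2)) fun j _ => ?_).trans ?_
    · rw [hd j, if_neg (by simp)]; have := h1 j; omega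
    · rw [card_univ, smul_eq_mul, hc]
      have h2 : Fintype.card F.J ≤ 2 * ((n + 1) / 2) := by omega
      nlinarith only [h2]

theorem image_fst_MM (κ : Fin n) : ((MM κ).image fun b => b.1.1).card = κ + 1 := by
  rw [← card_ini (n := n) (s := κ + 1) (by omega)]
  congr 1
  ext a
  rw [mem_image, mem_ini]
  refine ⟨fun ⟨b, hb, e⟩ => e ▸ Nat.lt_succ_of_le (mem_MM.1 hb).1, fun ha => ⟨⟨(a, Fin.last n), ?_⟩, ?_, rfl⟩⟩
  · rw [Fin.lt_def, Fin.val_last]; simp only; omega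
  · exact mem_MM.2 ⟨Nat.le_of_lt_succ ha, κ.2⟩

theorem image_snd_MM (κ : Fin n) : ((MM κ).image fun b => b.1.2).card = n - κ := by
  rw [show n - κ = n + 1 - (κ + 1) by omega, ← card_fns (n := n) (s := κ + 1) (by omega)]
  congr 1
  ext a
  rw [mem_image, mem_fns]
  refine ⟨fun ⟨b, hb, e⟩ => e ▸ (mem_MM.1 hb).2, fun ha => ⟨⟨(0, a), ?_⟩, ?_, rfl⟩⟩
  · rw [Fin.lt_def]; simp only [Fin.val_zero]; omega
  · exact mem_MM.2 ⟨Nat.zero_le _, ha⟩

/-- the twisted case -/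
theorem ct_tw (hn : 2 ≤ n) (hσ : σ = Fin.revPerm) {κ : Fin n} (h : F.val (MM κ) ≤ 4 * (MM κ).card) :
    F.Good (fl n) ∨ ((∀ j, F.dbl j = false) ∧
      ((n = 5 ∧ ∃ j, Sg (F.H j).lam 2) ∨ (n = 3 ∧ Fintype.card F.J = 2 ∧ ∀ j, Sg (F.H j).lam 1))) := by
  classical
  subst hσ
  have hκn := κ.2
  by_cases hκ : 2 * (κ : ℕ) + 1 = n
  · exact Or.inl (good_MM F hR (fun b hb => by rw [mem_MM] at hb ⊢; rw [fl_fst, fl_snd]; omega) h)
  rw [card_MM] at h
  have hs := (sum_le_val F _).trans h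
  have one : ∀ j, (F.H j).cL (MM κ) ≤ 2 * ((κ + 1) * (n - κ)) := fun j => by
    have := single_le_sum (f := fun j => 2 * (F.H j).cL (MM κ)) (fun _ _ => Nat.zero_le _) (mem_univ j); omega
  have hd : ∀ j, F.dbl j = false := fun j => by
    by_contra e
    have e' : F.dbl j = true := by simpa using e
    have h1 := dbl_le_val F (MM κ) e'
    have h2 : ∀ i : Fin n, (F.H j).lam i ≠ 0 → 2 * (i : ℕ) + 1 = n → n.choose i * (n.choose i + 2) ≤ 4 * ((κ + 1) * (n - κ)) :=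
      fun i a1 a2 => by
        have h2 := hR.choose_mid _ a1 a2 κ
        exact (Nat.mul_le_mul h2 (Nat.add_le_add_right h2 2)).trans (h1.trans h)
    rcases hR.tw_inv _ hn (F.dbl_σ j e') hκ (one j) with ⟨rfl, a⟩ | ⟨rfl, a⟩ <;> obtain ⟨i, a1, a2⟩ := a.ne <;>
      have h3 := h2 i a2 (by omega) <;> rw [a1] at h3 <;> revert h3 hκ <;> clear * - <;> revert κ <;> decide
  have nat2 : ∀ j, Sg (F.H j).lam 0 ∨ Sg (F.H j).lam (n - 1) →
      n + 1 ≤ (F.H j).cL (MM κ) + (F.H (F.π j)).cL (MM κ) := by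
    intro j hj
    rcases hj with e | e <;> obtain ⟨i, a1, a2⟩ := e.ne <;> obtain ⟨i', b1, b2⟩ := e.rev.ne <;> rw [← F.lam_π] at b2
    · have c1 := hR.nat_le_cL _ a1 a2 (MM κ)
      have c2 := hR.dual_le_cL _ b1 b2 (MM κ)
      rw [image_snd_MM hR] at c1; rw [image_fst_MM hR] at c2; omega
    · have c1 := hR.dual_le_cL _ a1 a2 (MM κ)
      have c2 := hR.nat_le_cL _ (by omega) b2 (MM κ)
      rw [image_snd_MM hR] at c2; rw [image_fst_MM hR] at c1; omega
  have cls : ∀ j, ((Sg (F.H j).lam 0 ∨ Sg (F.H j).lam (n - 1)) ∧ (F.H (F.π j)).lam ≠ (F.H j).lam) ∨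
      (n = 3 ∧ Sg (F.H j).lam 1) ∨ (n = 5 ∧ Sg (F.H j).lam 2) := fun j => by
    by_cases e : (F.H (F.π j)).lam = (F.H j).lam
    · exact Or.inr (hR.tw_inv _ hn ((F.lam_π j).symm.trans e) hκ (one j))
    · refine Or.inl ⟨hR.tw_non _ _ (F.lam_π j) e (κ := κ) ?_, e⟩
      have h1 := sum_le_sum_of_subset (f := fun j => 2 * (F.H j).cL (MM κ)) (subset_univ {j, F.π j})
      rw [sum_pair fun e' => e (by rw [← e'])] at h1
      omega
  by_cases h5 : n = 5 ∧ ∃ j, Sg (F.H j).lam 2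
  · exact Or.inr ⟨hd, Or.inl h5⟩
  by_cases h3 : n = 3 ∧ ∃ j, Sg (F.H j).lam 1
  · obtain ⟨rfl, j0, h3⟩ := h3
    have hk : ((κ : ℕ) + 1) * (3 - κ) = 3 := by revert hκ; clear * -; revert κ; decide
    rw [hk] at hs
    have c3 : ∀ j, Sg (F.H j).lam 1 → 3 ≤ (F.H j).cL (MM κ) := fun j hj => by
      obtain ⟨i, a1, a2⟩ := hj.ne
      have := hR.choose_mid _ a2 (by omega) κ
      rwa [a1] at this
    have sg : ∀ {l : Fin 3 → ℕ} {s t : ℕ}, Sg l s → Sg l t → s = t := by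
      rintro l _ _ ⟨i, rfl, rfl⟩ ⟨j, rfl, e⟩
      by_contra e'
      have := congrFun e i
      rw [Pi.single_eq_same, Pi.single_eq_of_ne fun e => e' (by rw [e])] at this
      cases this
    have all : ∀ j, Sg (F.H j).lam 1 := fun j => by
      rcases cls j with ⟨e, e'⟩ | e | e
      · exfalso
        have h1 := sum_le_sum_of_subset (f := fun j => 2 * (F.H j).cL (MM κ)) (subset_univ {j0, j, F.π j})
        have n1 : j0 ≠ j := by rintro rfl; rcases e with e | e <;> have := sg h3 e <;> omega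
        have n2 : j0 ≠ F.π j := by
          rintro rfl; rw [F.lam_π] at h3; rcases e with e | e <;> have := sg h3 e.rev <;> omega
        rw [sum_insert (by simp [n1, n2]), sum_pair fun e'' => e' (by rw [← e''])] at h1
        have := nat2 j e
        have := c3 j0 h3
        omega
      · exact e.2
      · omega
    have h1 := card_nsmul_le_sum univ (fun j => 2 * (F.H j).cL (MM κ)) 6 fun j _ => by have := c3 j (all j); omega
    rw [card_univ, smul_eq_mul] at h1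
    by_cases h2 : Fintype.card F.J = 2
    · exact Or.inr ⟨hd, Or.inr ⟨rfl, h2, all⟩⟩
    refine Or.inl (good_MM F hR (κ := 1) (fun b hb => by rw [mem_MM] at hb ⊢; rw [fl_fst, fl_snd]; omega) ?_)
    refine (sum_le_card_nsmul _ _ 10 fun j _ => ?_).trans ?_
    · obtain ⟨i, a1, a2⟩ := all j
      have b1 := hR.d_single_le _ a2
      have b2 := (F.H j).cL_lt_d (MM 1)
      rw [a1] at b1
      rw [hd j, if_neg (by simp)]
      have : Nat.choose (3 + 1) (1 + 1) = 6 := rfl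
      omega
    · rw [card_univ, smul_eq_mul, card_MM]
      show _ ≤ 16
      omega
  have all : ∀ j, Sg (F.H j).lam 0 ∨ Sg (F.H j).lam (n - 1) := fun j =>
    (cls j).elim And.left fun e => (e.elim (fun e => h3 ⟨e.1, j, e.2⟩) fun e => h5 ⟨e.1, j, e.2⟩).elim
  refine Or.inl (good_nat F hR (by omega) hd all ?_)
  have h1 := card_nsmul_le_sum univ (fun j => (F.H j).cL (MM κ) + (F.H (F.π j)).cL (MM κ)) (n + 1)
    fun j _ => nat2 j (all j)
  rw [card_univ, smul_eq_mul, sum_add_distrib, Equiv.sum_comp F.π fun j => (F.H j).cL (MM κ), ← two_mul, mul_sum] at h1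
  have h2 := h1.trans hs
  by_contra e
  have h4 := (Nat.mul_le_mul_right (n + 1) (show n + 1 ≤ Fintype.card F.J by omega)).trans h2
  obtain ⟨t, ht⟩ : ∃ t, n = κ + 1 + t := ⟨n - κ - 1, by omega⟩
  rw [show n - κ = t + 1 by omega] at h4
  generalize (κ : ℕ) = s at ht h4 hκ
  rw [ht] at h4
  have h6 : (0 : ℤ) < ((s : ℤ) - t) ^ 2 := by have : (s : ℤ) - t ≠ 0 := by omega
                                              (clear * - this; positivity)
  linarith only [h4, h6]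

end fam

end Cfsg.Agent.TwoF.DC.TA
end

-- part: TwoF/DC/TA/Dg
section
/-!
# TwoF, defining characteristic, type `A_n` (6): degeneration of symmetric families, enumeration (helper97)
-/

set_option autoImplicit false
set_option linter.unusedSectionVars false

namespace Cfsg.Agent.TwoF.DC.TA

open Finset Module
open Cfsg.Agent.H356.TA (Pos)

theorem card_add_le {k L ι : Type} [Field k] [AddCommGroup L] [Module k L] [FiniteDimensional k L] [Fintype ι]
    (N : Submodule k L) (u : ι → L) (h : ∀ c : ι → k, ∑ i, c i • u i ∈ N → ∀ i, c i = 0) :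
    Fintype.card ι + finrank k N ≤ finrank k L := by
  have h1 : LinearIndependent k fun i => N.mkQ (u i) := Fintype.linearIndependent_iff.2 fun c hc => h c (by
    rw [← Submodule.Quotient.mk_eq_zero, ← N.mkQ_apply, map_sum]
    simpa only [map_smul] using hc)
  have h2 := h1.fintype_card_le_finrank
  have h3 := N.finrank_quotient_add_finrank
  omega

/-! ### enumeration of the abelian sets -/

/-- run through the abelian sublists -/
def go (test : List (ℕ × ℕ) → Bool) : List (ℕ × ℕ) → List (ℕ × ℕ) → Bool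
  | [], S => test S
  | r :: rs, S => go test rs S && (S.any (fun s => r.2 == s.1 || r.1 == s.2) || go test rs (r :: S))

theorem go_spec {test : List (ℕ × ℕ) → Bool} (P : ℕ × ℕ → Bool) (hP : ∀ r s, P r = true → P s = true → r.2 ≠ s.1) :
    ∀ rs S, go test rs S = true → (∀ s ∈ S, P s = true) → test ((rs.filter P).reverse ++ S) = true := by
  intro rs
  induction rs with
  | nil => exact fun S h _ => h
  | cons r rs ih =>
    intro S h hS
    rw [go, Bool.and_eq_true, Bool.or_eq_true, List.any_eq_true] at h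
    by_cases hr : P r = true
    · rw [List.filter_cons_of_pos hr, List.reverse_cons, List.append_assoc]
      refine ih _ (h.2.resolve_left ?_) (List.forall_mem_cons.2 ⟨hr, hS⟩)
      rintro ⟨s, hs, e⟩
      rw [Bool.or_eq_true, beq_iff_eq, beq_iff_eq] at e
      exact e.elim (hP r s hr (hS s hs)) fun e => hP s r (hS s hs) hr e.symm
    · rw [List.filter_cons_of_neg hr]; exact ih _ h.1 hS

variable {n : ℕ}

/-- a positive root as a pair of numbers -/
def vl (b : Pos n) : ℕ × ℕ := (b.1.1, b.1.2)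
/-- the positive roots -/
def rts (n : ℕ) : List (ℕ × ℕ) := ((List.range (n + 1)).product (List.range (n + 1))).filter fun r => r.1 < r.2
/-- a set as a bit mask -/
def Tset (n T : ℕ) : Finset (Fin (n + 1)) := univ.filter fun a => T.testBit a = true
/-- the number of weights which are moved -/
def cnt (Ts : List ℕ) (l : List (ℕ × ℕ)) : ℕ := (Ts.filter fun T => l.any fun r => !T.testBit r.1 && T.testBit r.2).length
/-- the mirror image is smaller -/
def lo (n : ℕ) (g : List ℕ) (r : ℕ × ℕ) : Bool := g.getD (n - r.2) 0 + g.getD r.2 0 < g.getD r.1 0 + g.getD (n - r.1) 0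

theorem vl_inj : Function.Injective (vl (n := n)) := fun _ _ h => pos_ext (congrArg Prod.fst h) (congrArg Prod.snd h)

theorem vl_fl (b : Pos n) : vl (fl n b) = (n - (vl b).2, n - (vl b).1) := Prod.ext (fl_fst b) (fl_snd b)

theorem go_fin (S : Finset (Pos n)) (hS : ∀ b ∈ S, ∀ b' ∈ S, b.1.2 ≠ b'.1.1) {test : List (ℕ × ℕ) → Bool}
    (h : go test (rts n) [] = true) : ∃ l, test l = true ∧ l.length = S.card ∧ ∀ r, r ∈ l ↔ ∃ b ∈ S, vl b = r := by
  have h1 := go_spec (fun r => decide (r ∈ S.image vl)) (fun r s hr hs => by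
    obtain ⟨b, hb, rfl⟩ := mem_image.1 (of_decide_eq_true hr)
    obtain ⟨b', hb', rfl⟩ := mem_image.1 (of_decide_eq_true hs)
    exact fun e => hS b hb b' hb' (Fin.ext e)) _ _ h (by simp only [_root_.List.not_mem_nil, _root_.Finset.mem_image, _root_.Subtype.exists, _root_.Prod.exists, _root_.decide_eq_true_eq, _root_.IsEmpty.forall_iff, _root_.implies_true])
  have h2 : ∀ r, r ∈ ((rts n).filter fun r => decide (r ∈ S.image vl)).reverse ++ [] ↔ r ∈ S.image vl := fun r => by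
    rw [List.append_nil, List.mem_reverse, List.mem_filter, decide_eq_true_iff]
    refine ⟨And.right, fun hr => ⟨?_, hr⟩⟩
    obtain ⟨b, -, rfl⟩ := mem_image.1 hr
    exact List.mem_filter.2 ⟨List.pair_mem_product.2 ⟨List.mem_range.2 b.1.1.2, List.mem_range.2 b.1.2.2⟩,
      decide_eq_true (pos_lt b)⟩
  refine ⟨_, h1, ?_, fun r => (h2 r).trans mem_image⟩
  rw [← card_image_of_injective S vl_inj, ← List.toFinset_card_of_nodup]
  · congr 1; ext r; rw [List.mem_toFinset, h2]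
  · rw [List.append_nil, List.nodup_reverse]
    exact ((List.nodup_range.product List.nodup_range).filter _).filter _

variable {R : RC (Fin n) (Pos n)} {p : ℕ} {k L : Type} [Field k] [AddCommGroup L] [Module k L]

/-- the functional of a vector -/
def fn (m : Fin (n + 1) → ℤ) : (Fin n → ℤ) →+ ℤ where
  toFun c := ∑ i, c i * tw m i
  map_zero' := by simp only [_root_.Pi.zero_apply, _root_.MulZeroClass.zero_mul, _root_.Finset.sum_const_zero]
  map_add' c d := by simp only [add_mul, sum_add_distrib, _root_.Pi.add_apply]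

/-- a commuting family of operators which are supported on the orbits of the graph symmetry -/
structure Ops (H : HW R p k L) (X : Set (Module.End k L)) (S O : Finset (Pos n)) : Prop where
  comm : ∀ x ∈ X, ∀ y ∈ X, Commute x y
  S_fl : ∀ b ∈ S, fl n b ∈ S
  S_op : ∀ b ∈ S, ∃ x : k, x ≠ 0 ∧ x • H.E (true, b) 1 ∈ X
  O_ne : ∀ o ∈ O, o ∉ S ∧ fl n o ≠ o ∧ fl n o ∉ O
  O_op : ∀ o ∈ O, ∃ x y : k, x ≠ 0 ∧ y ≠ 0 ∧ x • H.E (true, o) 1 + y • H.E (true, fl n o) 1 ∈ X

namespace IsA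

variable (hR : IsA R) (H : HW R p k L)
include hR

theorem fn_vec (m : Fin (n + 1) → ℤ) (b : Pos n) : fn m (R.vec (true, b)) = m b.1.1 - m b.1.2 := by
  rw [← hR.pair_tw]
  show ∑ i, R.vec (true, b) i * tw m i = ∑ i, R.cov (true, b) i * tw m i
  exact sum_congr rfl fun i _ => by rw [RC.vec_true, RC.cov_true, hR.cf, hR.co]

theorem E_ind_w {T T' : Finset (Fin (n + 1))} {b : Pos n} (h : ind T + (ev b.1.1 - ev b.1.2) = ind T') {v : L}
    (hv : v ∈ H.w (tw (ind T))) : H.E (true, b) 1 v ∈ H.w (tw (ind T')) := by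
  rw [← h, tw_add, ← hR.wt_true]; exact H.E1_w _ hv

variable {H} {i : Fin n} (hi : H.lam = Pi.single i 1) {T : Finset (Fin (n + 1))} (hT : T.card = i + 1)
include hi hT

theorem ext_ind : H.Ext (tw (ind T)) := (hR.ext_single H hi).2 ⟨T, hT, rfl⟩

theorem E_ind_zero {b : Pos n} (h : b.1.1 ∈ T ∨ b.1.2 ∉ T) {v : L} (hv : v ∈ H.w (tw (ind T))) :
    H.E (true, b) 1 v = 0 :=
  (hR.ext_ind hi hT).E_eq_zero (by rw [hR.pair_tw]; simp only [ind]; split_ifs <;> simp_all only [_root_.not_true_eq_false, _root_.or_false, _root_.sub_self, _root_.Std.le_refl, _root_.not_false_eq_true, _root_.or_self, _root_.sub_zero, _root_.zero_le_one, _root_.or_true]) Nat.one_pos hv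

theorem E_ind_ne {b : Pos n} (h : b.1.1 ∉ T ∧ b.1.2 ∈ T) {v : L} (hv : v ∈ H.w (tw (ind T))) (h0 : v ≠ 0) :
    H.E (true, b) 1 v ≠ 0 := fun e =>
  h0 ((hR.min_single H hi).x.ext (hR.ext_ind hi hT) (by rw [hR.pair_tw]; simp [ind, h.1, h.2]) hv e)

omit hi hT
variable (H) [Fact p.Prime] [CharP k p]

theorem cnt_le (h : H.lam i ≠ 0) {Ts : List ℕ} (h1 : ∀ T ∈ Ts, (Tset n T).card = i + 1) (h2 : (Ts.map (Tset n)).Nodup)
    {S : Finset (Pos n)} {l : List (ℕ × ℕ)} (hl : ∀ r, r ∈ l ↔ ∃ b ∈ S, vl b = r) : cnt Ts l ≤ H.cL S := by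
  rw [cnt, ← List.length_map (Tset n), ← List.toFinset_card_of_nodup (h2.sublist (List.filter_sublist.map _))]
  refine hR.card_le_cL H h S _ fun T' hT' => ?_
  obtain ⟨T, hT, rfl⟩ := List.mem_map.1 (List.mem_toFinset.1 hT')
  obtain ⟨h3, h4⟩ := List.mem_filter.1 hT
  obtain ⟨r, hr, h5⟩ := List.any_eq_true.1 h4
  obtain ⟨b, hb, rfl⟩ := (hl r).1 hr
  exact ⟨h1 T h3, b, hb, by simpa [Tset, vl] using h5⟩

theorem ne_of_commute {b b' : Pos n} (h : Commute (H.E (true, b) 1) (H.E (true, b') 1)) : b.1.2 ≠ b'.1.1 := fun e => by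
  have h1 := (hR.nz_true (Fact.out : p.Prime).ne_one b b').2 (Or.inl e)
  obtain ⟨z, hz⟩ := h1.1
  obtain ⟨N, h2, h3⟩ := H.br _ _ z hz
  rw [h.eq, sub_self, eq_comm, smul_eq_zero] at h2
  exact h2.elim (h3 h1) (hR.E_ne H z)

variable {H} in
theorem deg {X : Set (Module.End k L)} {S O : Finset (Pos n)} (h : Ops H X S O) {N : Submodule k L}
    (hN : ∀ f ∈ X, N ≤ LinearMap.ker f) (g : List ℕ) (hg : ∀ b : Pos n, fl n b = b ∨ lo n g (vl b) ∨ lo n g (vl (fl n b))) :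
    ∃ S' : Finset (Pos n), S'.card = S.card + O.card ∧ (∀ b ∈ S', ∀ b' ∈ S', b.1.2 ≠ b'.1.1) ∧
      finrank k N ≤ finrank k (H.kerL S') ∧ S ⊆ S' ∧ ∀ b ∈ S', b ∈ S ∨ (lo n g (vl (fl n b)) ∧
        ∃ x y : k, x ≠ 0 ∧ y ≠ 0 ∧ x • H.E (true, b) 1 + y • H.E (true, fl n b) 1 ∈ X) := by
  classical
  let m : Fin (n + 1) → ℤ := fun a => g.getD a 0
  have hm : ∀ b : Pos n, lo n g (vl (fl n b)) → fn m (R.vec (true, b)) < fn m (R.vec (true, fl n b)) := fun b hb => by
    have e1 := fl_fst (fl n b)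
    have e2 := fl_snd (fl n b)
    rw [fl_fl] at e1 e2
    rw [lo, decide_eq_true_iff] at hb
    simp only [vl] at hb
    rw [← e1, ← e2] at hb
    rw [hR.fn_vec, hR.fn_vec]
    simp only [m]; omega
  let f : Pos n → Pos n := fun o => if lo n g (vl (fl n o)) then o else fl n o
  have hf : ∀ o, f o = o ∨ f o = fl n o := fun o => by simp only [f]; split_ifs <;> simp
  have h1 : ∀ b ∈ S ∪ O.image f, b ∈ S ∨ (lo n g (vl (fl n b)) ∧
      ∃ x y : k, x ≠ 0 ∧ y ≠ 0 ∧ x • H.E (true, b) 1 + y • H.E (true, fl n b) 1 ∈ X) := fun b hb => by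
    refine (mem_union.1 hb).imp_right fun hb => ?_
    obtain ⟨o, ho, rfl⟩ := mem_image.1 hb
    obtain ⟨x, y, hx, hy, e⟩ := h.O_op o ho
    simp only [f]
    split_ifs with h2
    · exact ⟨h2, x, y, hx, hy, e⟩
    · rw [fl_fl]
      exact ⟨((hg o).resolve_left (h.O_ne o ho).2.1).resolve_right h2, y, x, hy, hx, by rwa [add_comm]⟩
  have h2 : ∀ b ∈ S ∪ O.image f, ∃ x : k, ∃ s, ∃ f ∈ X, H.idm.Ld (H.lf (fn m)) s (x • f) (H.E (true, b) 1) := by
    intro b hb
    rcases h1 b hb with e | ⟨e, x, y, hx, -, e'⟩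
    · obtain ⟨x, hx, e'⟩ := h.S_op b e
      exact ⟨x⁻¹, _, _, e', by rw [smul_smul, inv_mul_cancel₀ hx, one_smul]; exact (H.hm_E1 _ _).ld⟩
    · refine ⟨x⁻¹, fn m (R.vec (true, b)), _, e', ?_⟩
      rw [smul_add, smul_smul, inv_mul_cancel₀ hx, one_smul, smul_smul]
      exact (H.hm_E1 _ _).ld.add_ge (((H.hm_E1 _ _).smul _).ge.mono (hm b e))
  refine ⟨S ∪ O.image f, ?_, fun b hb b' hb' => ?_, ?_, subset_union_left, h1⟩
  · rw [card_union_of_disjoint, card_image_of_injOn]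
    · intro o ho o' ho' e
      rcases hf o with e1 | e1 <;> rcases hf o' with e2 | e2 <;> rw [e1, e2] at e
      · exact e
      · exact ((h.O_ne o' ho').2.2 (e ▸ ho)).elim
      · exact ((h.O_ne o ho).2.2 (e ▸ ho')).elim
      · exact (fl n).injective e
    · refine disjoint_left.2 fun b hb hb' => ?_
      obtain ⟨o, ho, rfl⟩ := mem_image.1 hb'
      rcases hf o with e | e <;> rw [e] at hb
      · exact (h.O_ne o ho).1 hb
      · exact (h.O_ne o ho).1 (fl_fl o ▸ h.S_fl _ hb)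
  · obtain ⟨x, s, f, a1, a2⟩ := h2 b hb
    obtain ⟨x', s', f', b1, b2⟩ := h2 b' hb'
    exact hR.ne_of_commute H (a2.commute b2 (((h.comm f a1 f' b1).smul_left x).smul_right x'))
  · have := H.fd
    refine (H.finrank_ker_le (H.lf (fn m)) (A := ↑(S ∪ O.image f)) (g := fun b => H.E (true, b) 1) fun b hb => ?_).trans
      (Submodule.finrank_mono fun v hv => H.mem_kerL.2 fun b hb =>
        (Submodule.mem_iInf _).1 ((Submodule.mem_iInf _).1 hv b) (mem_coe.2 hb))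
    obtain ⟨x, s, f, a1, a2⟩ := h2 b hb
    exact ⟨s, _, a2, fun v hv => by rw [LinearMap.mem_ker, LinearMap.smul_apply, hN f a1 hv, smul_zero]⟩

end IsA

end Cfsg.Agent.TwoF.DC.TA
end

-- part: TwoF/DC/TA/A3
section
/-!
# TwoF, defining characteristic, type `A_n` (7): the exterior square of `A_3`, the exterior cube of `A_5`, `CT` (helper97)
-/

set_option autoImplicit false
set_option linter.unusedSectionVars false

namespace Cfsg.Agent.TwoF.DC.TA

open Finset Module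
open Cfsg.Agent.H356.TA (Pos)

/-- the three element subsets of `Fin 6` -/
def T5 : List ℕ := [7, 11, 13, 14, 19, 21, 22, 25, 26, 28, 35, 37, 38, 41, 42, 44, 49, 50, 52, 56]
/-- the two element subsets of `Fin 4` -/
def T3 : List ℕ := [3, 5, 6, 9, 10, 12]
/-- closed under passing to the smaller mirror image -/
def cls (n : ℕ) (g : List ℕ) (l : List (ℕ × ℕ)) : Bool := l.all fun r => !lo n g r || l.contains (n - r.2, n - r.1)

theorem T5_card : ∀ T ∈ T5, (Tset 5 T).card = 3 := by decide +kernel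
theorem T5_nodup : (T5.map (Tset 5)).Nodup := by decide +kernel
theorem T3_card : ∀ T ∈ T3, (Tset 3 T).card = 2 := by decide +kernel
theorem T3_nodup : (T3.map (Tset 3)).Nodup := by decide +kernel

theorem gen5a : ∀ b : Pos 5, fl 5 b = b ∨ lo 5 [1, 2, 0, 0, 0, 0] (vl b) ∨ lo 5 [1, 2, 0, 0, 0, 0] (vl (fl 5 b)) := by
  decide +kernel
theorem gen5b : ∀ b : Pos 5, fl 5 b = b ∨ lo 5 [0, 2, 1, 1, 1, 1] (vl b) ∨ lo 5 [0, 2, 1, 1, 1, 1] (vl (fl 5 b)) := by
  decide +kernel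
theorem gen3 : ∀ b : Pos 3, fl 3 b = b ∨ lo 3 [0, 1, 1, 1] (vl b) ∨ lo 3 [0, 1, 1, 1] (vl (fl 3 b)) := by
  decide +kernel

private noncomputable def _root_.Cfsg.Agent.LsF.fa83ab5_0 : {f // @Cfsg.Agent.TwoF.DC.TA.go = f} := ⟨_, by first | (delta Cfsg.Agent.TwoF.DC.TA.go List.brecOn List.brecOn.go Cfsg.Agent.TwoF.DC.TA.go._f; rewrite [Cfsg.Agent.LsF.nbeq_pat, Cfsg.Agent.LsF.and_eq, Cfsg.Agent.LsF.or_eq, Cfsg.Agent.LsF.any_eq]; (try delta Cfsg.Agent.TwoF.DC.TA.go.match_1); (try delta List.casesOn); first | dsimp -zeta only | exact rfl) | exact rfl⟩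
private noncomputable def _root_.Cfsg.Agent.LsF.fa83ab5_1 : {f // @Cfsg.Agent.TwoF.DC.TA.lo = f} := ⟨_, by first | (delta Cfsg.Agent.TwoF.DC.TA.lo; rewrite [Cfsg.Agent.LsF.nadd_pat, Cfsg.Agent.LsF.nsub_pat, Cfsg.Agent.LsF.decLt_eq, Cfsg.Agent.LsF.getD_eq, Cfsg.Agent.LsF.decide_eq]; exact rfl) | exact rfl⟩
private noncomputable def _root_.Cfsg.Agent.LsF.fa83ab5_2 : {f // @Cfsg.Agent.TwoF.DC.TA.cls = f} := ⟨_, by first | (delta Cfsg.Agent.TwoF.DC.TA.cls; rewrite [Cfsg.Agent.LsF.fa83ab5_1.2, Cfsg.Agent.LsF.nsub_pat, Cfsg.Agent.LsF.instNBEq_pat, Cfsg.Agent.LsF.or_eq, Cfsg.Agent.LsF.not_eq, Cfsg.Agent.LsF.all_eq, Cfsg.Agent.LsF.contains_eq, Cfsg.Agent.LsF.instPBEq_eq]; exact rfl) | exact rfl⟩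
private noncomputable def _root_.Cfsg.Agent.LsF.fa83ab5_3 : {f // @Cfsg.Agent.TwoF.DC.TA.cnt = f} := ⟨_, by first | (delta Cfsg.Agent.TwoF.DC.TA.cnt; rewrite [Cfsg.Agent.LsF.and_eq, Cfsg.Agent.LsF.not_eq, Cfsg.Agent.LsF.testBit_eq, Cfsg.Agent.LsF.any_eq, Cfsg.Agent.LsF.filter_eq, Cfsg.Agent.LsF.length_eq]; exact rfl) | exact rfl⟩
private noncomputable def _root_.Cfsg.Agent.LsF.fa83ab5_4 : {f // @Cfsg.Agent.TwoF.DC.TA.rts = f} := ⟨_, by first | (delta Cfsg.Agent.TwoF.DC.TA.rts List.product; rewrite [Cfsg.Agent.LsF.nadd_pat, Cfsg.Agent.LsF.decLt_eq, Cfsg.Agent.LsF.map_eq, Cfsg.Agent.LsF.flatMap_eq, Cfsg.Agent.LsF.filter_eq, Cfsg.Agent.LsF.range_eq, Cfsg.Agent.LsF.decide_eq]; exact rfl) | exact rfl⟩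
theorem flex5a : go (fun l => !cls 5 [1, 2, 0, 0, 0, 0] l || l.length == 0 || 2 * l.length < cnt T5 l || l.length == 8)
    (rts 5) [] = true := by ((try (rewrite [Cfsg.Agent.LsF.fa83ab5_0.2, Cfsg.Agent.LsF.fa83ab5_2.2, Cfsg.Agent.LsF.fa83ab5_3.2, Cfsg.Agent.LsF.fa83ab5_4.2, Cfsg.Agent.LsF.nmul_pat, Cfsg.Agent.LsF.nbeq_pat, Cfsg.Agent.LsF.or_eq, Cfsg.Agent.LsF.not_eq, Cfsg.Agent.LsF.decLt_eq, Cfsg.Agent.LsF.length_eq, Cfsg.Agent.LsF.decide_eq])); decide +kernel)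
theorem flex5b : go (fun l => !cls 5 [0, 2, 1, 1, 1, 1] l || l.length == 0 || 2 * l.length < cnt T5 l || l.length == 5)
    (rts 5) [] = true := by ((try (rewrite [Cfsg.Agent.LsF.fa83ab5_0.2, Cfsg.Agent.LsF.fa83ab5_2.2, Cfsg.Agent.LsF.fa83ab5_3.2, Cfsg.Agent.LsF.fa83ab5_4.2, Cfsg.Agent.LsF.nmul_pat, Cfsg.Agent.LsF.nbeq_pat, Cfsg.Agent.LsF.or_eq, Cfsg.Agent.LsF.not_eq, Cfsg.Agent.LsF.decLt_eq, Cfsg.Agent.LsF.length_eq, Cfsg.Agent.LsF.decide_eq])); decide +kernel)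
theorem flex3 : go (fun l => !cls 3 [0, 1, 1, 1] l || l.length == 0 || l.length < cnt T3 l ||
    (l.length == 3 && l.contains (0, 1) && l.contains (0, 2) && l.contains (0, 3) && !l.contains (2, 3) &&
      !l.contains (1, 3))) (rts 3) [] = true := by decide +kernel

theorem not_lo_both {n : ℕ} (g : List ℕ) (b : Pos n) (h : lo n g (vl (fl n b)) = true) : lo n g (vl b) = false := by
  have e1 := fl_fst (fl n b)
  have e2 := fl_snd (fl n b)
  rw [fl_fl] at e1 e2
  rw [lo, decide_eq_true_iff] at h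
  rw [lo, decide_eq_false_iff_not]
  simp only [vl] at h ⊢
  rw [← e1, ← e2, fl_fst, fl_snd] at h
  omega

section mod

variable {n : ℕ} {R : RC (Fin n) (Pos n)} {p : ℕ} {k L : Type} [Field k] [AddCommGroup L] [Module k L] (hR : IsA R)
  {H : HW R p k L} [Fact p.Prime] [CharP k p]
include hR

theorem IsA.deg_go {X : Set (Module.End k L)} {S O : Finset (Pos n)} (h : Ops H X S O) {N : Submodule k L}
    (hN : ∀ f ∈ X, N ≤ LinearMap.ker f) (g : List ℕ) (hg : ∀ b : Pos n, fl n b = b ∨ lo n g (vl b) ∨ lo n g (vl (fl n b)))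
    {i : Fin n} (hi : H.lam i ≠ 0) {Ts : List ℕ} (h1 : ∀ T ∈ Ts, (Tset n T).card = i + 1) (h2 : (Ts.map (Tset n)).Nodup)
    {test : List (ℕ × ℕ) → Bool} (ht : go test (rts n) [] = true) :
    ∃ l, test l = true ∧ l.length = S.card + O.card ∧ cnt Ts l ≤ H.d - finrank k N ∧ cls n g l = true ∧
      (∀ b ∈ S, vl b ∈ l) ∧ ∀ b : Pos n, vl b ∈ l → b ∈ S ∨ (lo n g (vl (fl n b)) = true ∧
        ∃ x y : k, x ≠ 0 ∧ y ≠ 0 ∧ x • H.E (true, b) 1 + y • H.E (true, fl n b) 1 ∈ X) := by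
  obtain ⟨S', a1, a2, a3, a4, a5⟩ := hR.deg h hN g hg
  obtain ⟨l, b1, b2, b3⟩ := go_fin S' a2 ht
  refine ⟨l, b1, b2.trans a1, (hR.cnt_le H hi h1 h2 b3).trans (Nat.sub_le_sub_left a3 _), ?_,
    fun b hb => (b3 _).2 ⟨b, a4 hb, rfl⟩, fun b hb => ?_⟩
  · refine List.all_eq_true.2 fun r hr => ?_
    obtain ⟨b, hb, rfl⟩ := (b3 r).1 hr
    rcases a5 b hb with e | e
    · rw [← vl_fl, List.contains_iff_mem.2 ((b3 _).2 ⟨_, a4 (h.S_fl b e), rfl⟩), Bool.or_true]
    · rw [not_lo_both g b e.1]; rfl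
  · obtain ⟨b', hb', e⟩ := (b3 _).1 hb
    obtain rfl := vl_inj e
    exact a5 b' hb'

end mod

section small

variable {p : ℕ} {k L : Type} [Field k] [AddCommGroup L] [Module k L] [Fact p.Prime] [CharP k p]

theorem no_flex5 {R : RC (Fin 5) (Pos 5)} (hR : IsA R) {H : HW R p k L} (hl : Sg H.lam 2) {X : Set (Module.End k L)}
    {S O : Finset (Pos 5)} (h : Ops H X S O) {N : Submodule k L} (hN : ∀ f ∈ X, N ≤ LinearMap.ker f)
    (h0 : S.card + O.card ≠ 0) : 2 * (S.card + O.card) < H.d - finrank k N := by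
  obtain ⟨i, hi, hl⟩ := hl.ne
  obtain ⟨l, a1, a2, a3, a4, -⟩ := hR.deg_go h hN _ gen5a hl (by rw [hi]; exact T5_card) T5_nodup flex5a
  obtain ⟨l', b1, b2, b3, b4, -⟩ := hR.deg_go h hN _ gen5b hl (by rw [hi]; exact T5_card) T5_nodup flex5b
  simp only [a4, b4, Bool.not_true, Bool.false_or, Bool.or_eq_true, beq_iff_eq, decide_eq_true_iff] at a1 b1
  omega

variable {R : RC (Fin 3) (Pos 3)} (hR : IsA R) {H : HW R p k L} (hl : H.lam = Pi.single 1 1)
include hR

theorem comm3 : H.E (true, r3 1 3) 1 * H.E (true, r3 0 2) 1 = H.E (true, r3 0 2) 1 * H.E (true, r3 1 3) 1 :=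
  H.comm_of_ab (S := {r3 0 2, r3 1 3}) ((hR.ab_iff (Fact.out : p.Prime).ne_one _).2 (by decide)) (by decide) (by decide)

include hl

theorem exists_ind (T : Finset (Fin 4)) (hT : T.card = 2) : ∃ v ∈ H.w (tw (ind T)), v ≠ 0 :=
  H.isWt_iff.1 (hR.ext_ind hl hT).isWt

theorem no_flex3 (hp : p ≠ 2) {X : Set (Module.End k L)} {S O : Finset (Pos 3)} (h : Ops H X S O) {N : Submodule k L}
    (hN : ∀ f ∈ X, N ≤ LinearMap.ker f) (h0 : S.card + O.card ≠ 0) : S.card + O.card < H.d - finrank k N := by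
  obtain ⟨l, a1, a2, a3, a4, a5, a6⟩ := hR.deg_go h hN _ gen3 (i := 1) (by rw [hl]; simp) T3_card T3_nodup flex3
  simp only [a4, Bool.not_true, Bool.false_or, Bool.or_eq_true, beq_iff_eq, decide_eq_true_iff, Bool.and_eq_true,
    List.contains_iff_mem, Bool.not_eq_true', ← Bool.not_eq_true] at a1
  rcases a1 with (e | e) | ⟨⟨⟨⟨⟨e0, e1⟩, e2⟩, e3⟩, e4⟩, e5⟩
  · omega
  · omega
  obtain ⟨-, x, x', hx, hx', hX⟩ := (a6 (r3 0 1) e1).resolve_left fun e => e4 (a5 _ (h.S_fl _ e))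
  obtain ⟨-, y, y', hy, hy', hY⟩ := (a6 (r3 0 2) e2).resolve_left fun e => e5 (a5 _ (h.S_fl _ e))
  obtain ⟨z, hz, hZ⟩ := h.S_op _ ((a6 (r3 0 3) e3).resolve_right fun e => absurd e.1 (by decide))
  rw [show fl 3 (r3 0 1) = r3 2 3 by decide] at hX
  rw [show fl 3 (r3 0 2) = r3 1 3 by decide] at hY
  obtain ⟨v, hv, v0⟩ := exists_ind hR hl {2, 3} rfl
  obtain ⟨u, hu, u0⟩ := exists_ind hR hl {1, 3} rfl
  have ha := hR.E_ind_w H (T' := {0, 3}) (b := r3 0 2) (by decide) hv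
  have hb := hR.E_ind_w H (T' := {1, 2}) (b := r3 1 3) (by decide) hv
  have a0 := hR.E_ind_ne hl (T := {2, 3}) rfl (b := r3 0 2) (by decide) hv v0
  have c1 : H.E (true, r3 1 3) 1 (H.E (true, r3 0 2) 1 v) = H.E (true, r3 0 2) 1 (H.E (true, r3 1 3) 1 v) :=
    LinearMap.congr_fun (comm3 hR) v
  have c2 := LinearMap.congr_fun (h.comm _ hX _ hY).eq v
  simp only [Module.End.mul_apply, LinearMap.add_apply, LinearMap.smul_apply,
    hR.E_ind_zero hl (T := {2, 3}) rfl (b := r3 0 1) (by decide) hv,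
    hR.E_ind_zero hl (T := {2, 3}) rfl (b := r3 2 3) (by decide) hv, smul_zero, add_zero, map_zero, map_add, map_smul,
    hR.E_ind_zero hl (T := {0, 3}) rfl (b := r3 0 1) (by decide) ha,
    hR.E_ind_zero hl (T := {1, 2}) rfl (b := r3 2 3) (by decide) hb, zero_add] at c2
  have h4 := H.fd
  have h5 := card_add_le N ![H.E (true, r3 0 2) 1 v, H.E (true, r3 1 3) 1 v, u, v] fun c hc => by
    simp only [Fin.sum_univ_four, Matrix.cons_val] at hc
    have z1 := hN _ hZ hc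
    simp only [LinearMap.mem_ker, LinearMap.smul_apply, map_add, map_smul,
      hR.E_ind_zero hl (T := {0, 3}) rfl (b := r3 0 3) (by decide) ha,
      hR.E_ind_zero hl (T := {1, 2}) rfl (b := r3 0 3) (by decide) hb, smul_zero, zero_add] at z1
    have wu := hR.E_ind_w H (T' := {0, 1}) (b := r3 0 3) (by decide) hu
    have wv := hR.E_ind_w H (T' := {0, 2}) (b := r3 0 3) (by decide) hv
    have z2 := congrArg (H.pr (tw (ind {0, 1}))) z1
    have z3 := congrArg (H.pr (tw (ind {0, 2}))) z1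
    simp only [map_add, map_smul, map_zero, H.pr_of_mem wu, H.pr_of_mem wv, H.pr_of_ne wu (ν := tw (ind {0, 2})) (by decide),
      H.pr_of_ne wv (ν := tw (ind {0, 1})) (by decide), smul_zero, add_zero, zero_add, smul_eq_zero, hz,
      hR.E_ind_ne hl (T := {1, 3}) rfl (b := r3 0 3) (by decide) hu u0,
      hR.E_ind_ne hl (T := {2, 3}) rfl (b := r3 0 3) (by decide) hv v0, or_false] at z2 z3
    rw [z2, z3, zero_smul, zero_smul, add_zero, add_zero] at hc
    have x1 := hN _ hX hc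
    have y1 := hN _ hY hc
    simp only [LinearMap.mem_ker, LinearMap.add_apply, LinearMap.smul_apply, map_add, map_smul,
      hR.E_ind_zero hl (T := {0, 3}) rfl (b := r3 0 1) (by decide) ha,
      hR.E_ind_zero hl (T := {1, 2}) rfl (b := r3 2 3) (by decide) hb,
      hR.E_ind_zero hl (T := {0, 3}) rfl (b := r3 0 2) (by decide) ha,
      hR.E_ind_zero hl (T := {1, 2}) rfl (b := r3 1 3) (by decide) hb, smul_zero, add_zero, zero_add, ← c1] at x1 y1
    have e6 := hR.E_ind_ne hl (T := {0, 3}) rfl (b := r3 2 3) (by decide) ha a0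
    have e7 := hR.E_ind_ne hl (T := {0, 3}) rfl (b := r3 1 3) (by decide) ha a0
    have e8 : (c 0 * y' - c 1 * y) * x' = 0 := (smul_eq_zero.1 (show ((c 0 * y' - c 1 * y) * x') •
      H.E (true, r3 2 3) 1 (H.E (true, r3 0 2) 1 v) = 0 by linear_combination (norm := module) y' • x1 - c 1 • c2)).resolve_right e6
    have e9 : c 0 * y' + c 1 * y = 0 := (smul_eq_zero.1 (show (c 0 * y' + c 1 * y) •
      H.E (true, r3 1 3) 1 (H.E (true, r3 0 2) 1 v) = 0 by linear_combination (norm := module) y1)).resolve_right e7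
    have two : (2 : k) ≠ 0 := fun e => hp ((Nat.prime_dvd_prime_iff_eq Fact.out Nat.prime_two).1
      ((CharP.cast_eq_zero_iff k p 2).1 (by exact_mod_cast e)))
    have e10 := (mul_eq_zero.1 e8).resolve_right hx'
    have e11 : c 0 = 0 := by
      have : 2 * (c 0 * y') = 0 := by linear_combination e9 + e10
      simpa [two, hy'] using this
    have e12 : c 1 = 0 := by
      have : 2 * (c 1 * y) = 0 := by linear_combination e9 - e10
      simpa [two, hy] using this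
    intro i
    fin_cases i
    exacts [e11, e12, z2, z3]
  rw [Fintype.card_fin] at h5
  unfold HW.d
  omega

end small

section rep

variable {p : ℕ} {k G : Type} [Field k] [Group G]

theorem rho_min {n : ℕ} {D : RDat p (Fin n) (Pos n) k G} {L : Type} [AddCommGroup L] [Module k L] {H : HW D.R p k L}
    (r : H.Rep D) (hm : H.Min) (b : Pos n) (t : k) (v : L) : r.ρ (D.z b t) v = v + t • H.E (true, b) 1 v := by
  rw [r.ρ_z, finsum_eq_sum_of_support_subset _ (s := range 2) fun m hm' => by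
    by_contra e
    exact hm' (by show _ • _ = 0; rw [hm.E_eq_zero _ (by rw [mem_coe, mem_range] at e; omega), smul_zero])]
  simp only [sum_range_succ, H.E_zero, _root_.Finset.range_one, _root_.Finset.sum_singleton, _root_.pow_zero, _root_.one_smul, _root_.pow_one, _root_.LinearMap.add_apply, _root_.Module.End.one_apply, _root_.LinearMap.smul_apply]

variable [Fact p.Prime] [CharP k p] {D : RDat p (Fin 3) (Pos 3) k G} (hR : IsA D.R)
include hR

theorem cod_le_three (hp : p = 2) {L : Type} [AddCommGroup L] [Module k L] {H : HW D.R p k L} (r : H.Rep D)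
    (hl : H.lam = Pi.single 1 1) (hc : Commute (D.z (r3 0 1) 1 * D.z (r3 2 3) 1) (D.z (r3 0 2) 1 * D.z (r3 1 3) 1))
    {B : Subgroup G} (hB : ∀ x ∈ B, ∃ s t u : k,
      x = D.z (r3 0 1) s * D.z (r3 2 3) s * (D.z (r3 0 2) t * D.z (r3 1 3) t) * D.z (r3 0 3) u) : cod r.ρ B ≤ 3 := by
  have hm := hR.min_single H hl
  have rho2 : ∀ b b' s u, r.ρ (D.z b s * D.z b' s) u =
      u + s • (H.E (true, b) 1 u + H.E (true, b') 1 u) + (s * s) • H.E (true, b) 1 (H.E (true, b') 1 u) := by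
    intro b b' s u
    rw [map_mul, Module.End.mul_apply, rho_min r hm, rho_min r hm, map_add, map_smul]
    module
  have fix : ∀ u, H.E (true, r3 0 1) 1 u + H.E (true, r3 2 3) 1 u = 0 → H.E (true, r3 0 1) 1 (H.E (true, r3 2 3) 1 u) = 0 →
      H.E (true, r3 0 2) 1 u + H.E (true, r3 1 3) 1 u = 0 → H.E (true, r3 0 2) 1 (H.E (true, r3 1 3) 1 u) = 0 →
      H.E (true, r3 0 3) 1 u = 0 → u ∈ fx r.ρ B := by
    intro u h1 h2 h3 h4 h5 x hx
    obtain ⟨s, t, w, rfl⟩ := hB x hx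
    rw [map_mul, map_mul, Module.End.mul_apply, Module.End.mul_apply, rho_min r hm, h5, smul_zero, add_zero, rho2 (r3 0 2), h3, h4,
      smul_zero, smul_zero, add_zero, add_zero, rho2, h1, h2, smul_zero, smul_zero, add_zero, add_zero]
  have z0 : ∀ u ∈ H.w (tw (ind {0, 1})), ∀ b, H.E (true, b) 1 u = 0 :=
    fun u hu b => hR.E_ind_zero hl (T := {0, 1}) rfl (by revert b; decide) hu
  have z2 : ∀ u ∈ H.w (tw (ind {0, 2})), ∀ b, b ≠ r3 1 2 → H.E (true, b) 1 u = 0 :=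
    fun u hu b hb => hR.E_ind_zero hl (T := {0, 2}) rfl (by revert b; decide) hu
  obtain ⟨v, hv, v0⟩ := exists_ind hR hl {2, 3} rfl
  obtain ⟨u, hu, u0⟩ := exists_ind hR hl {0, 1} rfl
  obtain ⟨u', hu', u0'⟩ := exists_ind hR hl {0, 2} rfl
  have ha := hR.E_ind_w H (T' := {0, 3}) (b := r3 0 2) (by decide) hv
  have hb := hR.E_ind_w H (T' := {1, 2}) (b := r3 1 3) (by decide) hv
  have a0 := hR.E_ind_ne hl (T := {2, 3}) rfl (b := r3 0 2) (by decide) hv v0
  have c1 : H.E (true, r3 1 3) 1 (H.E (true, r3 0 2) 1 v) = H.E (true, r3 0 2) 1 (H.E (true, r3 1 3) 1 v) :=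
    LinearMap.congr_fun (comm3 hR) v
  have wc := hR.E_ind_w H (T' := {0, 1}) (b := r3 0 2) (by decide) hb
  have wd := hR.E_ind_w H (T' := {0, 2}) (b := r3 2 3) (by decide) ha
  have a1 := hR.E_ind_zero hl (T := {0, 3}) rfl (b := r3 0 1) (by decide) ha
  have a2 := hR.E_ind_zero hl (T := {0, 3}) rfl (b := r3 0 2) (by decide) ha
  have a3 := hR.E_ind_zero hl (T := {0, 3}) rfl (b := r3 0 3) (by decide) ha
  have b1 := hR.E_ind_zero hl (T := {1, 2}) rfl (b := r3 2 3) (by decide) hb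
  have b2 := hR.E_ind_zero hl (T := {1, 2}) rfl (b := r3 1 3) (by decide) hb
  have b3 := hR.E_ind_zero hl (T := {1, 2}) rfl (b := r3 0 3) (by decide) hb
  have c2 := congrArg (fun g => r.ρ g v) hc.eq
  simp only [map_mul _ (D.z (r3 0 1) 1 * _), map_mul _ (D.z (r3 0 2) 1 * _), Module.End.mul_apply, rho2, one_smul, mul_one,
    hR.E_ind_zero hl (T := {2, 3}) rfl (b := r3 0 1) (by decide) hv,
    hR.E_ind_zero hl (T := {2, 3}) rfl (b := r3 2 3) (by decide) hv, add_zero, map_zero, map_add, a1, b1, zero_add,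
    z0 _ wc, z2 _ wd (r3 0 1) (by decide)] at c2
  have two : (2 : k) = 0 := by subst hp; exact_mod_cast CharP.cast_eq_zero k 2
  have f1 := fix u (by rw [z0 u hu, z0 u hu, add_zero]) (by rw [z0 u hu, map_zero]) (by rw [z0 u hu, z0 u hu, add_zero])
    (by rw [z0 u hu, map_zero]) (z0 u hu _)
  have f2 := fix u' (by rw [z2 u' hu' _ (by decide), z2 u' hu' _ (by decide), add_zero])
    (by rw [z2 u' hu' (r3 2 3) (by decide), map_zero]) (by rw [z2 u' hu' _ (by decide), z2 u' hu' _ (by decide), add_zero])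
    (by rw [z2 u' hu' (r3 1 3) (by decide), map_zero]) (z2 u' hu' _ (by decide))
  have f3 := fix (H.E (true, r3 0 2) 1 v + H.E (true, r3 1 3) 1 v)
    (by rw [map_add, map_add, a1, b1]; linear_combination (norm := module) c2)
    (by rw [map_add, b1, add_zero, z2 _ wd _ (by decide)])
    (by rw [map_add, map_add, a2, b2, c1, zero_add, add_zero, ← two_smul k, two, zero_smul])
    (by rw [map_add, b2, add_zero, c1, z0 _ wc]) (by rw [map_add, a3, b3, add_zero])
  have h4 := H.fd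
  have h5 : LinearIndependent k (![⟨u, f1⟩, ⟨u', f2⟩, ⟨_, f3⟩] : Fin 3 → fx r.ρ B) := by
    refine Fintype.linearIndependent_iff.2 fun c hc => ?_
    have h6 := congrArg Subtype.val hc
    simp only [Fin.sum_univ_three, Matrix.cons_val, Submodule.coe_add, Submodule.coe_smul, Submodule.coe_zero] at h6
    have y1 := congrArg (H.pr (tw (ind {0, 1}))) h6
    have y2 := congrArg (H.pr (tw (ind {0, 2}))) h6
    have y3 := congrArg (H.pr (tw (ind {0, 3}))) h6
    simp only [map_add, map_smul, map_zero, H.pr_of_mem hu, H.pr_of_mem hu', H.pr_of_mem ha,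
      H.pr_of_ne hu (ν := tw (ind {0, 2})) (by decide), H.pr_of_ne hu (ν := tw (ind {0, 3})) (by decide),
      H.pr_of_ne hu' (ν := tw (ind {0, 1})) (by decide), H.pr_of_ne hu' (ν := tw (ind {0, 3})) (by decide),
      H.pr_of_ne ha (ν := tw (ind {0, 1})) (by decide), H.pr_of_ne ha (ν := tw (ind {0, 2})) (by decide),
      H.pr_of_ne hb (ν := tw (ind {0, 1})) (by decide), H.pr_of_ne hb (ν := tw (ind {0, 2})) (by decide),
      H.pr_of_ne hb (ν := tw (ind {0, 3})) (by decide), smul_zero, add_zero, zero_add, smul_eq_zero, u0, u0', a0,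
      or_false] at y1 y2 y3
    intro i
    fin_cases i
    exacts [y1, y2, y3]
  have h6 := h5.fintype_card_le_finrank
  have h7 := hR.d_single_le H hl
  rw [Fintype.card_fin] at h6
  have : Nat.choose (3 + 1) ((1 : Fin 3) + 1) = 6 := rfl
  unfold cod; unfold HW.d at h7
  omega

theorem goodT3 (hp : p = 2) {σ : Equiv.Perm (Fin 3)} (F : Fam D σ) (hd : ∀ j, F.dbl j = false)
    (hJ : Fintype.card F.J ≤ 2) (hl : ∀ j, Sg (F.H j).lam 1) {T : Type} [Group T] [Finite T] {φ : T →* G} {f : ℕ}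
    (hf : 0 < f) (h : Sub3 D φ f) : F.GoodT φ f := by
  obtain ⟨hc, B, b1, b2, b3⟩ := h
  have hl' : ∀ j, (F.H j).lam = Pi.single 1 1 := fun j => by
    obtain ⟨i, h1, h2⟩ := hl j
    rwa [show i = 1 from Fin.ext h1] at h2
  have hB : ∀ x ∈ B.map φ, ∃ s t u : k,
      x = D.z (r3 0 1) s * D.z (r3 2 3) s * (D.z (r3 0 2) t * D.z (r3 1 3) t) * D.z (r3 0 3) u := by
    rintro _ ⟨x, hx, rfl⟩; exact b3 x hx
  refine ⟨B, b1, ?_, fun j _ => ?_, fun j hj => (by rw [hd j] at hj; cases hj), ?_⟩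
  · rintro rfl
    have := Nat.one_lt_pow (n := 3) (by omega) (Nat.one_lt_pow hf.ne' (Fact.out : p.Prime).one_lt)
    rw [Subgroup.card_bot] at b2; omega
  · have h1 := (F.rep j).cub (S := {r3 0 1, r3 2 3, r3 0 2, r3 1 3, r3 0 3}) ((F.H j).cubic_of_lev _ ![1, 0, 1] (t := 1)
      (lo := 0) (by unfold RC.hv; rw [hR.cf]; decide) fun μ hμ => by
        have a0 := hR.dep_le_lv _ hμ 0
        have a2 := hR.dep_le_lv _ hμ 2
        have b0 := (F.H j).dep_nonneg hμ 0
        have b2 := (F.H j).dep_nonneg hμ 2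
        rw [(hl j).lv] at a0 a2
        simp only [HW.lev, DC.hd, Fin.sum_univ_three, Matrix.cons_val]
        simp only [Fin.val_zero, Fin.val_two] at a0 a2
        omega)
    have h2 : B.map φ ≤ Subgroup.closure {g | ∃ b ∈ ({r3 0 1, r3 2 3, r3 0 2, r3 1 3, r3 0 3} : Finset (Pos 3)), ∃ t,
        g = D.z b t} := fun x hx => by
      obtain ⟨s, t, u, rfl⟩ := hB x hx
      refine mul_mem (mul_mem (mul_mem ?_ ?_) (mul_mem ?_ ?_)) ?_ <;> exact Subgroup.subset_closure ⟨_, by decide, _, rfl⟩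
    exact fun a ha b hb c hc => h1 a (h2 ha) b (h2 hb) c (h2 hc)
  · have h1 : F.valB (B.map φ) ≤ 3 * 4 := (sum_le_card_nsmul _ _ 6 fun j _ => by
      have := cod_le_three hR hp (F.rep j) (hl' j) hc hB
      rw [hd j, if_neg (by simp)]; omega).trans (by rw [card_univ, smul_eq_mul]; omega)
    refine (Nat.pow_le_pow_right (pow_pos (Fact.out : p.Prime).pos _) h1).trans ?_
    rw [pow_mul]
    exact Nat.pow_le_pow_left b2 _

end rep

section ct

variable {p n : ℕ} {k G : Type} [Field k] [Group G] {D : RDat p (Fin n) (Pos n) k G} [Fact p.Prime] [CharP k p]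

theorem flex_ops {σ : Equiv.Perm (Fin n)} {F : Fam D σ} (h : F.Flex (fl n)) : ∃ (S O : Finset (Pos n))
    (X : ∀ j, Set (Module.End k (F.L j))) (N : ∀ j, Submodule k (F.L j)), S.card + O.card ≠ 0 ∧
    (∀ j, Ops (F.H j) (X j) S O ∧ ∀ f ∈ X j, N j ≤ LinearMap.ker f) ∧
    ∑ j, 2 * ((F.H j).d - finrank k (N j)) ≤ 4 * (S.card + O.card) := by
  obtain ⟨S, O, c, h1, h2, h3, h4, h5⟩ := h
  refine ⟨S, O, _, _, fun e => ?_, fun j => ⟨⟨h4 j, h1, fun b hb => ⟨1, one_ne_zero, Or.inl ⟨b, hb, one_smul _ _⟩⟩,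
    fun o ho => ⟨(h2 o ho).1, (h2 o ho).2.1, (h2 o ho).2.2.1⟩,
    fun o ho => ⟨1, c o, one_ne_zero, (h2 o ho).2.2.2, Or.inr ⟨o, ho, by rw [one_smul]⟩⟩⟩, ?_⟩, h5⟩
  · have := card_union_le S O
    have := card_pos.2 h3
    omega
  · rintro f (⟨b, hb, rfl⟩ | ⟨o, ho, rfl⟩)
    · exact fun v hv => (F.H j).mem_kerL.1 hv.1 b hb
    · exact inf_le_right.trans (iInf₂_le o ho)

variable [Infinite k] {T S : Type} [Group T] [Finite T] [Group S] {M : Std D T S} (hM : StdA M)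
include hM

theorem StdA.good {F : Fam D (M.gι M.σ)} (h : M.σ = 1) {κ : Fin n} (h' : F.val (MM κ) ≤ 4 * (MM κ).card) : M.Q F :=
  Or.inl (good_MM F hM.isA (fun b hb => by rw [h, map_one]; exact hb) h')

theorem StdA.ct : CT D (fun _ => True) (M.gι M.σ) (M.gΦ M.σ) M.Q := by
  intro F _ hT hF S' h1 h2 h3 h4
  obtain ⟨κ, h5⟩ := exists_val F hM.isA hT h1 h2 h3 h4
  rcases hM.gr M.σ with e | ⟨hn, e1, e2⟩
  · exact hM.good e h5
  have e3 : M.σ ≠ 1 := fun e => by
    rw [e, map_one] at e1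
    have := congrArg (fun π : Equiv.Perm (Fin n) => ((π ⟨0, by omega⟩ : Fin n) : ℕ)) e1
    simp only [Equiv.Perm.one_apply, Fin.revPerm_apply, Fin.val_rev] at this
    omega
  rcases ct_tw F hM.isA hn e1 h5 with h6 | ⟨hd, h6⟩
  · exact Or.inl (e2 ▸ h6)
  obtain ⟨S0, O, X, N, a1, a2, a3⟩ := flex_ops (e2 ▸ hF (by rw [e2]; exact Equiv.ext fl_fl) hd)
  rcases h6 with ⟨rfl, j, h6⟩ | ⟨rfl, h6, h7⟩
  · have b1 := no_flex5 hM.isA h6 (a2 j).1 (a2 j).2 a1
    have b2 := single_le_sum (f := fun j => 2 * ((F.H j).d - finrank k (N j))) (fun _ _ => Nat.zero_le _) (mem_univ j)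
    omega
  by_cases hp : p = 2
  · exact Or.inr (goodT3 hM.isA hp F hd h6.le h7 M.f_pos ((sub3'_iff _ _ _).1 (hM.sub hp e3)))
  have b1 := card_nsmul_le_sum univ (fun j => 2 * ((F.H j).d - finrank k (N j))) (2 * (S0.card + O.card + 1)) fun j _ => by
    obtain ⟨i, c1, c2⟩ := h7 j
    rw [show i = 1 from Fin.ext c1] at c2
    have := no_flex3 hM.isA c2 hp (a2 j).1 (a2 j).2 a1
    omega
  rw [card_univ, h6, smul_eq_mul] at b1
  omega

end ct

end Cfsg.Agent.TwoF.DC.TA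
end

-- part: TwoF/DC/TA/Bg
section
/-!
# TwoF, defining characteristic, type `A_n` (8): `BG` and `CTF` (helper97)
-/

set_option autoImplicit false
set_option linter.unusedSectionVars false

namespace Cfsg.Agent.TwoF.DC.TA

open Finset Module
open Cfsg.Agent.H356.TA (Pos)

theorem mono_val {c c0 d d0 : ℕ} (h1 : c0 ≤ c) (h2 : c < d) (h3 : d0 ≤ d) : c0 * (2 * d0 - c0) ≤ c * (2 * d - c) := by
  obtain ⟨s, rfl⟩ := Nat.exists_eq_add_of_le h1
  obtain ⟨t, rfl⟩ := Nat.exists_eq_add_of_lt h2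
  refine (Nat.mul_le_mul_left c0 (show 2 * d0 - c0 ≤ c0 + 2 * s + 2 * t + 2 by omega)).trans ?_
  rw [show 2 * (c0 + s + t + 1) - (c0 + s) = c0 + s + 2 * t + 2 by omega]
  nlinarith only []

theorem bg3 : go (fun l => l.length ≤ 1 || 3 ≤ cnt T3 l) (rts 3) [] = true := by decide +kernel

variable {n : ℕ}

namespace IsA

variable {R : RC (Fin n) (Pos n)} (hR : IsA R) {p : ℕ} [Fact p.Prime]
include hR

theorem hi_mem (hn : 1 ≤ n) {S : Finset (Pos n)} (hS : S.Nonempty) (hI : R.Idl p S) : hi hn ∈ S := by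
  obtain ⟨b, hb⟩ := hS
  exact hR.idl_mem (Fact.out : p.Prime).ne_one hI hb (Fin.zero_le _) (Fin.le_last _)

theorem card_le_sq {S : Finset (Pos n)} (hA : R.Ab p S) (hI : R.Idl p S) : 4 * S.card ≤ (n + 1) * (n + 1) := by
  rcases S.eq_empty_or_nonempty with rfl | hS
  · simp
  obtain ⟨κ, h⟩ := hR.exists_MM (Fact.out : p.Prime).ne_one hS hA hI
  have h1 := card_le_card h
  have hκ := κ.2
  obtain ⟨t, ht⟩ : ∃ t, n = κ + 1 + t := ⟨n - κ - 1, by omega⟩
  rw [card_MM, show n - κ = t + 1 by omega] at h1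
  generalize (κ : ℕ) = s at ht h1
  generalize S.card = r at h1
  subst ht
  linarith only [h1, sq_nonneg ((s : ℤ) - t)]

variable {k L : Type} [Field k] [AddCommGroup L] [Module k L] [CharP k p] (H : HW R p k L)

theorem choose_theta (hn : 1 ≤ n) {i : Fin n} (h : H.lam i ≠ 0) {S : Finset (Pos n)} (hS : hi hn ∈ S) :
    (n - 1).choose i ≤ H.cL S := by
  have h2 : (0 : Fin (n + 1)) ≠ Fin.last n := (hi hn).2.ne
  have h0 : ∀ T ∈ powersetCard i ((univ.erase (Fin.last n)).erase 0), Fin.last n ∉ T ∧ 0 ∉ T :=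
    fun T hT => ⟨fun e => notMem_erase _ _ (mem_of_mem_erase ((mem_powersetCard.1 hT).1 e)),
      fun e => notMem_erase _ _ ((mem_powersetCard.1 hT).1 e)⟩
  have h1 := hR.card_le_cL H h S ((powersetCard i ((univ.erase (Fin.last n)).erase 0)).image (insert (Fin.last n)))
    fun T' hT' => by
      obtain ⟨T, hT, rfl⟩ := mem_image.1 hT'
      exact ⟨by rw [card_insert_of_notMem (h0 T hT).1, (mem_powersetCard.1 hT).2], _, hS,
        fun e => (mem_insert.1 e).elim h2 (h0 T hT).2, mem_insert_self _ _⟩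
  rwa [card_image_of_injOn fun T hT T' hT' e => by rw [← erase_insert (h0 T hT).1, e, erase_insert (h0 T' hT').1],
    card_powersetCard, card_erase_of_mem (mem_erase.2 ⟨h2, mem_univ _⟩), card_erase_of_mem (mem_univ _), card_univ,
    Fintype.card_fin, Nat.add_sub_cancel] at h1

omit hR in
theorem card_pairs (P : Finset (Fin (n + 1) × Fin (n + 1))) :
    (P.image fun z => (({z.1}, {z.2}) : Finset (Fin (n + 1)) × Finset (Fin (n + 1)))).card = P.card :=
  card_image_of_injective _ fun _ _ e =>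
    Prod.ext (singleton_injective (congrArg Prod.fst e)) (singleton_injective (congrArg Prod.snd e))

theorem adj_le_d (hn : 2 ≤ n) {i : Fin n} (hi : (i : ℕ) = 0) (h : H.lam i ≠ 0) (h' : H.lam i.rev ≠ 0) :
    (n + 1) * n ≤ H.d := by
  have h1 := hR.card_pair_le_d H h h' (by omega) ((univ.offDiag).image fun z => ({z.1}, {z.2})) fun z hz => by
    obtain ⟨w, hw, rfl⟩ := mem_image.1 hz
    exact ⟨disjoint_singleton.2 (mem_offDiag.1 hw).2.2, by rw [hi]; rfl, by rw [hi]; rfl⟩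
  rw [card_pairs, offDiag_card, card_univ, Fintype.card_fin] at h1
  rw [mul_add, mul_one, Nat.add_sub_cancel] at h1
  exact h1

theorem succ_le_d : n + 1 ≤ H.d := by
  obtain ⟨i, h⟩ := H.exists_lam_pos
  have h1 := hR.choose_le_d H h.ne'
  have h2 := choose_le_mid (N := n + 1) (a := 1) (m := i + 1) (by omega) (by omega)
  rw [Nat.choose_one_right] at h2
  omega

theorem mid_le_d {i : Fin n} (h : H.lam i ≠ 0) (h1 : 1 ≤ (i : ℕ)) (h2 : (i : ℕ) + 2 ≤ n) : (n + 1) * n ≤ 2 * H.d := by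
  have h3 := hR.choose_le_d H h
  have h4 := choose_le_mid (N := n + 1) (a := 2) (m := i + 1) (by omega) (by omega)
  have h5 := two_choose_two n
  omega

omit H in
theorem bg (hn : 2 ≤ n) (k : Type) [Field k] [CharP k p] : BG R p k Fin.revPerm := by
  intro L _ _ H h
  have h' : ∀ i : Fin n, H.lam i.rev = H.lam i := fun i => congrFun h i
  obtain ⟨i, h1, h2⟩ : ∃ i : Fin n, H.lam i ≠ 0 ∧ ((i : ℕ) = 0 ∨ (i : ℕ) + 2 ≤ n) := by
    obtain ⟨i, h1⟩ := H.exists_lam_pos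
    by_cases h2 : (i : ℕ) + 2 ≤ n
    · exact ⟨i, h1.ne', Or.inr h2⟩
    · exact ⟨i.rev, by rw [h']; exact h1.ne', Or.inl (by rw [Fin.val_rev]; omega)⟩
  by_cases h0 : (i : ℕ) = 0
  · have a1 := hR.adj_le_d H hn h0 h1 (by rwa [h'])
    refine ⟨by nlinarith, fun S hS hA hI => ?_⟩
    have a2 := hR.card_le_sq hA hI
    have a3 : 2 ≤ H.cL S := by
      have e1 : (0 : Fin (n + 1)) ≠ ⟨1, by omega⟩ := by simp [Fin.ext_iff]
      have a3 := hR.card_pair_le_cL H h1 (by rwa [h']) (by omega) S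
        (({(Fin.last n, 0), (Fin.last n, ⟨1, by omega⟩)} : Finset _).image fun z => ({z.1}, {z.2})) fun z hz => by
          obtain ⟨w, hw, rfl⟩ := mem_image.1 hz
          rw [mem_insert, mem_singleton] at hw
          refine ⟨⟨disjoint_singleton.2 ?_, by rw [h0]; rfl, by rw [h0]; rfl⟩, _, hR.hi_mem (by omega) hS hI, ?_⟩ <;>
            rcases hw with rfl | rfl <;>
            simp only [hi, ind, Pi.sub_apply, mem_singleton, ne_eq, Fin.ext_iff, Fin.val_last, Fin.val_zero, if_true] <;>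
            omega
      rwa [card_pairs, card_pair fun e => e1 (congrArg Prod.snd e)] at a3
    have a4 := mono_val a3 (H.cL_lt_d S) a1
    have a5 : (n + 1) * (n + 1) + 12 < 4 * ((n + 1) * n) := by nlinarith only [hn]
    omega
  have h3 : (i : ℕ) + 2 ≤ n := by omega
  have a1 := hR.mid_le_d H h1 (by omega) h3
  refine ⟨by nlinarith only [a1, show 3 ≤ n by omega], fun S hS hA hI => ?_⟩
  have a2 := hR.card_le_sq hA hI
  have a3 := hR.choose_theta H (by omega) h1 (hR.hi_mem (by omega) hS hI)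
  have a4 := choose_le_mid (N := n - 1) (a := 1) (m := i) (by omega) (by omega)
  rw [Nat.choose_one_right] at a4
  have a5 := H.cL_lt_d S
  by_cases h4 : n = 3
  · subst h4
    obtain rfl : i = 1 := Fin.ext (by omega)
    obtain ⟨l, b1, b2, b3⟩ := go_fin S ((hR.ab_iff (Fact.out : p.Prime).ne_one S).1 hA) bg3
    have b4 := hR.cnt_le H h1 T3_card T3_nodup b3
    simp only [Bool.or_eq_true, decide_eq_true_iff] at b1
    rcases b1 with e | e
    · have := mono_val (c0 := 2) (d0 := 6) (by omega) a5 (by omega); omega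
    · have := mono_val (c0 := 3) (d0 := 6) (by omega) a5 (by omega); omega
  · have b1 := mono_val (c0 := n - 1) (d0 := H.d) (by omega) a5 le_rfl
    obtain ⟨t, rfl⟩ : ∃ t, n = t + 4 := ⟨n - 4, by omega⟩
    rw [show t + 4 - 1 = t + 3 by omega] at b1
    have b2 : (t + 3) * (t * t + 8 * t + 17) ≤ (t + 3) * (2 * H.d - (t + 3)) :=
      Nat.mul_le_mul_left _ (Nat.le_sub_of_add_le (by linarith only [a1]))
    nlinarith only [a2, b1, b2]

theorem nat_of_d (hp : p = 2) (h : 2 ≤ n → H.d ≤ n + 1) : Sg H.lam 0 ∨ Sg H.lam (n - 1) := by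
  have h1 : ∀ i : Fin n, H.lam i ≠ 0 → (i : ℕ) = 0 ∨ (i : ℕ) = n - 1 := fun i hi => by
    by_contra e
    have := i.2
    have := hR.mid_le_d H hi (by omega) (by omega)
    have := h (by omega)
    nlinarith [show 3 ≤ n by omega]
  obtain ⟨i, h2⟩ := H.exists_lam_pos
  have h3 : H.lam = Pi.single i 1 := funext fun j => by
    by_cases e : j = i
    · have := H.lam_lt i
      rw [e, Pi.single_eq_same]; omega
    · rw [Pi.single_eq_of_ne e]
      by_contra e'
      have e1 : (j : ℕ) ≠ i := fun e1 => e (Fin.ext e1)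
      have key : ∀ a b : Fin n, (a : ℕ) = 0 → (b : ℕ) = n - 1 → (a : ℕ) ≠ b → H.lam a ≠ 0 → H.lam b ≠ 0 → False := by
        intro a b ha hb hab h4 h5
        have := hR.adj_le_d H (by omega) ha h4 (by rwa [show a.rev = b from Fin.ext (by rw [Fin.val_rev]; omega)])
        have := h (by omega)
        nlinarith [show 2 ≤ n by omega]
      rcases h1 i h2.ne' with a | a <;> rcases h1 j e' with b | b
      · omega
      · exact key i j a b e1.symm h2.ne' e'
      · exact key j i b a e1 e' h2.ne'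
      · omega
  exact (h1 i h2.ne').imp (fun e => ⟨i, e, h3⟩) fun e => ⟨i, e, h3⟩

end IsA

variable {p : ℕ} {k G : Type} [Field k] [Group G] {D : RDat p (Fin n) (Pos n) k G} [Fact p.Prime] [CharP k p]
  [Infinite k] {T S : Type} [Group T] [Finite T] [Group S] {M : Std D T S} (hM : StdA M)
include hM

theorem StdA.ctf (hn : 1 ≤ n) (hp : p = 2) : CTF D (fun _ => True) (M.gι M.σ) M.Q := by
  intro J _ _ L _ _ H rep _ S' hA hI sl h1 h2 h3
  have hR := hM.isA
  have a1 := hR.card_le_sq hA hI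
  have a2 : ∀ j, n + 1 ≤ (H j).d := fun j => hR.succ_le_d (H j)
  have a3 : ∀ {d e : ℕ}, e + 1 ≤ d → (e + 1) * e ≤ d * (d - 1) := fun h => Nat.mul_le_mul h (by omega)
  have a4 : (S'.card = 0 ∧ (if S'.Nonempty then 2 else 0) = 0) ∨ (if S'.Nonempty then 2 else 0) = 2 := by
    split_ifs with e
    · exact Or.inr rfl
    · exact Or.inl ⟨by rw [not_nonempty_iff_eq_empty.1 e]; rfl, rfl⟩
  generalize (if S'.Nonempty then 2 else 0) = ε at h3 a4
  have hJ : Fintype.card J = 1 := by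
    by_contra e
    have b0 : 2 ≤ Fintype.card J := by have := Fintype.card_pos (α := J); omega
    have b1 : ∀ e : ℕ, (∀ j, e + 1 ≤ (H j).d) → 2 * ((e + 1) * e + ε) ≤ 4 * S'.card + sl := fun e he => by
      have := card_nsmul_le_sum univ (fun j => (H j).d * ((H j).d - 1) + ε) ((e + 1) * e + ε)
        fun j _ => Nat.add_le_add_right (a3 (he j)) _
      rw [card_univ, smul_eq_mul] at this
      exact ((Nat.mul_le_mul_right _ b0).trans this).trans h3
    have b2 := b1 n a2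
    have b3 : n = 1 := by rcases a4 with ⟨e1, rfl⟩ | rfl <;> nlinarith
    subst b3
    rcases h2 with e1 | e1 | e1 | e1
    · exact e e1
    · have := b1 2 e1; omega
    · omega
    · omega
  refine ⟨hJ, fun hσ => ?_⟩
  obtain ⟨j0, hj0⟩ := Fintype.card_eq_one_iff.1 hJ
  have hu : (univ : Finset J) = {j0} := eq_singleton_iff_unique_mem.2 ⟨mem_univ _, fun j _ => hj0 j⟩
  rw [hu, sum_singleton] at h3
  have b1 : (H j0).d ≤ n + 1 ∨ n = 1 := by
    by_contra e
    have := a3 (d := (H j0).d) (e := n + 1) (by omega)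
    rcases a4 with ⟨e1, rfl⟩ | rfl <;> nlinarith [show 2 ≤ n by omega]
  have b2 := hR.nat_of_d (H j0) hp fun e => b1.resolve_right (by omega)
  have b3 : (H j0).d ≤ n + 1 := by
    rcases b2 with ⟨i, e1, e2⟩ | ⟨i, e1, e2⟩ <;> have := hR.d_single_le _ e2 <;> rw [e1] at this
    · rwa [Nat.zero_add, Nat.choose_one_right] at this
    · rwa [show n - 1 + 1 = n by omega, Nat.choose_succ_self_right] at this
  rcases hM.gr M.σ with e | ⟨h4, e, -⟩
  · have key : ∀ κ : Fin n, (H j0).cL (MM κ) ≤ 1 → (κ + 1) * (n - κ) = n →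
        ∑ j, (if true then (H j).cL (MM κ) * (2 * (H j).d - (H j).cL (MM κ)) else 2 * (H j).cL (MM κ)) ≤ 4 * (MM κ).card := by
      intro κ c1 c2
      rw [hu, sum_singleton, if_pos rfl, card_MM, c2]
      rcases Nat.le_one_iff_eq_zero_or_eq_one.1 c1 with e | e <;> rw [e] <;> omega
    rcases b2 with e1 | e1
    · refine hM.good e (key ⟨n - 1, by omega⟩ (((H j0).cL_le_cG _).trans ((hR.cG_nat _ e1 _).trans ?_)) ?_)
      · rw [image_snd_MM hR]; simp only; omega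
      · simp only; rw [show n - (n - 1) = 1 by omega]; omega
    · refine hM.good e (key ⟨0, by omega⟩ (((H j0).cL_le_cG _).trans ((hR.cG_dual _ e1 _).trans ?_)) (by simp))
      rw [image_fst_MM hR]
  · exfalso
    have c1 := hσ j0
    rw [e] at c1
    rcases b2 with ⟨i, e1, e2⟩ | ⟨i, e1, e2⟩ <;> rw [e2, single_rev] at c1 <;> have c2 := congrFun c1 i <;>
      rw [Pi.single_eq_same, Pi.single_eq_of_ne fun e => by rw [Fin.ext_iff, Fin.val_rev] at e; omega] at c2 <;> cases c2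

end Cfsg.Agent.TwoF.DC.TA
end

-- part: TwoF/DC/TA/Cg
section
/-!
# TwoF, defining characteristic, type `A_n` (9): modules with a graph automorphism (helper97)
-/

set_option autoImplicit false
set_option linter.unusedSectionVars false

namespace Cfsg.Agent.TwoF.DC.TA

open Finset Module
open Cfsg.Agent.H356.TA (Pos)

/-- only smaller mirror images, no root whose sum with its mirror image is a root -/
def low (n : ℕ) (g : List ℕ) (l : List (ℕ × ℕ)) : Bool := l.all fun r => !lo n g r && r.1 + r.1 != n && r.2 + r.2 != n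
/-- the four element subsets of `Fin 8` -/
def T7 : List ℕ := (List.range 256).filter fun T => (Tset 7 T).card = 4

theorem gen2 : ∀ b : Pos 2, fl 2 b = b ∨ lo 2 [0, 1, 1] (vl b) ∨ lo 2 [0, 1, 1] (vl (fl 2 b)) := by decide +kernel
theorem gen4 : ∀ b : Pos 4, fl 4 b = b ∨ lo 4 [0, 1, 2, 2, 2] (vl b) ∨ lo 4 [0, 1, 2, 2, 2] (vl (fl 4 b)) := by
  decide +kernel
theorem gen5c : ∀ b : Pos 5, fl 5 b = b ∨ lo 5 [0, 1, 2, 2, 2, 2] (vl b) ∨ lo 5 [0, 1, 2, 2, 2, 2] (vl (fl 5 b)) := by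
  decide +kernel
theorem cg2 : go (fun l => !low 2 [0, 1, 1] l || l.length == 0 || (l.length == 1 && l.contains (0, 2))) (rts 2) [] = true := by
  decide +kernel
theorem cg3 : go (fun l => !low 3 [0, 1, 1, 1] l || l.length ≤ 3) (rts 3) [] = true := by decide +kernel
theorem cg4 : go (fun l => !low 4 [0, 1, 2, 2, 2] l || l.length ≤ 3) (rts 4) [] = true := by decide +kernel
private noncomputable def _root_.Cfsg.Agent.LsF.fa83ab5_5 : {f // @Cfsg.Agent.TwoF.DC.TA.low = f} := ⟨_, by first | (delta Cfsg.Agent.TwoF.DC.TA.low; rewrite [Cfsg.Agent.LsF.fa83ab5_1.2, Cfsg.Agent.LsF.nadd_pat, Cfsg.Agent.LsF.nbne_pat, Cfsg.Agent.LsF.and_eq, Cfsg.Agent.LsF.not_eq, Cfsg.Agent.LsF.all_eq]; exact rfl) | exact rfl⟩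
theorem cg5a : go (fun l => !low 5 [1, 2, 0, 0, 0, 0] l || l.length == 0 || 2 * l.length + 2 < cnt T5 l ||
    l.contains (1, 4)) (rts 5) [] = true := by ((try (rewrite [Cfsg.Agent.LsF.fa83ab5_0.2, Cfsg.Agent.LsF.fa83ab5_5.2, Cfsg.Agent.LsF.fa83ab5_3.2, Cfsg.Agent.LsF.fa83ab5_4.2, Cfsg.Agent.LsF.nadd_pat, Cfsg.Agent.LsF.nmul_pat, Cfsg.Agent.LsF.nbeq_pat, Cfsg.Agent.LsF.instNBEq_pat, Cfsg.Agent.LsF.or_eq, Cfsg.Agent.LsF.not_eq, Cfsg.Agent.LsF.decLt_eq, Cfsg.Agent.LsF.contains_eq, Cfsg.Agent.LsF.instPBEq_eq, Cfsg.Agent.LsF.length_eq, Cfsg.Agent.LsF.decide_eq])); decide +kernel)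
theorem cg5b : go (fun l => !low 5 [0, 2, 1, 1, 1, 1] l || 2 * l.length + 2 < cnt T5 l || l.length ≤ 5)
    (rts 5) [] = true := by ((try (rewrite [Cfsg.Agent.LsF.fa83ab5_0.2, Cfsg.Agent.LsF.fa83ab5_5.2, Cfsg.Agent.LsF.fa83ab5_3.2, Cfsg.Agent.LsF.fa83ab5_4.2, Cfsg.Agent.LsF.nadd_pat, Cfsg.Agent.LsF.nmul_pat, Cfsg.Agent.LsF.or_eq, Cfsg.Agent.LsF.not_eq, Cfsg.Agent.LsF.decLe_eq, Cfsg.Agent.LsF.decLt_eq, Cfsg.Agent.LsF.length_eq, Cfsg.Agent.LsF.decide_eq])); decide +kernel)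
theorem cg5c : go (fun l => !low 5 [0, 1, 2, 2, 2, 2] l || !l.contains (1, 4) || 2 * l.length + 2 < cnt T5 l ||
    l.length == 7) (rts 5) [] = true := by ((try (rewrite [Cfsg.Agent.LsF.fa83ab5_0.2, Cfsg.Agent.LsF.fa83ab5_5.2, Cfsg.Agent.LsF.fa83ab5_3.2, Cfsg.Agent.LsF.fa83ab5_4.2, Cfsg.Agent.LsF.nadd_pat, Cfsg.Agent.LsF.nmul_pat, Cfsg.Agent.LsF.nbeq_pat, Cfsg.Agent.LsF.instNBEq_pat, Cfsg.Agent.LsF.or_eq, Cfsg.Agent.LsF.not_eq, Cfsg.Agent.LsF.decLt_eq, Cfsg.Agent.LsF.contains_eq, Cfsg.Agent.LsF.instPBEq_eq, Cfsg.Agent.LsF.length_eq, Cfsg.Agent.LsF.decide_eq])); decide +kernel)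
private noncomputable def _root_.Cfsg.Agent.LsF.fa83ab5_6 : {f // @Cfsg.Agent.TwoF.DC.TA.Tset = f} := ⟨_, by first | (delta Cfsg.Agent.TwoF.DC.TA.Tset; rewrite [Cfsg.Agent.LsF.finFintype_eq, Cfsg.Agent.LsF.ffilter_eq, Cfsg.Agent.LsF.testBit_eq, Cfsg.Agent.LsF.dBoolEq_eq]; exact rfl) | exact rfl⟩
private noncomputable def _root_.Cfsg.Agent.LsF.fa83ab5_7 : {f // @Cfsg.Agent.TwoF.DC.TA.T7 = f} := ⟨_, by first | (delta Cfsg.Agent.TwoF.DC.TA.T7; rewrite [Cfsg.Agent.LsF.fa83ab5_6.2, Cfsg.Agent.LsF.fcard_eq, Cfsg.Agent.LsF.instDecEq_eq, Cfsg.Agent.LsF.filter_eq, Cfsg.Agent.LsF.range_eq, Cfsg.Agent.LsF.decide_eq]; exact rfl) | exact rfl⟩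
theorem cg7 : cnt T7 [(0, 7), (0, 6), (1, 7)] = 40 := by (refine of_decide_eq_true ?_; (try (rewrite [Cfsg.Agent.LsF.fa83ab5_3.2, Cfsg.Agent.LsF.fa83ab5_7.2, Cfsg.Agent.LsF.instDecEq_eq, Cfsg.Agent.LsF.decide_eq])); decide +kernel)

theorem T7_nodup : (T7.map (Tset 7)).Nodup := (List.nodup_range.filter _).map_on fun T hT T' hT' e => by
  have h1 := List.mem_range.1 (List.mem_filter.1 hT).1
  have h2 := List.mem_range.1 (List.mem_filter.1 hT').1
  refine Nat.eq_of_testBit_eq fun j => ?_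
  by_cases h : j < 8
  · have := Finset.ext_iff.1 e ⟨j, h⟩
    simp only [Tset, mem_filter, mem_univ, true_and] at this
    exact Bool.eq_iff_iff.2 this
  · have h3 : 256 ≤ 2 ^ j := Nat.pow_le_pow_right (n := 2) (by omega) (show 8 ≤ j by omega)
    rw [Nat.testBit_eq_false_of_lt (by omega), Nat.testBit_eq_false_of_lt (by omega)]

theorem lt_choose_two {i : ℕ} (h : 4 ≤ i) : 2 * ((i + 1) * (i + 1)) + 2 < (2 * i).choose i := by
  induction i, h using Nat.le_induction with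
  | base => decide
  | succ i h ih =>
    have h1 := Nat.choose_le_choose i (show 2 * i ≤ 2 * i + 1 by omega)
    rw [show 2 * (i + 1) = 2 * i + 1 + 1 by ring, Nat.choose_succ_succ', Nat.choose_symm_half]
    nlinarith

variable {n : ℕ} {R : RC (Fin n) (Pos n)} {p : ℕ} {k L : Type} [Field k] [AddCommGroup L] [Module k L]

theorem fix_gen {H : HW R p k L} {γ : Equiv.Perm (Fin n)} {γ' : Equiv.Perm (Pos n)} (g : H.GOp γ γ') {ι : Type}
    [Fintype ι] (μ : ι → Fin n → ℤ) (v : ι → L) (hv : ∀ i, v i ∈ H.w (μ i)) (hμ : Function.Injective μ)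
    (h : ∀ i, (v i ≠ 0 ∧ ∀ j, μ j ∘ γ.symm ≠ μ i) ∨ (g.g (v i) ≠ v i ∧ μ i ∘ γ.symm = μ i)) :
    Fintype.card ι + finrank k (LinearMap.ker (g.g.toLinearMap - 1)) ≤ H.d := by
  have := H.fd
  refine card_add_le _ v fun c hc i => ?_
  have h1 := congrArg (H.pr (μ i)) (sub_eq_zero.1 (LinearMap.mem_ker.1 hc))
  rw [LinearEquiv.coe_coe, map_sum, map_sum, Module.End.one_apply, map_sum, sum_eq_single i (f := fun j => H.pr (μ i) (c j • v j))
    (fun j _ hj => by rw [map_smul, H.pr_of_ne (hv j) fun e => hj (hμ e), smul_zero]) (fun e => (e (mem_univ _)).elim),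
    map_smul, H.pr_of_mem (hv i)] at h1
  rcases h i with ⟨h2, h3⟩ | ⟨h2, h3⟩
  · rw [sum_eq_zero fun j _ => by rw [map_smul, map_smul, H.pr_of_ne (g.g_w _ _ (hv j)) (h3 j), smul_zero]] at h1
    exact (smul_eq_zero.1 h1.symm).resolve_right h2
  · rw [sum_eq_single i (fun j _ hj => by
      rw [map_smul, map_smul, H.pr_of_ne (g.g_w _ _ (hv j)) fun e => hj (hμ (γ.symm.surjective.injective_comp_right
        (e.trans h3.symm))), smul_zero]) (fun e => (e (mem_univ _)).elim), map_smul, map_smul,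
      H.pr_of_mem (h3 ▸ g.g_w _ _ (hv i)), ← sub_eq_zero, ← smul_sub] at h1
    exact (smul_eq_zero.1 h1).resolve_right (sub_ne_zero.2 h2)

theorem fix_vec {H : HW R p k L} {γ' : Equiv.Perm (Pos n)} (g : H.GOp Fin.revPerm γ') (A : Finset (Fin (n + 1) → ℤ))
    (hA : ∀ m ∈ A, H.IsWt (tw m) ∧ ∑ a, m a = ∑ a, m0 H a ∧ 2 * ∑ a, m a < (n + 1) * (m 0 + m (Fin.last n))) :
    A.card + finrank k (LinearMap.ker (g.g.toLinearMap - 1)) ≤ H.d := by
  choose v hv h0 using fun m : A => H.isWt_iff.1 (hA m.1 m.2).1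
  rw [← Fintype.card_coe]
  refine fix_gen g (fun m : A => tw m.1) v hv (fun m m' e => Subtype.ext (tw_inj e
    ((hA _ m.2).2.1.trans (hA _ m'.2).2.1.symm))) fun m => Or.inl ⟨h0 m, fun m' e => ?_⟩
  rw [tw_rev, ← sub_eq_zero, ← tw_sub] at e
  have h1 := const_of_tw e
  have h2 : ∑ a, (-(m'.1 ∘ rv n) - m.1) a = (n + 1) * (-(m'.1 ∘ rv n) - m.1) 0 := by
    rw [sum_congr rfl fun a _ => h1 a, sum_const, card_univ, Fintype.card_fin, nsmul_eq_mul]; push_cast; rfl
  have h3 := h1 (Fin.last n)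
  have h4 := (hA _ m.2).2.2
  have h5 := (hA _ m'.2).2.2
  have h6 := sum_comp m'.1 (rv n)
  have r0 : rv n 0 = Fin.last n := Fin.rev_zero n
  have r1 : rv n (Fin.last n) = 0 := Fin.rev_last n
  simp only [Pi.sub_apply, Pi.neg_apply, sum_sub_distrib, sum_neg_distrib, h6] at h2
  simp only [Pi.sub_apply, Pi.neg_apply, Function.comp_apply, r0, r1] at h2 h3
  have h7 : m'.1 0 = m'.1 (Fin.last n) + m.1 0 - m.1 (Fin.last n) := by omega
  rw [h7] at h5
  linarith only [h4, h5, h2]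

theorem two_sum {H : HW R p k L} (h : H.lam ∘ (Fin.revPerm : Equiv.Perm (Fin n)).symm = H.lam) :
    2 * ∑ a, m0 H a = (n + 1) * (m0 H 0 + m0 H (Fin.last n)) := by
  have e : tw (m0 H + m0 H ∘ rv n) = 0 := by
    rw [← sub_neg_eq_add, tw_sub, ← tw_rev, tw_m0, sub_eq_zero]
    exact funext fun i => congrArg Nat.cast (congrFun h i).symm
  have h1 := sum_congr (rfl : (univ : Finset (Fin (n + 1))) = _) fun a _ => const_of_tw e a
  have r0 : rv n 0 = Fin.last n := Fin.rev_zero n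
  rw [sum_const, card_univ, Fintype.card_fin, nsmul_eq_mul] at h1
  simp only [Pi.add_apply, sum_add_distrib, sum_comp] at h1
  rw [Function.comp_apply, r0] at h1
  push_cast at h1
  omega

/-- the second index -/
def o1 (hn : 2 ≤ n) : Fin (n + 1) := ⟨1, by omega⟩

theorem sw_zero (hn : 2 ≤ n) : Equiv.swap (o1 hn) (Fin.last n) 0 = 0 :=
  Equiv.swap_apply_of_ne_of_ne (by simp [o1, Fin.ext_iff]) (by simp only [ne_eq, Fin.ext_iff, Fin.val_zero, Fin.val_last]; omega)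

theorem last_lt_one {H : HW R p k L} (hn : 2 ≤ n) (h : H.lam ∘ (Fin.revPerm : Equiv.Perm (Fin n)).symm = H.lam) :
    m0 H (Fin.last n) < m0 H (o1 hn) := by
  obtain ⟨i, h1⟩ := H.exists_lam_pos
  have h' : H.lam i.rev = H.lam i := congrFun h i
  by_cases h2 : 1 ≤ (i : ℕ)
  · have := m0_add_le H i (a := o1 hn) (b := Fin.last n) h2 i.2; omega
  · have := m0_add_le H i.rev (a := o1 hn) (b := Fin.last n) (by rw [Fin.val_rev]; show 1 ≤ _; omega) i.rev.2; omega

namespace IsA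

variable (hR : IsA R) {H : HW R p k L}
include hR

theorem fix_orb (hn : 2 ≤ n) (h : H.lam ∘ (Fin.revPerm : Equiv.Perm (Fin n)).symm = H.lam) {γ' : Equiv.Perm (Pos n)}
    (g : H.GOp Fin.revPerm γ') {I J : Finset (Fin (n + 1))} (hI : ∀ a ∈ I, a = 0 ∨ a = Fin.last n)
    (hJ : ∀ a ∈ J, a ≠ 0 ∧ a ≠ Fin.last n) (h1 : NC I (m0 H ∘ Equiv.swap (o1 hn) (Fin.last n)))
    (h2 : NC J (m0 H ∘ Equiv.swap (o1 hn) (Fin.last n))) :
    I.card * J.card + finrank k (LinearMap.ker (g.g.toLinearMap - 1)) ≤ H.d := by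
  obtain ⟨A, a1, a2⟩ := exists_orb (disjoint_left.2 fun a ha ha' => (hI a ha).elim (hJ a ha').1 (hJ a ha').2) _ h1 h2
  rw [← a1]
  refine fix_vec g A fun m hm => ?_
  obtain ⟨π, rfl, b1, -, b3⟩ := a2 m hm
  have c : ∀ a, a = 0 ∨ a = Fin.last n → π a = 0 ∨ π a = Fin.last n := fun a ha => by
    by_cases e : a ∈ I
    · exact hI _ ((b1 a).2 e)
    · rwa [b3 a e fun e' => ha.elim (hJ a e').1 (hJ a e').2]
  have c0 : π 0 ≠ π (Fin.last n) := fun e => (hi (by omega : 1 ≤ n)).2.ne (π.injective e)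
  refine ⟨(hR.isWt_perm H _ π).2 (hR.ext_perm H _).isWt, by rw [sum_comp, sum_comp], ?_⟩
  have c1 := last_lt_one hn h
  rw [sum_comp, sum_comp, two_sum h]
  refine mul_lt_mul_of_pos_left ?_ (by positivity)
  rcases c 0 (Or.inl rfl) with e | e <;> rcases c _ (Or.inr rfl) with e' | e'
  · exact (c0 (e.trans e'.symm)).elim
  · simp only [Function.comp_apply, e, e', sw_zero, Equiv.swap_apply_right]; omega
  · simp only [Function.comp_apply, e, e', sw_zero, Equiv.swap_apply_right]; omega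
  · exact (c0 (e.trans e'.symm)).elim

theorem fix_one (hn : 2 ≤ n) (h : H.lam ∘ (Fin.revPerm : Equiv.Perm (Fin n)).symm = H.lam) {γ' : Equiv.Perm (Pos n)}
    (g : H.GOp Fin.revPerm γ') : 1 + finrank k (LinearMap.ker (g.g.toLinearMap - 1)) ≤ H.d :=
  hR.fix_orb hn h g (I := {0}) (J := {o1 hn}) (by simp) (fun a ha => by
    rw [mem_singleton.1 ha]; simp only [o1, ne_eq, Fin.ext_iff, Fin.val_zero, Fin.val_last]; omega)
    (Or.inl le_rfl) (Or.inl le_rfl)

theorem fix_three (hn : 3 ≤ n) (h : H.lam ∘ (Fin.revPerm : Equiv.Perm (Fin n)).symm = H.lam) {γ' : Equiv.Perm (Pos n)}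
    (g : H.GOp Fin.revPerm γ') (h3 : n = 3 → H.lam ⟨0, by omega⟩ ≠ 0) :
    3 + finrank k (LinearMap.ker (g.g.toLinearMap - 1)) ≤ H.d := by
  have h' : ∀ i : Fin n, H.lam i.rev = H.lam i := fun i => congrFun h i
  have hJ : ∀ a ∈ ini n n \ ini n 1, a ≠ 0 ∧ a ≠ Fin.last n := fun a ha => by
    simp only [mem_sdiff, mem_ini, ne_eq, Fin.ext_iff, Fin.val_zero, Fin.val_last] at ha ⊢; omega
  have hc : (ini n n \ ini n 1).card = n - 1 := by
    rw [card_sdiff, ini_inter, card_ini (by omega), card_ini (by omega)]; omega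
  have h2 : NC (ini n n \ ini n 1) (m0 H ∘ Equiv.swap (o1 (by omega)) (Fin.last n)) := by
    obtain ⟨i, a1, a2⟩ : ∃ i : Fin n, H.lam i ≠ 0 ∧ 2 ≤ (i : ℕ) := by
      by_cases e : n = 3
      · exact ⟨_, by rw [h']; exact h3 e, by rw [Fin.val_rev]; simp only; omega⟩
      obtain ⟨i, a1⟩ := H.exists_lam_pos
      by_cases e' : 2 ≤ (i : ℕ)
      · exact ⟨i, a1.ne', e'⟩
      · exact ⟨i.rev, by rw [h']; exact a1.ne', by rw [Fin.val_rev]; omega⟩
    refine Or.inr ⟨o1 (by omega), by simp only [mem_sdiff, mem_ini, o1]; omega, ⟨2, by omega⟩,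
      by simp only [mem_sdiff, mem_ini]; omega, ?_⟩
    have := m0_add_le H i (a := ⟨2, by omega⟩) (b := Fin.last n) a2 i.2
    rw [Function.comp_apply, Function.comp_apply, Equiv.swap_apply_left, Equiv.swap_apply_of_ne_of_ne
      (by simp [o1, Fin.ext_iff]) (by simp only [ne_eq, Fin.ext_iff, Fin.val_last]; omega)]
    omega
  by_cases e : n = 3
  · have h0 : (0 : Fin (n + 1)) ≠ Fin.last n := (hi (by omega : 1 ≤ n)).2.ne
    have := hR.fix_orb (by omega) h g (I := {0, Fin.last n}) (by simp) hJ (Or.inr ⟨0, by simp, Fin.last n, by simp, by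
      have := m0_add_le H ⟨0, by omega⟩ (a := 0) (b := o1 (by omega)) le_rfl Nat.one_pos
      have := h3 e
      rw [Function.comp_apply, Function.comp_apply, sw_zero, Equiv.swap_apply_right]; omega⟩) h2
    rw [card_pair h0, hc] at this; omega
  · have := hR.fix_orb (by omega) h g (I := {0}) (by simp) hJ (Or.inl le_rfl) h2
    rw [card_singleton, hc] at this; omega

variable [Fact p.Prime] [CharP k p]

theorem sq_ne (hp : p = 2) {b b' : Pos n} {x y : k} (hx : x ≠ 0) (hy : y ≠ 0)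
    (h : (x • H.E (true, b) 1 + y • H.E (true, b') 1) ^ p = 0) : b.1.2 ≠ b'.1.1 ∧ b'.1.2 ≠ b.1.1 := by
  have h1 := H.E1_pow_p (true, b)
  have h2 := H.E1_pow_p (true, b')
  subst hp
  have two : (2 : k) = 0 := by exact_mod_cast CharP.cast_eq_zero k 2
  rw [sq] at h h1 h2
  simp only [add_mul, mul_add, smul_mul_assoc, mul_smul_comm, h1, h2, smul_zero, zero_add, add_zero] at h
  have h3 : Commute (H.E (true, b) 1) (H.E (true, b') 1) := by
    refine sub_eq_zero.1 ((smul_eq_zero (r := x * y)).1 ?_ |>.resolve_left (mul_ne_zero hx hy))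
    have h4 : (2 * (x * y)) • (H.E (true, b') 1 * H.E (true, b) 1) = 0 := by rw [two, zero_mul, zero_smul]
    linear_combination (norm := module) h - h4
  exact ⟨hR.ne_of_commute H h3, hR.ne_of_commute H h3.symm⟩

theorem deg_low (hp : p = 2) {X : Set (Module.End k L)} {S O : Finset (Pos n)} (h : Ops H X S O)
    (hS : ∀ b ∈ S, fl n b = b) (hX : ∀ f ∈ X, f ^ p = 0) {N : Submodule k L} (hN : ∀ f ∈ X, N ≤ LinearMap.ker f)
    (g : List ℕ) (hg : ∀ b : Pos n, fl n b = b ∨ lo n g (vl b) ∨ lo n g (vl (fl n b)))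
    {test : List (ℕ × ℕ) → Bool} (ht : go test (rts n) [] = true) :
    ∃ l, test l = true ∧ l.length = S.card + O.card ∧ low n g l = true ∧ (∀ b ∈ S, vl b ∈ l) ∧
      (∀ b : Pos n, vl b ∈ l → fl n b = b → b ∈ S) ∧ ∀ (i : Fin n) (Ts : List ℕ), H.lam i ≠ 0 →
        (∀ T ∈ Ts, (Tset n T).card = i + 1) → (Ts.map (Tset n)).Nodup → cnt Ts l ≤ H.d - finrank k N := by
  obtain ⟨S', a1, a2, a3, a4, a5⟩ := hR.deg h hN g hg
  obtain ⟨l, b1, b2, b3⟩ := go_fin S' a2 ht
  have fx : ∀ b : Pos n, fl n b = b → lo n g (vl b) = false := fun b e => by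
    by_contra e'
    exact e' (not_lo_both g b (by rw [e]; simpa using e'))
  refine ⟨l, b1, b2.trans a1, List.all_eq_true.2 fun r hr => ?_, fun b hb => (b3 _).2 ⟨b, a4 hb, rfl⟩, fun b hb e => ?_,
    fun i Ts c1 c2 c3 => (hR.cnt_le H c1 c2 c3 b3).trans (Nat.sub_le_sub_left a3 _)⟩
  · obtain ⟨b, hb, rfl⟩ := (b3 r).1 hr
    have c1 := fl_fst b
    have c2 := fl_snd b
    have c3 := pos_lt b
    have c4 := b.1.2.2
    simp only [Bool.and_eq_true, Bool.not_eq_true', bne_iff_ne]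
    rcases a5 b hb with e | ⟨e, x, y, hx, hy, e'⟩
    · rw [hS b e] at c1 c2
      exact ⟨⟨fx b (hS b e), by simp only [vl]; omega⟩, by simp only [vl]; omega⟩
    · have c5 := hR.sq_ne hp hx hy (hX _ e')
      simp only [ne_eq, Fin.ext_iff] at c5
      exact ⟨⟨not_lo_both g b e, by simp only [vl]; omega⟩, by simp only [vl]; (clear * - c1 c5; omega)⟩
  · obtain ⟨b', hb', e'⟩ := (b3 _).1 hb
    obtain rfl := vl_inj e'
    exact (a5 b' hb').resolve_right fun c => by have c1 := c.1; rw [e, fx b' e] at c1; cases c1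

theorem cL_succ (hn : 2 ≤ n) {S : Finset (Pos n)} (hS : hi (by omega) ∈ S) (h1 : m0 H (Fin.last n) + 2 ≤ m0 H 0)
    (h2 : m0 H (Fin.last n) < m0 H (o1 hn)) (A : Finset (Fin n → ℤ))
    (hA : ∀ ν ∈ A, H.Ext ν ∧ ∃ b ∈ S, R.pair ν (true, b) < 0) : A.card + 1 ≤ H.cL S := by
  classical
  have e0 := hR.ext_perm H (Equiv.swap (o1 hn) (Fin.last n))
  let β : Pos n := ⟨(0, o1 hn), Nat.one_pos⟩
  let z : Pos n := ⟨(o1 hn, Fin.last n), show 1 < n from hn⟩
  have h3 := m0_anti H (Fin.zero_le (o1 hn))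
  have e1 := not_ext_sub e0 (x := (true, β)) (by
    rw [hR.pair_tw, Function.comp_apply, Function.comp_apply, sw_zero, Equiv.swap_apply_left]; omega)
  rw [← card_insert_of_notMem fun e => e1 (hA _ e).1]
  refine H.card_le_cL S _ fun μ hμ => ?_
  rcases mem_insert.1 hμ with rfl | hμ
  · obtain ⟨v, hv, v0⟩ := H.isWt_iff.1 e0.isWt
    have e2 : R.vec (true, z) = R.vec (true, hi (by omega)) + R.vec (false, β) := by
      rw [hR.vec_true, hR.vec_true, hR.vec_false, ← ps_add]; congr 1; simp only [z, β, hi]; abel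
    obtain ⟨N, e3, e4⟩ := H.br _ _ _ e2
    refine ⟨_, hS, H.E (false, β) 1 v, by rw [sub_eq_add_neg, ← R.wt_false]; exact H.E1_w _ hv, fun e => ?_⟩
    have e5 := LinearMap.congr_fun e3 v
    rw [LinearMap.sub_apply, Module.End.mul_apply, Module.End.mul_apply, e, e0.E_eq_zero (by
      rw [hR.pair_tw]; simp only [hi, Function.comp_apply, sw_zero, Equiv.swap_apply_right]; omega) Nat.one_pos hv,
      map_zero, sub_self, LinearMap.smul_apply, eq_comm, smul_eq_zero] at e5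
    refine e5.elim (e4 ((hR.lace.nz_iff (Fact.out : p.Prime).ne_one _ _).2 ⟨_, e2⟩)) fun e6 => v0 ((hR.x H).ext e0 ?_ hv e6)
    rw [hR.pair_tw]
    simp only [z, Function.comp_apply, Equiv.swap_apply_right, Equiv.swap_apply_left]; omega
  · obtain ⟨a1, b, hb, a2⟩ := hA μ hμ
    obtain ⟨v, hv, v0⟩ := H.isWt_iff.1 a1.isWt
    exact ⟨b, hb, v, hv, fun e => v0 ((hR.x H).ext a1 a2 hv e)⟩

theorem adj_cL (hn : 2 ≤ n) {i : Fin n} (hi0 : (i : ℕ) = 0) (h : H.lam i ≠ 0) (h' : H.lam i.rev ≠ 0) {S : Finset (Pos n)}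
    (hS : hi (by omega) ∈ S) : n * ((S.image fun b => b.1.1).card + (S.image fun b => b.1.2).card) + 1 ≤
      H.cL S + (S.image fun b => b.1.1).card * (S.image fun b => b.1.2).card := by
  set A := S.image fun b => b.1.1
  set B := S.image fun b => b.1.2
  have hr : ((i.rev : Fin n) : ℕ) = n - (i + 1) := Fin.val_rev i
  obtain ⟨C, c1, c2⟩ := hR.exists_ext_pair H h h' (by omega) S
    ((B ×ˢ univ \ B.diag ∪ univ ×ˢ A \ A.diag).image fun z => ({z.1}, {z.2})) fun z hz => by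
      obtain ⟨w, hw, rfl⟩ := mem_image.1 hz
      simp only [mem_union, mem_sdiff, mem_product, mem_univ, mem_diag, and_true, true_and, not_and] at hw
      have e : w.1 ≠ w.2 := hw.elim (fun e => e.2 e.1) fun e e' => e.2 (e' ▸ e.1) e'
      refine ⟨⟨disjoint_singleton.2 e, by rw [hi0]; rfl, by rw [hi0]; rfl⟩, ?_⟩
      rcases hw with ⟨e1, -⟩ | ⟨e1, -⟩ <;> obtain ⟨b, hb, e2⟩ := mem_image.1 e1 <;> refine ⟨b, hb, ?_⟩ <;>
        have e3 := pos_lt b <;> simp only [ne_eq, Fin.ext_iff] at e e2 <;>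
        simp only [ind, Pi.sub_apply, mem_singleton, Fin.ext_iff] <;> omega
  have c3 := hR.cL_succ hn hS (by
    have := m0_add_le H i (a := 0) (b := o1 hn) (Nat.zero_le _) (by show _ < 1; omega)
    have := m0_add_le H i.rev (a := o1 hn) (b := Fin.last n) (by show 1 ≤ _; omega) i.rev.2
    omega) (by
    have := m0_add_le H i.rev (a := o1 hn) (b := Fin.last n) (by show 1 ≤ _; omega) i.rev.2
    omega) C c2
  rw [c1, card_pairs] at c3
  have d1 := le_card_sdiff B.diag (B ×ˢ univ)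
  have d2 := le_card_sdiff A.diag (univ ×ˢ A)
  have d3 := card_union_add_card_inter (B ×ˢ univ \ B.diag) (univ ×ˢ A \ A.diag)
  have d4 := card_le_card (show (B ×ˢ univ \ B.diag) ∩ (univ ×ˢ A \ A.diag) ⊆ B ×ˢ A from fun z hz =>
    mem_product.2 ⟨(mem_product.1 (mem_sdiff.1 (mem_inter.1 hz).1).1).1, (mem_product.1 (mem_sdiff.1 (mem_inter.1 hz).2).1).2⟩)
  rw [card_product, diag_card, card_univ, Fintype.card_fin] at d1 d2
  rw [card_product] at d4
  rw [mul_add, mul_one, Nat.add_sub_cancel] at d1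
  rw [add_mul, one_mul, Nat.add_sub_cancel] at d2
  linarith only [c3, d1, d2, d3, d4]

theorem pair_theta {i : Fin n} (hi' : 2 * (i : ℕ) + 1 < n) (h : H.lam i ≠ 0) (h' : H.lam i.rev ≠ 0) {S : Finset (Pos n)}
    (hS : hi (by omega) ∈ S) : (n - 1).choose i * (n - i).choose (i + 1) ≤ H.cL S := by
  have h2 : (0 : Fin (n + 1)) ≠ Fin.last n := (hi (by omega : 1 ≤ n)).2.ne
  have h0 : ∀ T ∈ powersetCard i ((univ.erase (Fin.last n)).erase 0), Fin.last n ∉ T ∧ 0 ∉ T :=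
    fun T hT => ⟨fun e => notMem_erase _ _ (mem_of_mem_erase ((mem_powersetCard.1 hT).1 e)),
      fun e => notMem_erase _ _ ((mem_powersetCard.1 hT).1 e)⟩
  have h3 : ∀ T ∈ powersetCard i ((univ.erase (Fin.last n)).erase 0), (insert (Fin.last n) T).card = i + 1 :=
    fun T hT => by rw [card_insert_of_notMem (h0 T hT).1, (mem_powersetCard.1 hT).2]
  have h1 := hR.card_pair_le_cL H h h' hi' S (((powersetCard i ((univ.erase (Fin.last n)).erase 0)).sigma fun T =>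
    powersetCard (i + 1) (insert (Fin.last n) T)ᶜ).image fun z => (insert (Fin.last n) z.1, z.2)) fun z hz => by
      obtain ⟨⟨T, Z⟩, hw, rfl⟩ := mem_image.1 hz
      obtain ⟨hT, hZ⟩ := mem_sigma.1 hw
      obtain ⟨a1, a2⟩ := mem_powersetCard.1 hZ
      refine ⟨⟨disjoint_right.2 fun a ha => mem_compl.1 (a1 ha), h3 T hT, a2⟩, _, hS, ?_⟩
      have a3 : Fin.last n ∉ Z := fun e => mem_compl.1 (a1 e) (mem_insert_self _ _)
      simp only [hi, ind, Pi.sub_apply, mem_insert, h2, (h0 T hT).2, a3, true_or, or_self, if_true, if_false]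
      omega
  rwa [card_image_of_injOn fun z hz w hw e => by
      have e1 := congrArg (fun T => erase T (Fin.last n)) (congrArg Prod.fst e)
      simp only [erase_insert (h0 _ (mem_sigma.1 hz).1).1, erase_insert (h0 _ (mem_sigma.1 hw).1).1] at e1
      exact Sigma.ext e1 (heq_of_eq (congrArg Prod.snd e)),
    card_sigma, sum_congr rfl fun T hT => by rw [card_powersetCard, card_compl, h3 T hT, Fintype.card_fin], sum_const,
    card_powersetCard, card_erase_of_mem (mem_erase.2 ⟨h2, mem_univ _⟩), card_erase_of_mem (mem_univ _), card_univ,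
    Fintype.card_fin, Nat.add_sub_cancel, smul_eq_mul, Nat.add_sub_add_right] at h1

end IsA

theorem fix_two {R : RC (Fin 2) (Pos 2)} (hR : IsA R) {H : HW R p k L} [Fact p.Prime] [CharP k p] (hp : p = 2)
    (hl : H.lam = ![1, 1]) (g : H.GOp Fin.revPerm (fl 2)) :
    3 + finrank k (LinearMap.ker (g.g.toLinearMap - 1)) ≤ H.d ∧
      ∃ v, H.E (true, hi one_le_two) 1 v = 0 ∧ g.g v ≠ v := by
  have hm : m0 H = ![2, 1, 0] := by rw [m0, hl]; decide
  have ex : ∀ π : Equiv.Perm (Fin 3), H.Ext (tw (![2, 1, 0] ∘ π)) := fun π => hm ▸ hR.ext_perm H π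
  have e0 : H.Ext (tw ![2, 0, 1]) := (by decide : tw (![2, 1, 0] ∘ Equiv.swap (1 : Fin 3) 2) = tw ![2, 0, 1]) ▸ ex _
  have e1 : H.Ext (tw ![1, 2, 0]) := (by decide : tw (![2, 1, 0] ∘ Equiv.swap (0 : Fin 3) 1) = tw ![1, 2, 0]) ▸ ex _
  have e2 : H.Ext (tw ![0, 2, 1]) :=
    (by decide : tw (![2, 1, 0] ∘ (Equiv.swap 0 2 * Equiv.swap 1 2 : Equiv.Perm (Fin 3))) = tw ![0, 2, 1]) ▸ ex _
  have e3 : H.Ext (tw ![2, 1, 0]) := ex 1
  obtain ⟨v, hv, v0⟩ := H.isWt_iff.1 e0.isWt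
  obtain ⟨u, hu, u0⟩ := H.isWt_iff.1 e2.isWt
  let a : Pos 2 := ⟨(0, 1), by decide⟩
  let b : Pos 2 := ⟨(1, 2), by decide⟩
  have hv' : g.g v ∈ H.w (tw ![1, 2, 0]) :=
    (by decide : tw ![2, 0, 1] ∘ (Fin.revPerm : Equiv.Perm (Fin 2)).symm = tw ![1, 2, 0]) ▸ g.g_w _ _ hv
  have hh : H.E (false, a) 1 v ∈ H.w 0 := by
    have := H.E1_w (false, a) hv
    rwa [hR.wt_false, (by decide : tw ![2, 0, 1] + tw (ev a.1.2 - ev a.1.1) = 0)] at this
  have key : g.g (H.E (false, a) 1 v) ≠ H.E (false, a) 1 v := fun e => by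
    obtain ⟨ε, h1⟩ := g.g_E (false, a)
    obtain ⟨ε', h2⟩ := H.ef a
    have h3 := h2 _ v hv
    have two : ((2 : ℤ) : k) = 0 := by subst hp; exact_mod_cast CharP.cast_eq_zero k 2
    rw [e0.E_eq_zero (x := (true, a)) (by rw [hR.pair_tw]; decide) Nat.one_pos hv, map_zero, sub_zero, hR.pair_tw,
      (by decide : ![(2 : ℤ), 0, 1] a.1.1 - ![2, 0, 1] a.1.2 = 2), two, mul_zero, zero_smul, ← e, h1, pow_one, map_smul,
      (by decide : fl 2 a = b), smul_eq_zero] at h3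
    have h4 := LinearMap.congr_fun (H.br0 (true, a) (false, b) (by rw [hR.vec_true, hR.vec_false]; decide) (by
      rw [hR.vec_true, hR.vec_false, hR.isRt_add_iff (by decide) (by decide)]; decide)) (g.g v)
    rw [Module.End.mul_apply, Module.End.mul_apply, h3.resolve_left ε.ne_zero] at h4
    have h5 := H.E1_w (true, a) hv'
    rw [hR.wt_true, (by decide : tw ![1, 2, 0] + tw (ev a.1.1 - ev a.1.2) = tw ![2, 1, 0])] at h5
    have h6 := (hR.x H).ext e3 (x := (false, b)) (by rw [hR.pair_tw']; decide) h5 h4.symm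
    exact v0 (g.g.map_eq_zero_iff.1 ((hR.x H).ext e1 (x := (true, a)) (by rw [hR.pair_tw]; decide) hv' h6))
  refine ⟨fix_gen g ![tw ![2, 0, 1], tw ![0, 2, 1], 0] ![v, u, H.E (false, a) 1 v] (fun i => ?_) (by decide) fun i => ?_,
    v, e0.E_eq_zero (by rw [hR.pair_tw]; decide) Nat.one_pos hv, fun e => v0 ?_⟩
  · fin_cases i
    exacts [hv, hu, hh]
  · fin_cases i
    exacts [Or.inl ⟨v0, by decide⟩, Or.inl ⟨u0, by decide⟩, Or.inr ⟨key, rfl⟩]
  · rw [← H.pr_of_mem hv, ← e]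
    exact H.pr_of_ne hv' (by decide)

end Cfsg.Agent.TwoF.DC.TA
end

private theorem dce_bc54c4b6e4e2 : _root_.True := by
  try have : _root_.True := by simp only [_root_.Cfsg.Agent.TwoF.DC.TA.go.eq_def]
  try have : _root_.True := by simp only [_root_.Cfsg.Agent.TwoF.DC.TA.cnt.eq_1]
  try have : _root_.True := by simp only [_root_.Cfsg.Agent.TwoF.DC.TA.o1.congr_simp]
  try have : _root_.True := by simp only [_root_.Cfsg.Agent.TwoF.DC.TA.go.eq_2]
  try have : _root_.True := by simp only [_root_.Cfsg.Agent.TwoF.DC.TA.go.eq_1]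
  try have : _root_.True := by simp only [_root_.Cfsg.Agent.TwoF.DC.TA.lo.eq_1]
  try have : _root_.True := by simp only [_root_.Cfsg.Agent.TwoF.DC.TA.hi.eq_1]
  try have : _root_.True := by simp only [_root_.Cfsg.Agent.TwoF.DC.TA.r3.congr_simp]
  try have : _root_.True := by simp only [_root_.Cfsg.Agent.TwoF.DC.TA.o1.eq_1]
  try have : _root_.True := by simp only [_root_.Cfsg.Agent.TwoF.DC.TA.vl.eq_1]
  try have : _root_.True := by simp only [_root_.Cfsg.Agent.TwoF.DC.TA.Tset.eq_1]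
  exact _root_.True.intro
end

-- part: TwoF/DC/TA/Main
section
prune_inst 0x4343055203522000000180092230020647c0001920040800048200f460b41a242804208410e20051010268480180100681310001040000000000004000005002080aad60402740d0c040007000004400000000000000000000000000000000000000000000
set_option linter.all false
open scoped Cfsg.Agent.FastGrp

/-!
# TwoF, defining characteristic, type `A_n` (10): `CTG`, `BoxComb` (helper97)
-/

set_option autoImplicit false
set_option linter.unusedSectionVars false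

namespace Cfsg.Agent.TwoF.DC.TA

open Finset Module
open Cfsg.Agent.H356.TA (Pos)

theorem adj_num {n a b r c : ℕ} (hn : 3 ≤ n) (h1 : n * (a + b) + 1 ≤ c + a * b) (h2 : c ≤ 2 * r + 2) (h3 : r ≤ a * b)
    (h4 : a + b ≤ n + 1) (h5 : 1 ≤ r) : n = 3 ∧ 4 ≤ r := by
  have ha : 1 ≤ a := Nat.pos_of_ne_zero fun e => by rw [e] at h3; omega
  have hb : 1 ≤ b := Nat.pos_of_ne_zero fun e => by rw [e] at h3; omega
  by_cases h : 5 ≤ a + b
  · exfalso
    have h6 : (a + b) * (a + b) ≤ (n + 1) * (a + b) := Nat.mul_le_mul_right _ h4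
    have h7 : 5 * (a + b) ≤ (a + b) * (a + b) := Nat.mul_le_mul_right _ h
    linarith only [h1, h2, h3, h, h6, h7, sq_nonneg ((a : ℤ) - b)]
  · have : a ≤ 3 := by omega
    have : b ≤ 3 := by omega
    interval_cases a <;> interval_cases b <;> (clear * - hn h2 h5 h1 h3 h; omega)

variable {n : ℕ}

theorem sameCycle_fl {o b : Pos n} : (fl n).SameCycle o b ↔ b = o ∨ b = fl n o := by
  refine ⟨fun ⟨i, h⟩ => ?_, fun h => h.elim (fun e => e ▸ .refl _ _) fun e => ⟨1, by rw [zpow_one, e]⟩⟩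
  have h2 : fl n ^ (2 : ℤ) = 1 := by rw [zpow_two]; exact Equiv.ext fl_fl
  obtain ⟨j, rfl | rfl⟩ := Int.even_or_odd' i
  · rw [zpow_mul, h2, one_zpow] at h; exact Or.inl h.symm
  · rw [zpow_add, zpow_mul, h2, one_zpow, one_mul, zpow_one] at h; exact Or.inr h.symm

section mod

variable {R : RC (Fin n) (Pos n)} {p : ℕ} {k L : Type} [Field k] [AddCommGroup L] [Module k L] {H : HW R p k L}

theorem ops_of {O : Finset (Pos n)} {u : Pos n → Pos n → k} (h1 : ∀ o ∈ O, ∀ o' ∈ O, (fl n).SameCycle o o' → o = o')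
    (h2 : ∀ o ∈ O, ∀ b, u o b ≠ 0 ↔ (fl n).SameCycle o b) (h3 : ∀ o ∈ O, ∀ o' ∈ O, Commute (H.op (u o)) (H.op (u o'))) :
    Ops H {f | ∃ o ∈ O, f = H.op (u o)} (O.filter fun o => fl n o = o) (O.filter fun o => ¬ fl n o = o) where
  comm := by rintro _ ⟨o, ho, rfl⟩ _ ⟨o', ho', rfl⟩; exact h3 o ho o' ho'
  S_fl b hb := by rwa [(mem_filter.1 hb).2]
  S_op b hb := by
    obtain ⟨hb, e⟩ := mem_filter.1 hb
    refine ⟨u b b, (h2 b hb b).2 (.refl _ _), b, hb,
      (sum_eq_single (f := fun c => u b c • H.E (true, c) 1) b (fun c _ hc => ?_) fun h => (h (mem_univ _)).elim).symm⟩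
    rw [not_not.1 (mt (h2 b hb c).1 (by rw [sameCycle_fl, e]; simpa using hc)), zero_smul]
  O_ne o ho := by
    obtain ⟨ho, e⟩ := mem_filter.1 ho
    exact ⟨fun e' => e (mem_filter.1 e').2, e, fun e' => e (h1 o ho _ (mem_filter.1 e').1 (sameCycle_fl.2 (Or.inr rfl))).symm⟩
  O_op o ho := by
    obtain ⟨ho, e⟩ := mem_filter.1 ho
    refine ⟨u o o, u o (fl n o), (h2 o ho o).2 (.refl _ _), (h2 o ho _).2 (sameCycle_fl.2 (Or.inr rfl)), o, ho, ?_⟩
    rw [HW.op, ← sum_pair (f := fun b => u o b • H.E (true, b) 1) (Ne.symm e)]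
    refine sum_subset (subset_univ _) fun c _ hc => ?_
    rw [not_not.1 (mt (h2 o ho c).1 (by rw [sameCycle_fl]; simpa using hc)), zero_smul]

variable (hR : IsA R) [Fact p.Prime] [CharP k p]
include hR

theorem IsA.card_le_ab {S : Finset (Pos n)} (hA : R.Ab p S) :
    S.card ≤ (S.image fun b => b.1.1).card * (S.image fun b => b.1.2).card ∧
      (S.image fun b => b.1.1).card + (S.image fun b => b.1.2).card ≤ n + 1 := by
  refine ⟨card_le_mul fun b hb => ⟨mem_image_of_mem _ hb, mem_image_of_mem _ hb⟩, ?_⟩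
  rw [← card_union_of_disjoint]
  · exact (card_le_univ _).trans (by rw [Fintype.card_fin])
  refine disjoint_left.2 fun a h1 h2 => ?_
  obtain ⟨b, hb, rfl⟩ := mem_image.1 h1
  obtain ⟨b', hb', e⟩ := mem_image.1 h2
  exact (hR.ab_iff (Fact.out : p.Prime).ne_one S).1 hA b' hb' b hb e

theorem IsA.cg_inv (hn : 2 ≤ n) (hp : p = 2) (h : H.lam ∘ (Fin.revPerm : Equiv.Perm (Fin n)).symm = H.lam)
    (g : H.GOp Fin.revPerm (fl n)) {X : Set (Module.End k L)} {S0 O : Finset (Pos n)} (ho : Ops H X S0 O)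
    (hS : ∀ b ∈ S0, fl n b = b) (hX : ∀ f ∈ X, f ^ p = 0) {N : Submodule k L} (hN : ∀ f ∈ X, N ≤ LinearMap.ker f)
    {S : Finset (Pos n)} (hc : S.card = S0.card + O.card) (hA : R.Ab p S) (hI : R.Idl p S)
    (hk : finrank k N ≤ finrank k (H.kerL S))
    (hb : H.d - finrank k ↥(LinearMap.ker (g.g.toLinearMap - 1) ⊓ N) ≤ 2 * S.card + 2) : n = 3 ∧ Sg H.lam 1 := by
  have := H.fd
  have h' : ∀ i : Fin n, H.lam i.rev = H.lam i := fun i => congrFun h i
  have f1 := Submodule.finrank_mono (inf_le_left : LinearMap.ker (g.g.toLinearMap - 1) ⊓ N ≤ _)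
  have f2 := Submodule.finrank_mono (inf_le_right : LinearMap.ker (g.g.toLinearMap - 1) ⊓ N ≤ _)
  have f3 := H.cL_add S
  have f4 := hR.card_le_sq hA hI
  have th : S.card ≠ 0 → hi (by omega) ∈ S := fun e => hR.hi_mem _ (card_ne_zero.1 e) hI
  by_cases hA' : ∃ i : Fin n, H.lam i ≠ 0 ∧ 2 * (i : ℕ) + 1 < n
  · exfalso
    obtain ⟨i, h1, h2⟩ := hA'
    have h3 : H.lam i.rev ≠ 0 := by rwa [h']
    by_cases n2 : n = 2
    · subst n2
      obtain rfl : i = 0 := Fin.ext (by omega)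
      obtain ⟨a1, v, a2, a3⟩ := fix_two hR hp (funext fun j => by
        have := H.lam_lt 0
        have := h' 0
        fin_cases j
        · show H.lam 0 = 1; omega
        · show H.lam (Fin.rev 0) = 1; omega) g
      obtain ⟨l, b1, b2, b3, -, b5, -⟩ := hR.deg_low hp ho hS hX hN _ gen2 cg2
      simp only [b3, Bool.not_true, Bool.false_or, Bool.or_eq_true, beq_iff_eq, Bool.and_eq_true,
        List.contains_iff_mem] at b1
      rcases b1 with e | ⟨e, e'⟩
      · (clear * - hc hb f1 a1 b2 e; omega)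
      obtain ⟨x, hx, c1⟩ := ho.S_op _ (b5 (hi one_le_two) e' (by decide))
      have c2 := hR.adj_cL (H := H) le_rfl rfl h1 h3 (S := {hi one_le_two}) (mem_singleton_self _)
      have c3 := H.cL_add {hi one_le_two}
      have c4 := Submodule.finrank_lt_finrank_of_lt (show LinearMap.ker (g.g.toLinearMap - 1) ⊓ N < H.kerL {hi one_le_two} from
        lt_of_le_of_ne (fun w hw => H.mem_kerL.2 fun b hb => by
          rw [mem_singleton.1 hb]; exact (smul_eq_zero.1 (hN _ c1 hw.2)).resolve_left hx) fun e => by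
          have c5 : v ∈ H.kerL {hi one_le_two} := H.mem_kerL.2 fun b hb => by rw [mem_singleton.1 hb]; exact a2
          rw [← e] at c5
          exact a3 (sub_eq_zero.1 (LinearMap.mem_ker.1 c5.1)))
      rw [image_singleton, image_singleton, card_singleton, card_singleton] at c2
      omega
    by_cases r0 : S.card = 0
    · have := hR.fix_three (by omega) h g fun e => by rwa [show i = ⟨0, by omega⟩ from Fin.ext (by simp only; omega)] at h1
      (clear * - hb f1 r0 this; omega)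
    by_cases i0 : (i : ℕ) = 0
    · obtain ⟨a1, a2⟩ := hR.card_le_ab hA
      obtain ⟨rfl, a3⟩ := adj_num (by omega) (hR.adj_cL hn i0 h1 h3 (th r0)) (r := S.card) (by omega) a1 a2 (by omega)
      obtain ⟨l, b1, b2, b3, -⟩ := hR.deg_low hp ho hS hX hN _ gen3 cg3
      simp only [b3, Bool.not_true, Bool.false_or, decide_eq_true_iff] at b1
      omega
    have a1 := hR.pair_theta h2 h1 h3 (th r0)
    by_cases n4 : n = 4
    · subst n4
      obtain ⟨l, b1, b2, b3, -⟩ := hR.deg_low hp ho hS hX hN _ gen4 cg4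
      simp only [b3, Bool.not_true, Bool.false_or, decide_eq_true_iff] at b1
      rw [show (i : ℕ) = 1 by omega] at a1
      have : Nat.choose (4 - 1) 1 * Nat.choose (4 - 1) (1 + 1) = 9 := rfl
      (clear * - hc hk hb f2 f3 a1 b2 b1 this; omega)
    have a2 : 4 * (n - 1).choose 2 ≤ (n - 1).choose i * (n - i).choose (i + 1) := by
      by_cases i1 : (i : ℕ) = 1
      · rw [i1, Nat.choose_one_right]; exact Nat.mul_le_mul_right _ (by omega)
      · have := choose_le_mid (N := n - i) (a := 1) (m := i + 1) (by omega) (by omega)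
        rw [Nat.choose_one_right] at this
        rw [mul_comm]
        exact Nat.mul_le_mul (choose_le_mid (by omega) (by (clear * - h2 i0; omega))) (by omega)
    obtain ⟨t, rfl⟩ : ∃ t, n = t + 5 := ⟨n - 5, by omega⟩
    have a3 := two_choose_two (t + 3)
    rw [show t + 5 - 1 = t + 3 + 1 by omega] at a1 a2
    have a4 : H.cL S ≤ 2 * S.card + 2 := by (clear * - hk hb f2 f3; omega)
    nlinarith only [f4, a1, a2, a3, a4]
  have hB : ∀ j : Fin n, H.lam j ≠ 0 → 2 * (j : ℕ) + 1 = n := fun j hj => by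
    have h1 : ¬ 2 * (j : ℕ) + 1 < n := fun e => hA' ⟨j, hj, e⟩
    have h2 : ¬ 2 * ((j.rev : Fin n) : ℕ) + 1 < n := fun e => hA' ⟨j.rev, by rwa [h'], e⟩
    rw [Fin.val_rev] at h2
    omega
  obtain ⟨i, h1⟩ := H.exists_lam_pos
  have h2 := hB i h1.ne'
  by_cases i1 : (i : ℕ) = 1
  · refine ⟨by omega, i, i1, funext fun j => ?_⟩
    by_cases e : j = i
    · have := H.lam_lt i
      rw [e, Pi.single_eq_same]; omega
    · rw [Pi.single_eq_of_ne e]
      by_contra e'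
      exact e (Fin.ext (by have := hB j e'; omega))
  exfalso
  by_cases r0 : S.card = 0
  · have := hR.fix_three (by omega) h g fun e => by omega
    (clear * - hb f1 r0 this; omega)
  have a1 := hR.choose_theta H (by omega) h1.ne' (th r0)
  rw [show n - 1 = 2 * i by omega] at a1
  by_cases i4 : 4 ≤ (i : ℕ)
  · have := lt_choose_two i4
    have a2 : (n + 1) * (n + 1) = 4 * ((i + 1) * (i + 1)) := by rw [show n + 1 = 2 * (i + 1) by omega]; ring
    omega
  by_cases i3 : (i : ℕ) = 3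
  · obtain rfl : n = 7 := by omega
    rw [i3] at a1
    have a2 : Nat.choose (2 * 3) 3 = 20 := rfl
    have hp1 := (Fact.out : p.Prime).ne_one
    have a3 : (⟨(0, 6), by decide⟩ : Pos 7) ∈ S := by
      by_contra e
      have := card_le_mul (S := S) (A := univ) (B := {7}) fun b hb => ⟨mem_univ _, mem_singleton.2 (by
        by_contra e'
        exact e (hR.idl_mem hp1 hI hb (Fin.zero_le _) (show (b.1.2 : ℕ) ≤ 6 by
          have : (b.1.2 : ℕ) ≠ 7 := fun e => e' (Fin.ext e)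
          omega)))⟩
      rw [card_univ, Fintype.card_fin, card_singleton] at this; (clear * - hk hb f2 f3 a1 a2 this; omega)
    have a4 : (⟨(1, 7), by decide⟩ : Pos 7) ∈ S := by
      by_contra e
      have := card_le_mul (S := S) (A := {0}) (B := univ) fun b hb => ⟨mem_singleton.2 (by
        by_contra e'
        exact e (hR.idl_mem hp1 hI hb (show 1 ≤ (b.1.1 : ℕ) by
          have : (b.1.1 : ℕ) ≠ 0 := fun e => e' (Fin.ext e)
          omega) (Fin.le_last _))), mem_univ _⟩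
      rw [card_univ, Fintype.card_fin, card_singleton] at this; (clear * - hk hb f2 f3 a1 a2 this; omega)
    have a5 := hR.cnt_le H h1.ne' (Ts := T7) (fun T hT => by rw [i3]; exact of_decide_eq_true (List.mem_filter.1 hT).2)
      T7_nodup (S := {hi (by omega), ⟨(0, 6), by decide⟩, ⟨(1, 7), by decide⟩}) (l := [(0, 7), (0, 6), (1, 7)]) fun r => by
        simp only [List.mem_cons, List.not_mem_nil, or_false, mem_insert, mem_singleton, exists_eq_or_imp, exists_eq_left,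
          eq_comm (a := r)]
        rfl
    have a6 := H.cL_mono (show ({hi (by omega), ⟨(0, 6), by decide⟩, ⟨(1, 7), by decide⟩} : Finset (Pos 7)) ⊆ S from
      insert_subset (th r0) (insert_subset a3 (singleton_subset_iff.2 a4)))
    rw [cg7] at a5
    (clear * - hk hb f2 f3 f4 a5 a6; omega)
  obtain rfl : n = 5 := by (clear * - hn h2 i1 i4 i3; omega)
  have i2 : (i : ℕ) = 2 := by omega
  obtain ⟨l, a1, a2, a3, -, a5, a6⟩ := hR.deg_low hp ho hS hX hN _ gen5a cg5a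
  obtain ⟨l', b1, b2, b3, -, -, b6⟩ := hR.deg_low hp ho hS hX hN _ gen5b cg5b
  obtain ⟨l'', c1, c2, c3, c4, -, c6⟩ := hR.deg_low hp ho hS hX hN _ gen5c cg5c
  have a7 := a6 i T5 h1.ne' (by rw [i2]; exact T5_card) T5_nodup
  have b7 := b6 i T5 h1.ne' (by rw [i2]; exact T5_card) T5_nodup
  have c7 := c6 i T5 h1.ne' (by rw [i2]; exact T5_card) T5_nodup
  simp only [a3, b3, Bool.not_true, Bool.false_or, Bool.or_eq_true, beq_iff_eq, decide_eq_true_iff,
    List.contains_iff_mem] at a1 b1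
  have d1 : (1, 4) ∈ l'' := c4 ⟨(1, 4), by decide⟩ (a5 _ (a1.resolve_left (by (clear * - hc hk hb f2 r0 a2 a7; omega))) (by decide))
  simp only [c3, List.contains_iff_mem.2 d1, Bool.not_true, Bool.false_or, Bool.or_eq_true, beq_iff_eq,
    decide_eq_true_iff] at c1
  (clear * - hc hk hb f2 f3 b2 c2 b7 c7 b1 c1; omega)

end mod

theorem sg3 {l : Fin 3 → ℕ} {s t : ℕ} : Sg l s → Sg l t → s = t := by
  rintro ⟨i, rfl, rfl⟩ ⟨j, rfl, e⟩
  by_contra e'
  have := congrFun e i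
  rw [Pi.single_eq_same, Pi.single_eq_of_ne fun e => e' (by rw [e])] at this
  cases this

theorem cls3 : ∀ l : Fin 3 → Fin 2, let l' := fun i => (l i : ℕ)
    l' ∘ (Fin.revPerm : Equiv.Perm (Fin 3)).symm = l' ∨ l' = Pi.single 0 1 ∨ l' = Pi.single 2 1 ∨ 3 ≤ lv l' 1 := by decide

variable {p : ℕ} {k G : Type} [Field k] [Group G] [Fact p.Prime] [CharP k p] [Infinite k] {T S : Type} [Group T]
  [Finite T] [Group S]

theorem StdA.ctg3 {D : RDat p (Fin 3) (Pos 3) k G} {M : Std D T S} (hM : StdA M) (hp : p = 2) (F : Fam D (M.gι M.σ))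
    (hd : ∀ j, F.dbl j = false) {S' : Finset (Pos 3)} (hA : D.R.Ab p S') (hI : D.R.Idl p S') (hr : S'.card ≤ 3)
    (t : F.J → ℕ) (ht : ∑ j, t j ≤ 4 * S'.card + 4) (inv : F.J → Prop) (h0 : ∃ j, inv j)
    (h1 : ∀ j, inv j → Sg (F.H j).lam 1 ∧ 2 ≤ t j ∧ 2 * (F.H j).cL S' ≤ t j)
    (h2 : ∀ j, ¬ inv j → (F.H j).lam ∘ (Fin.revPerm : Equiv.Perm (Fin 3)).symm ≠ (F.H j).lam ∧
      (F.H j).d + (F.H j).cL S' ≤ t j) : M.Q F := by
  classical
  have hR := hM.isA
  obtain ⟨j0, h0⟩ := h0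
  obtain ⟨x, hx, hx'⟩ : ∃ x : ℕ, (∀ j, inv j → x ≤ t j) ∧
      ((S'.card = 0 ∧ x = 2) ∨ (S'.card = 1 ∧ x = 4) ∨ (2 ≤ S'.card ∧ x = 6)) := by
    by_cases e0 : S'.card = 0
    · exact ⟨2, fun j hj => (h1 j hj).2.1, Or.inl ⟨e0, rfl⟩⟩
    by_cases e1 : S'.card = 1
    · refine ⟨4, fun j hj => ?_, Or.inr (Or.inl ⟨e1, rfl⟩)⟩
      obtain ⟨i, a1, a2⟩ := (h1 j hj).1.ne
      have a3 := hR.choose_theta _ (by omega) a2 (hR.hi_mem _ (card_ne_zero.1 e0) hI)
      have a4 := (h1 j hj).2.2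
      rw [a1, Nat.choose_one_right] at a3; omega
    · refine ⟨6, fun j hj => ?_, Or.inr (Or.inr ⟨by omega, rfl⟩)⟩
      obtain ⟨i, a1, a2⟩ := (h1 j hj).1.ne
      obtain ⟨l, b1, b2, b3⟩ := go_fin S' ((hR.ab_iff (Fact.out : p.Prime).ne_one S').1 hA) bg3
      have b4 := hR.cnt_le _ a2 (by rw [a1]; exact T3_card) T3_nodup b3
      have a4 := (h1 j hj).2.2
      simp only [Bool.or_eq_true, decide_eq_true_iff] at b1
      omega
  have c1 : ∀ j, S'.card ≠ 0 → 1 ≤ (F.H j).cL S' :=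
    fun j e => (F.H j).one_le_cL' (card_ne_zero.1 e) fun b => hR.E_ne _ (true, b)
  have cl : ∀ j, ¬ inv j → Sg (F.H j).lam 0 ∨ Sg (F.H j).lam 2 := fun j hj => by
    rcases cls3 fun i => ⟨(F.H j).lam i, hp ▸ (F.H j).lam_lt i⟩ with e | e | e | e
    · exact ((h2 j hj).1 e).elim
    · exact Or.inl ⟨0, rfl, e⟩
    · exact Or.inr ⟨2, rfl, e⟩
    exfalso
    have a1 := hR.cL_three (F.H j) (κ := 1) e
    have a2 := (F.H j).cL_lt_d (MM 1)
    have a3 := sum_le_sum_of_subset (f := t) (subset_univ {j0, j})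
    rw [sum_pair (show j0 ≠ j from fun e => hj (e ▸ h0))] at a3
    have a4 := (h2 j hj).2
    have a5 := hx j0 h0
    have a6 := c1 j
    have a7 : ((1 : Fin 3) + 1 : ℕ) * (3 - (1 : Fin 3)) = 4 := rfl
    omega
  have both : ∀ j j', Sg (F.H j).lam 0 → Sg (F.H j').lam 2 → False := fun j j' e e' => by
    have n1 : ¬ inv j := fun c => by have := sg3 e (h1 j c).1; omega
    have n2 : ¬ inv j' := fun c => by have := sg3 e' (h1 j' c).1; omega
    have n3 : j ≠ j' := by rintro rfl; have := sg3 e e'; omega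
    have a3 := sum_le_sum_of_subset (f := t) (subset_univ {j0, j, j'})
    rw [sum_insert (by rw [mem_insert, mem_singleton]; rintro (rfl | rfl); exacts [n1 h0, n2 h0]), sum_pair n3] at a3
    obtain ⟨i, b1, b2⟩ := e.ne
    obtain ⟨i', b3, b4⟩ := e'.ne
    have a1 := hR.nat_le_cL _ b1 b2 S'
    have a2 := hR.dual_le_cL _ b3 b4 S'
    have a4 := (h2 j n1).2
    have a5 := (h2 j' n2).2
    have a6 := hR.succ_le_d (F.H j)
    have a7 := hR.succ_le_d (F.H j')
    have a8 := hx j0 h0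
    have a9 := (hR.card_le_ab hA).1
    generalize (S'.image fun b => b.1.1).card = α at a2 a9
    generalize (S'.image fun b => b.1.2).card = β at a1 a9
    have a10 : α ≤ 3 := by omega
    have a11 : β ≤ 3 := by omega
    interval_cases α <;> interval_cases β <;> omega
  obtain ⟨A, B, mA, mB, hs⟩ : ∃ A B : Finset F.J, (∀ j, j ∈ A ↔ inv j) ∧ (∀ j, j ∈ B ↔ ¬ inv j) ∧
      ∀ f : F.J → ℕ, ∑ j, f j = ∑ j ∈ A, f j + ∑ j ∈ B, f j :=
    ⟨univ.filter inv, univ.filter fun j => ¬ inv j, by simp, by simp, fun f => (sum_filter_add_sum_filter_not _ _ f).symm⟩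
  have lo : ∀ (s : Finset F.J) (f : F.J → ℕ) c, (∀ j ∈ s, c ≤ f j) → s.card * c ≤ ∑ j ∈ s, f j := card_nsmul_le_sum
  have up : ∀ (s : Finset F.J) (f : F.J → ℕ) c, (∀ j ∈ s, f j ≤ c) → ∑ j ∈ s, f j ≤ s.card * c := sum_le_card_nsmul
  have cnt2 : 1 ≤ A.card := card_pos.2 ⟨j0, (mA _).2 h0⟩
  have cnt3 : 3 * A.card + B.card ≤ 6 := by
    have a1 := lo A t x fun j hj => hx j ((mA j).1 hj)
    have a2 := lo B t 4 fun j hj => by have := (h2 j ((mB j).1 hj)).2; have := hR.succ_le_d (F.H j); omega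
    have a3 : S'.card ≠ 0 → _ := fun e => lo B t 5 fun j hj => by
      have := (h2 j ((mB j).1 hj)).2; have := hR.succ_le_d (F.H j); have := c1 j e; omega
    have a4 := hs t
    rcases hx' with ⟨e, rfl⟩ | ⟨e, rfl⟩ | ⟨e, rfl⟩ <;> omega
  rcases hM.gr M.σ with e | ⟨-, e, -⟩
  · have key : ∀ κ : Fin 3, ((κ : ℕ) + 1) * (3 - κ) = 3 → (∀ j, inv j → (F.H j).cG (MM κ) ≤ 3) →
        (∀ j, ¬ inv j → (F.H j).cG (MM κ) ≤ 1) → M.Q F := fun κ a1 a2 a3 => hM.good e (κ := κ) (by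
      rw [← valG_MM F hR, card_MM, a1, Fam.valG, hs]
      refine (add_le_add (up _ _ 6 fun j hj => ?_) (up _ _ 2 fun j hj => ?_)).trans (by omega)
      · have := a2 j ((mA j).1 hj)
        rw [hd j, if_neg (by simp)]; omega
      · have := a3 j ((mB j).1 hj)
        rw [hd j, if_neg (by simp)]; omega)
    have l1 : ∀ j, inv j → (F.H j).lam = Pi.single 1 1 := fun j hj => by
      obtain ⟨i, a1, a2⟩ := (h1 j hj).1
      rwa [show i = 1 from Fin.ext a1] at a2
    by_cases e' : ∃ j, Sg (F.H j).lam 0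
    · obtain ⟨j', e'⟩ := e'
      refine key 2 rfl (fun j hj => hR.cG_single_le _ (l1 j hj) _ {{0, 3}, {1, 3}, {2, 3}} (by decide +kernel)) fun j hj => ?_
      exact (hR.cG_nat _ ((cl j hj).resolve_right (both j' j e')) _).trans (by rw [image_snd_MM hR]; rfl)
    · refine key 0 rfl (fun j hj => hR.cG_single_le _ (l1 j hj) _ {{1, 2}, {1, 3}, {2, 3}} (by decide +kernel)) fun j hj => ?_
      exact (hR.cG_dual _ ((cl j hj).resolve_left fun c => e' ⟨j, c⟩) _).trans (by rw [image_fst_MM hR]; rfl)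
  · have all : ∀ j, inv j := fun j => by
      by_contra c
      have a1 := (F.lam_π j).trans (congrArg (fun π : Equiv.Perm (Fin 3) => (F.H j).lam ∘ π.symm) e)
      rcases cl j c with b | b
      · exact both j _ b (a1 ▸ b.rev)
      · exact both _ j (a1 ▸ b.rev) b
    refine Or.inr (goodT3 hR hp F hd (by rw [eq_univ_of_forall fun j => (mA j).2 (all j), card_univ] at cnt3; omega)
      (fun j => (h1 j (all j)).1) M.f_pos ((sub3'_iff _ _ _).1 (hM.sub hp fun c => ?_)))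
    rw [c, map_one] at e
    exact absurd e (by decide)

variable {D : RDat p (Fin n) (Pos n) k G} {M : Std D T S} (hM : StdA M)
include hM

theorem StdA.ctg (hn : 2 ≤ n) (hp : p = 2) : CTG D (M.gι M.σ) Fin.revPerm (fl n) M.Q := by
  classical
  intro F hd g h0 _ O u h1 h2 h3 h4 _ S' h6 hA hI h7 h8
  have hR := hM.isA
  have ops := fun j => ops_of (H := F.H j) h1 h2 (h3 j)
  have hS : ∀ b ∈ O.filter fun o => fl n o = o, fl n b = b := fun b hb => (mem_filter.1 hb).2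
  have hX : ∀ j, ∀ f ∈ {f | ∃ o ∈ O, f = (F.H j).op (u o)}, f ^ p = 0 := by rintro j _ ⟨o, ho, rfl⟩; exact h4 j o ho
  have hN : ∀ j, ∀ f ∈ {f | ∃ o ∈ O, f = (F.H j).op (u o)}, ⨅ o ∈ O, LinearMap.ker ((F.H j).op (u o)) ≤ LinearMap.ker f := by
    rintro j _ ⟨o, ho, rfl⟩; exact iInf₂_le o ho
  have hc : S'.card = (O.filter fun o => fl n o = o).card + (O.filter fun o => ¬ fl n o = o).card := by
    rw [card_filter_add_card_filter_not, h6]
  rw [← h6] at h8
  have one := fun j => (single_le_sum (fun _ _ => Nat.zero_le _) (mem_univ j)).trans h8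
  have inv : ∀ j, (F.H j).lam ∘ (Fin.revPerm : Equiv.Perm (Fin n)).symm = (F.H j).lam → n = 3 ∧ Sg (F.H j).lam 1 :=
    fun j hj => hR.cg_inv hn hp hj (g j hj) (ops j) hS (hX j) (hN j) hc hA hI (h7 j) (by
      have := one j; rw [dif_pos hj] at this; omega)
  obtain ⟨j0, h0⟩ := h0
  obtain rfl := (inv j0 h0).1
  obtain ⟨l, b1, b2, b3, -⟩ := hR.deg_low hp (ops j0) hS (hX j0) (hN j0) _ gen3 cg3
  simp only [b3, Bool.not_true, Bool.false_or, decide_eq_true_iff] at b1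
  refine hM.ctg3 hp F hd hA hI (by omega) _ h8 _ ⟨j0, h0⟩ (fun j hj => ?_) fun j hj => ⟨hj, ?_⟩
  · have := (F.H j).fd
    have f1 := Submodule.finrank_mono (inf_le_left : LinearMap.ker ((g j hj).g.toLinearMap - 1) ⊓
      ⨅ o ∈ O, LinearMap.ker ((F.H j).op (u o)) ≤ _)
    have f2 := Submodule.finrank_mono (inf_le_right : LinearMap.ker ((g j hj).g.toLinearMap - 1) ⊓
      ⨅ o ∈ O, LinearMap.ker ((F.H j).op (u o)) ≤ _)
    have f3 := (F.H j).cL_add S'
    have f4 := hR.fix_one hn hj (g j hj)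
    have f5 := h7 j
    rw [dif_pos hj]
    exact ⟨(inv j hj).2, by omega, by omega⟩
  · have f3 := (F.H j).cL_add S'
    have f5 := h7 j
    rw [dif_neg hj]
    omega

theorem StdA.two {γ : M.Gr} (h1 : γ ≠ 1) (h2 : γ ^ p = 1) :
    2 ≤ n ∧ p = 2 ∧ M.gι γ = Fin.revPerm ∧ M.gΦ γ = fl n := by
  obtain ⟨hn, e1, e2⟩ := (hM.gr γ).resolve_left h1
  refine ⟨hn, ?_, e1, e2⟩
  by_contra hp
  obtain ⟨j, hj⟩ := (Fact.out : p.Prime).odd_of_ne_two hp
  have h3 : γ ^ 2 = 1 := M.gι_inj (by rw [map_pow, e1, map_one, sq]; exact Equiv.ext Fin.rev_rev)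
  rw [show γ ^ p = γ ^ (2 * j + 1) by rw [← hj], pow_succ, pow_mul, h3, one_pow, one_mul] at h2
  exact h1 h2

theorem StdA.full (hn : 1 ≤ n) : M.Full fun _ => True where
  aut := hM.aut
  ex := ⟨fun _ => 1, fun _ => (Fact.out : p.Prime).one_lt, fun e => one_ne_zero (congrFun e ⟨0, hn⟩), trivial⟩
  ok_gr _ _ _ := trivial
  faith := faithA hM.isA p k _
  ct := hM.ct
  bg γ h1 h2 _ := by obtain ⟨a, -, e, -⟩ := hM.two h1 h2; rw [e]; exact hM.isA.bg a k
  ctg γ h1 h2 _ := by obtain ⟨a, b, e, e'⟩ := hM.two h1 h2; rw [e, e']; exact hM.ctg a b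
  ctf := hM.ctf hn
  eight := by
    rintro ⟨γ, γ', h⟩
    rcases hM.gr γ with rfl | ⟨-, e, -⟩
    · exact (h (Commute.one_left _)).elim
    rcases hM.gr γ' with rfl | ⟨-, e', -⟩
    · exact (h (Commute.one_right _)).elim
    rw [M.gι_inj (e.trans e'.symm)] at h
    exact (h (Commute.refl _)).elim

omit hM in
/-- **the combinatorics of type `A_n`** -/
theorem boxComb : BoxComb := fun _ _ _ _ _ _ _ _ _ _ _ _ _ _ _ _ hn hM => hM.full hn

end Cfsg.Agent.TwoF.DC.TA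

private theorem dce_3392a482f8ff : _root_.True := by
  try have : _root_.True := by simp only [_root_.Cfsg.Agent.TwoF.DC.Fam.valG.eq_1]
  try have : _root_.True := by simp only [_root_.Cfsg.Agent.TwoF.DC.TA.hi.congr_simp]
  exact _root_.True.intro
end
end
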